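import Cfsg.Agent.GHM.D16
import Cfsg.Agent.GHB.A5
import Cfsg.Agent.Class.Four.Tools
import Cfsg.Agent.Trans.StrongAlperin
import Cfsg.Agent.S3102
import Cfsg.Agent.S0503
import Cfsg.Agent.G2T.G2Syl

/-!
# Simple groups of sectional 2-rank at most four: tools
-/

set_option autoImplicit false

namespace Cfsg.Lib.GHM

open Subgroup Cfsg.Lib.Trans Cfsg.Lib.Gold Cfsg.Lib.Rank2
open scoped commutatorElement

universe u

variable {G : Type u} [Group G] {S : Sylow 2 G}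
  {T P Q M Z U W A B V F : Subgroup G} {d s z v w c t y x n g : G}

theorem mem_zp (h : z * z = 1) : x ∈ zpowers z ↔ x = 1 ∨ x = z := by
  refine ⟨?_, by rintro (rfl | rfl); exacts [one_mem _, mem_zpowers _]⟩
  rintro ⟨k, rfl⟩
  have e : z ^ (2 : ℤ) = 1 := by rw [zpow_two, h]
  obtain ⟨j, rfl | rfl⟩ := Int.even_or_odd' k
  · left; simp [zpow_mul, e]
  · right; simp [zpow_add, zpow_mul, e]

theorem inv_eq (h : z * z = 1) : z⁻¹ = z := inv_eq_of_mul_eq_one_right h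

theorem comm_of_sq (h : ∀ b ∈ B, b * b = 1) (hx : x ∈ B) (hy : y ∈ B) : x * y = y * x := by
  rw [← inv_eq (h _ (mul_mem hx hy)), mul_inv_rev, inv_eq (h _ hx), inv_eq (h _ hy)]

theorem mem_F4 (h1 : z * z = 1) (h2 : v * v = 1) (h3 : z * v = v * z) :
    x ∈ F4 z v ↔ x = 1 ∨ x = z ∨ x = v ∨ x = z * v := by
  rw [GHB.mem_adj (fun b hb => by
    rcases (mem_zp h1).1 hb with rfl | rfl
    · simp
    · rw [← h3, mul_inv_cancel_right]; exact hb) (h2 ▸ one_mem _), mem_zp h1, mem_zp h1,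
    inv_mul_eq_one, inv_mul_eq_iff_eq_mul, ← h3, eq_comm (a := v), or_assoc]

theorem cs_comm (h : c ∈ Cs P) (hx : x ∈ P) : c * x = x * c := (mem_centralizer_iff.1 h x hx).symm

theorem cs_conj (h : c ∈ Cs P) (hx : x ∈ P) : c * x * c⁻¹ = x := by
  rw [cs_comm h hx, mul_inv_cancel_right]

theorem cs_of (h : ∀ x ∈ P, c * x = x * c) : c ∈ Cs P :=
  mem_centralizer_iff.2 fun x hx => (h x hx).symm

theorem cs_ns (h : c ∈ Cs P) (hn : n ∈ Ns P) : n * c * n⁻¹ ∈ Cs P :=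
  mem_normalizer_conj (normalizer_le_normalizer_centralizer P hn) h

theorem cs_mono (h : Q ≤ P) : Cs P ≤ Cs Q := centralizer_le h

theorem cs_le_ns (h : Q ≤ P) : Cs P ≤ Ns Q := (cs_mono h).trans (centralizer_le_normalizer _)

theorem ns_of [Finite G] (h : ∀ x ∈ P, n * x * n⁻¹ ∈ P) : n ∈ Ns P :=
  mem_normalizer_of_cj_le (cj_le_iff.2 h)

theorem conj_eq_cm (a b : G) : a * b * a⁻¹ = ⁅a, b⁆ * b := by
  rw [commutatorElement_def]; group

/-- The elements normalising `W` that are trivial on `U` modulo `W`. -/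
def Tv (W U : Subgroup G) : Subgroup G where
  carrier := {g | g ∈ Ns W ∧ ∀ u ∈ U, ⁅g, u⁆ ∈ W}
  one_mem' := ⟨one_mem _, fun u _ => by simp⟩
  mul_mem' {a b} ha hb := ⟨mul_mem ha.1 hb.1, fun u hu => by
    have : ⁅a * b, u⁆ = a * ⁅b, u⁆ * a⁻¹ * ⁅a, u⁆ := by simp only [commutatorElement_def]; group
    exact this ▸ mul_mem (mem_normalizer_conj ha.1 (hb.2 u hu)) (ha.2 u hu)⟩
  inv_mem' {a} ha := ⟨inv_mem ha.1, fun u hu => by
    have : ⁅a⁻¹, u⁆ = a⁻¹ * ⁅a, u⁆⁻¹ * a := by simp only [commutatorElement_def]; group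
    exact this ▸ mem_normalizer_conj' ha.1 (inv_mem (ha.2 u hu))⟩

theorem mem_Tv : g ∈ Tv W U ↔ g ∈ Ns W ∧ ∀ u ∈ U, ⁅g, u⁆ ∈ W := Iff.rfl

theorem Tv_conj (hg : g ∈ Tv W U) (h1 : n ∈ Ns W) (h2 : n ∈ Ns U) : n * g * n⁻¹ ∈ Tv W U :=
  ⟨mul_mem (mul_mem h1 hg.1) (inv_mem h1), fun u hu => by
    have : ⁅n * g * n⁻¹, u⁆ = n * ⁅g, n⁻¹ * u * n⁆ * n⁻¹ := by
      simp only [commutatorElement_def]; group
    exact this ▸ mem_normalizer_conj h1 (hg.2 _ (mem_normalizer_conj' h2 hu))⟩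

theorem cs_le_Tv (h1 : W ≤ P) (h2 : U ≤ P) : Cs P ≤ Tv W U := fun _ hc =>
  ⟨cs_le_ns h1 hc, fun u hu => by
    rw [commutatorElement_eq_one_iff_mul_comm.2 (cs_comm hc (h2 hu))]; exact one_mem _⟩

theorem mem_of_cube (hU : IsPGroup 2 U) (hc : c ∈ U) (h : c ^ 3 ∈ Z) : c ∈ Z := by
  obtain ⟨k, hk⟩ := hU ⟨c, hc⟩
  have e : c ^ 2 ^ k = 1 := congrArg Subtype.val hk
  obtain ⟨m, hm⟩ := exists_pow_eq_self_of_coprime (x := c) (n := 3)
    (Nat.Coprime.coprime_dvd_right (orderOf_dvd_of_pow_eq_one e)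
      (Nat.Coprime.pow_right k (by norm_num)))
  exact hm ▸ pow_mem h m

theorem cube (d x : G) : d * (d * (d * x * d⁻¹) * d⁻¹) * d⁻¹ = d ^ 3 * x * (d ^ 3)⁻¹ := by
  rw [pow_succ, sq]; group

/-- coprime action: `[U, d, d] = [U, d]` -/
theorem cop (hU : IsPGroup 2 U) (_h1 : d ∈ Ns U) (h2 : d ^ 3 ∈ Cs U) (_h3 : Z ≤ W) (h4 : W ≤ U)
    (h5 : U ≤ Ns Z) (h5' : d ∈ Ns Z) (h6 : ∀ u ∈ U, ⁅d, u⁆ ∈ W) (h7 : ∀ u ∈ W, ⁅d, u⁆ ∈ Z) :
    ∀ u ∈ U, ⁅d, u⁆ ∈ Z := fun u hu => by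
  have hc := h6 u hu
  have he := h7 _ hc
  refine mem_of_cube hU (h4 hc) ?_
  have e3 := (cube d u).trans (cs_conj h2 hu)
  have e1 := conj_eq_cm d u
  have e2 := conj_eq_cm d ⁅d, u⁆
  generalize ⁅d, ⁅d, u⁆⁆ = e at he e2
  generalize ⁅d, u⁆ = c at hc e1 e2
  have e4 : d * e * d⁻¹ * e * (c * e * c⁻¹) * c ^ 3 * u = u := by
    calc _ = d * e * d⁻¹ * (e * c) * (e * c) * (c * u) := by rw [pow_succ, sq]; group
      _ = d * e * d⁻¹ * (d * c * d⁻¹) * (d * c * d⁻¹) * (d * u * d⁻¹) := by rw [e2, e1]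
      _ = d * (e * c * (c * u)) * d⁻¹ := by group
      _ = d * ((d * c * d⁻¹) * (d * u * d⁻¹)) * d⁻¹ := by rw [e2, e1]
      _ = d * (d * (c * u) * d⁻¹) * d⁻¹ := by group
      _ = u := by rw [← e1, e3]
  rw [mul_eq_right] at e4
  rw [eq_inv_of_mul_eq_one_right e4]
  exact inv_mem (mul_mem (mul_mem (mem_normalizer_conj h5' he) he)
    (mem_normalizer_conj (h5 (h4 hc)) he))

namespace Tri

variable (h : Tri T P d s)
include h

theorem s2 : s * s ∈ P := (h.idx s h.sS h.sN).resolve_left h.sP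

theorem pP : IsPGroup 2 P := h.syl.isPGroup.to_le (le_inf h.le le_normalizer)

theorem symm : Tri T P d⁻¹ s :=
  { h with
    dN := inv_mem h.dN
    d3 := by rw [inv_pow]; exact inv_mem h.d3
    dC := fun e => h.dC (inv_mem_iff.1 e)
    inv := by
      have := inv_mem (cs_ns h.inv h.dN)
      rwa [show (d * (s * d * s⁻¹ * d) * d⁻¹)⁻¹ = s * d⁻¹ * s⁻¹ * d⁻¹ by group] at this }

theorem mulC (hc : c ∈ Cs P) : Tri T P (d * c) s :=
  { h with
    dN := mul_mem h.dN (cs_le_ns le_rfl hc)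
    d3 := by
      have := mul_mem (mul_mem (mul_mem (cs_ns hc h.dN) (cs_ns (cs_ns hc h.dN) h.dN)) h.d3) hc
      rwa [show d * c * d⁻¹ * (d * (d * c * d⁻¹) * d⁻¹) * d ^ 3 * c = (d * c) ^ 3 by
        simp only [pow_succ, pow_zero]; group] at this
    dC := fun e => h.dC ((mul_mem_cancel_right hc).1 e)
    inv := by
      have := mul_mem (mul_mem h.inv (cs_ns (cs_ns hc h.sN) (inv_mem h.dN))) hc
      rwa [show s * d * s⁻¹ * d * (d⁻¹ * (s * c * s⁻¹) * d⁻¹⁻¹) * c =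
        s * (d * c) * s⁻¹ * (d * c) by group] at this }

theorem cj (hn : n ∈ Ns T) : Tri T (Trans.cj n P) (n * d * n⁻¹) (n * s * n⁻¹) := by
  have e := cj_eq_of_mem_normalizer hn
  have hN : ∀ x, n * x * n⁻¹ ∈ Ns (Trans.cj n P) ↔ x ∈ Ns P := fun x => by
    unfold Ns; rw [← cj_normalizer, conj_mem_cj]
  have hC : ∀ x, n * x * n⁻¹ ∈ Cs (Trans.cj n P) ↔ x ∈ Cs P := fun x => by
    unfold Cs; rw [← cj_centralizer, conj_mem_cj]
  have hx : ∀ x : G, x = n * (n⁻¹ * x * n) * n⁻¹ := fun x => by group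
  refine ⟨e ▸ cj_mono n h.le, (hN _).2 h.dN, by rw [conj_pow]; exact (hC _).2 h.d3,
    fun a => h.dC ((hC _).1 a), mem_normalizer_conj hn h.sS, (hN _).2 h.sN,
    fun a => h.sP (conj_mem_cj.1 a), ?_, fun x h1 h2 => mem_cj.2 (h.cent _
      (mem_normalizer_conj' hn h1) ((hC _).1 (hx x ▸ h2))), fun x h1 h2 => ?_, ?_⟩
  · have := (hC _).2 h.inv
    rwa [show n * (s * d * s⁻¹ * d) * n⁻¹ =
      n * s * n⁻¹ * (n * d * n⁻¹) * (n * s * n⁻¹)⁻¹ * (n * d * n⁻¹) by group] at this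
  · refine (h.idx _ (mem_normalizer_conj' hn h1) ((hN _).1 (hx x ▸ h2))).imp mem_cj.2 fun a => ?_
    rw [mem_cj]
    rwa [show n⁻¹ * (x * (n * s * n⁻¹)) * n = n⁻¹ * x * n * s by group]
  · have := h.syl.cj n
    rwa [cj_inf, e, cj_normalizer] at this

theorem dP (hx : x ∈ P) : d * x * d⁻¹ ∈ P := mem_normalizer_conj h.dN hx

/-- `s` inverts `d` on `P` -/
theorem sd (hx : x ∈ P) : s * (d * x * d⁻¹) * s⁻¹ = d⁻¹ * (s * x * s⁻¹) * d := by
  rw [← cs_conj h.inv (mem_normalizer_conj' h.dN (mem_normalizer_conj h.sN hx))]; group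

theorem ddd (hx : x ∈ P) : d * (d * (d * x * d⁻¹) * d⁻¹) * d⁻¹ = x :=
  (cube d x).trans (cs_conj h.d3 hx)

theorem dd (hx : x ∈ P) : d⁻¹ * x * d = d * (d * x * d⁻¹) * d⁻¹ := by
  conv_lhs => rw [← h.ddd hx]
  group

/-- an element of `N_S(P) ∖ P` that is trivial on an invariant section forces `d` to be trivial -/
theorem stab (h1 : W ≤ U) (h2 : U ≤ P) (h3 : P ≤ Ns W ⊓ Ns U)
    (h4 : d ∈ Ns W ⊓ Ns U) (hx : x ∈ T) (hxN : x ∈ Ns P) (hxP : x ∉ P) (h5 : x ∈ Ns W)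
    (h6 : ∀ u ∈ U, ⁅x, u⁆ ∈ W) : ∀ u ∈ U, ⁅d, u⁆ ∈ W := by
  have hK : x ∈ Tv W U := ⟨h5, h6⟩
  have hC := cs_le_Tv (h1.trans h2) h2
  have hp := (h.idx x hx hxN).resolve_left hxP
  obtain ⟨p, rfl⟩ : ∃ p, x = p * s⁻¹ := ⟨x * s, by group⟩
  rw [inv_mul_cancel_right] at hp
  have c1 := cs_ns h.inv (inv_mem h.sN)
  have k1 := mul_mem hK (inv_mem (Tv_conj hK h4.1 h4.2))
  set q := p * (d⁻¹ * p⁻¹ * d) with hq
  have hqP : q ∈ P := mul_mem hp (mem_normalizer_conj' h.dN (inv_mem hp))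
  have k2 : q * d ∈ Tv W U := by
    have c2 := mul_mem (inv_mem h.d3) (cs_ns c1 h.dN)
    rw [← mul_mem_cancel_right (hC c2)]
    convert k1 using 1
    have e := cs_comm c1 (inv_mem hp)
    generalize hc : s⁻¹ * (s * d * s⁻¹ * d) * s⁻¹⁻¹ = c at e
    have e2 : s⁻¹ * d * s = d⁻¹ * c := by rw [← hc]; group
    calc _ = p * d⁻¹ * (p⁻¹ * c) * d⁻¹ := by rw [hq, pow_succ, sq]; group
      _ = p * (d⁻¹ * c) * p⁻¹ * d⁻¹ := by rw [← e]; group
      _ = _ := by rw [← e2]; group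
  have k3 : ∀ m : ℕ, q ^ m * d ^ m ∈ Tv W U := fun m => by
    induction m with
    | zero => simp
    | succ m ih =>
      have := mul_mem (Tv_conj ih (h3 hqP).1 (h3 hqP).2) k2
      have k4 := Tv_conj k2 (pow_mem (h3 hqP).1 m) (pow_mem (h3 hqP).2 m)
      have := mul_mem k4 ih
      rwa [show q ^ m * (q * d) * (q ^ m)⁻¹ * (q ^ m * d ^ m) = q ^ (m + 1) * d ^ (m + 1) by
        rw [pow_succ, pow_succ']; group] at this
  have k5 : q ∈ Tv W U :=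
    mem_of_cube h.pP hqP ((mul_mem_cancel_right (hC h.d3)).1 (k3 3))
  exact ((mul_mem_cancel_left k5).1 k2).2

end Tri

variable [Finite G]

/-- coprime action: fixed points lift -/
theorem cop_fix (hU : IsPGroup 2 U) (_h1 : d ∈ Ns U) (h2 : d ^ 3 ∈ Cs U) (h4 : W ≤ U)
    (h5 : U ≤ Ns W) (h5' : d ∈ Ns W) (hx : x ∈ U) (h6 : ⁅d, x⁆ ∈ W) :
    ∃ w ∈ W, d * (x * w) = x * w * d := by
  have : Fact (Nat.Prime 2) := ⟨Nat.prime_two⟩
  have : Fact (Nat.Prime 3) := ⟨Nat.prime_three⟩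
  by_contra hn
  push Not at hn
  have k := GHB.card_fix (fun w => x⁻¹ * (d * (x * w) * d⁻¹)) 3 (W : Set G) (fun w hw => by
    have := mul_mem (mem_normalizer_conj' (h5 hx) h6) (mem_normalizer_conj h5' hw)
    rwa [show x⁻¹ * ⁅d, x⁆ * x * (d * w * d⁻¹) = x⁻¹ * (d * (x * w) * d⁻¹) by
      rw [commutatorElement_def]; group] at this) fun w hw => by
    have := (cube d (x * w)).trans (cs_conj h2 (mul_mem hx (h4 hw)))
    simp only [Function.iterate_succ, Function.comp, Function.iterate_zero, id,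
      mul_inv_cancel_left, this, inv_mul_cancel_left]
  have e : {w | w ∈ (W : Set G) ∧ x⁻¹ * (d * (x * w) * d⁻¹) = w} = ∅ :=
    Set.eq_empty_of_forall_notMem fun w hw => hn w hw.1 (by
      rw [← mul_inv_eq_iff_eq_mul, ← inv_mul_eq_iff_eq_mul, hw.2])
  obtain ⟨j, hj⟩ := IsPGroup.iff_card.1 (hU.to_le h4)
  rw [e, Nat.card_of_isEmpty (α := (∅ : Set G))] at k
  have : 3 ∣ 2 ^ j := hj ▸ Nat.modEq_zero_iff_dvd.1 k
  exact absurd (Nat.prime_three.dvd_of_dvd_pow this) (by norm_num)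

theorem pS (h : P ≤ S) : IsPGroup 2 P := S.isPGroup'.to_le h

/-- extremal conjugation onto a central element -/
theorem ext_cen (h1 : z ∈ Cs (S : Subgroup G)) (h2 : IsConj x z) :
    ∃ g : G, g * x * g⁻¹ = z ∧
      ∀ r ∈ (S : Subgroup G), r * x = x * r → g * r * g⁻¹ ∈ (S : Subgroup G) := by
  have : Fact (Nat.Prime 2) := ⟨Nat.prime_two⟩
  obtain ⟨g, a, b⟩ := Local.exists_extremal_conj (p := 2) (T := S) (R := (S : Subgroup G) ⊓ C1 x)
    (isSylowIn_of_le S fun r hr => mem_centralizer_singleton_iff.2 (cs_comm h1 hr).symm) h2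
    (pS inf_le_left) fun r hr => mem_centralizer_singleton_iff.1 hr.2
  exact ⟨g, a, fun r hr e => b r ⟨hr, mem_centralizer_singleton_iff.2 e⟩⟩

/-- Burnside -/
theorem burn (h1 : z ∈ (S : Subgroup G) ⊓ Cs (S : Subgroup G))
    (h2 : x ∈ (S : Subgroup G) ⊓ Cs (S : Subgroup G)) (h3 : IsConj z x) :
    ∃ n ∈ Ns (S : Subgroup G), n * z * n⁻¹ = x :=
  Four.burnside S (fun _ hs => (cs_comm h1.2 hs).symm) (fun _ hs => (cs_comm h2.2 hs).symm) h3

/-- an element of `N(S)` has an odd power in `S` -/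
theorem ns_odd (h1 : n ∈ Ns (S : Subgroup G)) : ∃ k, Odd k ∧ n ^ k ∈ (S : Subgroup G) := by
  have : Fact (Nat.Prime 2) := ⟨Nat.prime_two⟩
  refine ⟨((S : Subgroup G).subgroupOf (Ns (S : Subgroup G))).index, Nat.not_even_iff_odd.1 fun e =>
    (isSylowIn_of_le S le_normalizer).not_dvd e.two_dvd, ?_⟩
  exact pow_index_mem ((S : Subgroup G).subgroupOf (Ns (S : Subgroup G))) ⟨n, h1⟩

/-- Alperin's theorem as an induction principle. -/
theorem alp_ind (A : Set G) (Φ : G → Prop) (hA : A ⊆ (S : Subgroup G))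
    (h0 : ∀ c, (∀ a ∈ A, c * a = a * c) → Φ c)
    (h1 : ∀ g n, Φ g → (∀ a ∈ A, g * a * g⁻¹ ∈ (S : Subgroup G)) → n ∈ Ns (S : Subgroup G) →
      Φ (n * g))
    (h2 : ∀ g P X x, Φ g → StrongAG.Cond 2 (S : Subgroup G) (P, X) x →
      (∀ a ∈ A, g * a * g⁻¹ ∈ P) → Φ (x⁻¹ * g)) :
    ∀ g, (∀ a ∈ A, g * a * g⁻¹ ∈ (S : Subgroup G)) → Φ g := fun g hg => by
  have : Fact (Nat.Prime 2) := ⟨Nat.prime_two⟩
  obtain ⟨c, hc, y, n, hn, e, hy⟩ := StrongAG.rel_all (isSylowIn_top S) (closure A)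
    ((closure_le _).2 hA) g (by
      rw [cj_closure, closure_le]
      rintro _ ⟨a, ha, rfl⟩
      exact hg a ha)
  have key : ∀ (B : Set G) (y : G), RChain (StrongAG.Step 2 (S : Subgroup G)) B y →
      ∀ g, Φ g → (∀ a ∈ A, g * a * g⁻¹ ∈ B) → Φ (y⁻¹ * g) := fun B y hy => by
    induction hy with
    | nil => simp +contextual
    | cons hx _ ih =>
      intro g a b
      obtain ⟨⟨P, X⟩, h3, h4⟩ := hx
      rw [mul_inv_rev, mul_assoc]
      exact ih _ (h2 g P X _ a h4 fun a ha => h3 (b a ha)) fun a ha => ⟨_, b a ha, by group⟩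
  have hc' : ∀ a ∈ A, c⁻¹ * a = a * c⁻¹ := fun a ha =>
    cs_comm (inv_mem hc) (subset_closure ha)
  have e' : g = n⁻¹ * (y⁻¹ * c⁻¹) := by rw [← inv_inj, e]; group
  rw [e']
  refine h1 _ _ (key _ y hy _ (h0 _ hc') fun a ha => ?_) (fun a ha => ?_) (inv_mem hn)
  · rw [hc' a ha, mul_inv_cancel_right]; exact subset_closure ha
  · have := mem_normalizer_conj hn (hg a ha)
    rwa [e', show n * (n⁻¹ * (y⁻¹ * c⁻¹) * a * (n⁻¹ * (y⁻¹ * c⁻¹))⁻¹) * n⁻¹ =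
      y⁻¹ * c⁻¹ * a * (y⁻¹ * c⁻¹)⁻¹ by group] at this

/-- Alperin for a property of elements -/
theorem alp (p : G → Prop)
    (h : ∀ Q : Subgroup G, Q ≤ S → ∀ x ∈ Ns Q, ∀ a ∈ Q, p a → p (x * a * x⁻¹)) :
    ∀ a ∈ (S : Subgroup G), ∀ b ∈ (S : Subgroup G), IsConj a b → p a → p b := by
  intro a ha b hb hc pa
  obtain ⟨g, rfl⟩ := isConj_iff.1 hc
  refine alp_ind {a} (fun g => p (g * a * g⁻¹)) (by simpa) (fun c e => ?_) (fun g n h1 h2 h3 => ?_)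
    (fun g P X x h1 h2 h3 => ?_) g (by simpa)
  · rwa [e a rfl, mul_inv_cancel_right]
  · rw [show n * g * a * (n * g)⁻¹ = n * (g * a * g⁻¹) * n⁻¹ by group]
    exact h _ le_rfl n h3 _ (h2 a rfl) h1
  · rw [show x⁻¹ * g * a * (x⁻¹ * g)⁻¹ = x⁻¹ * (g * a * g⁻¹) * x⁻¹⁻¹ by group]
    exact h P h2.1 _ (inv_mem (h2.2.2.2.2.2.1.2.1 (map_subtype_le _ h2.2.2.2.2.2.2))) _
      (h3 a rfl) h1

omit [Finite G] in
theorem Gen.cls (h : Gen T) (p : G → Prop) (h1 : ∀ n ∈ Ns T, ∀ a ∈ T, p a → p (n * a * n⁻¹))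
    (h2 : ∀ P d s, Tri T P d s → ∀ a ∈ P, p a → p (d * a * d⁻¹)) :
    ∀ a ∈ T, ∀ b ∈ T, IsConj a b → p a → p b := by
  intro a ha b hb hc pa
  obtain ⟨g, rfl⟩ := isConj_iff.1 hc
  refine h {a} (fun g => p (g * a * g⁻¹)) (by simpa) (fun c e => ?_) (fun g n k1 k2 k3 => ?_)
    (fun g P d s k1 k2 k3 => ?_) g (by simpa)
  · rwa [e a rfl, mul_inv_cancel_right]
  · rw [show n * g * a * (n * g)⁻¹ = n * (g * a * g⁻¹) * n⁻¹ by group]
    exact h1 n k3 _ (k2 a rfl) k1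
  · rw [show d * g * a * (d * g)⁻¹ = d * (g * a * g⁻¹) * d⁻¹ by group]
    exact h2 P d s k2 _ (k3 a rfl) k1

omit [Finite G] in
theorem Cx.sc (h : Cx S) (h0 : A ≤ S) (h1 : Ns (S : Subgroup G) ≤ Ns A)
    (h2 : ∀ P d s, Tri (S : Subgroup G) P d s → ∀ a ∈ A, a ∈ P → d * a * d⁻¹ ∈ A)
    (h3 : ∀ a ∈ A, ∀ b ∈ A, a * b = b * a) : A = ⊥ :=
  h.nsc A ⟨h0, fun a ha g hg => h.gen.cls (· ∈ A) (fun _ hn _ _ k => mem_normalizer_conj (h1 hn) k)
    (fun P d s k a k1 k2 => h2 P d s k a k2 k1) a (h0 ha) _ hg (isConj_iff.2 ⟨g, rfl⟩) ha⟩ h3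

namespace Ctx

variable (h : Ctx S)
include h

theorem exists_e8 : ∃ A : Subgroup G, A ≤ S ∧ (∀ a ∈ A, a * a = 1) ∧ 4 < Nat.card A := by
  have : Fact (Nat.Prime 2) := ⟨Nat.prime_two⟩
  have k := h.m3
  simp only [PRankLE, not_forall, not_le] at k
  obtain ⟨A, -, h2, h3⟩ := k
  obtain ⟨g, -, hg⟩ := (isSylowIn_top S).exists_cj_le (Q := A)
    (fun a => ⟨1, Subtype.ext (by simpa using h2 a a.2)⟩) le_top
  refine ⟨_, hg, ?_, by rwa [card_cj]⟩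
  rintro _ ⟨a, ha, rfl⟩
  change g * a * g⁻¹ * (g * a * g⁻¹) = 1
  rw [conj_mul, ← sq, h2 a ha]; simp

theorem ncomm : ¬ IsMulCommutative G := fun k => by
  obtain ⟨A, h1, -, h3⟩ := h.exists_e8
  rw [h.nsc S ⟨le_rfl, fun _ _ _ e => e⟩ fun a _ b _ => k.1.1 a b, le_bot_iff] at h1
  simp [h1] at h3

theorem perf : commutator G = ⊤ :=
  have := h.simple
  ((inferInstance : (commutator G).Normal).eq_bot_or_eq_top).resolve_left fun e =>
    h.ncomm ⟨⟨fun a b => commutatorElement_eq_one_iff_mul_comm.1 (mem_bot.1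
      (e ▸ commutator_mem_commutator (mem_top a) (mem_top b)))⟩⟩

omit [Finite G] in
/-- no section `E₃₂` -/
theorem r5 (h1 : Q ≤ P) (h2 : P ≤ Ns Q) (h3 : ∀ p ∈ P, p * p ∈ Q) :
    Nat.card P ≤ 16 * Nat.card Q :=
  GHB.EA.card_le h.r4 ⟨h1, h3, fun _ hx _ hk => mem_normalizer_conj (h2 hx) hk⟩

omit [Finite G] in
theorem e16 (h3 : ∀ p ∈ P, p * p = 1) : Nat.card P ≤ 16 := by
  simpa using GHB.EA.card_le h.r4 (GHB.EA.bot h3)

omit [Finite G] in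
/-- an involution commuting with an `E₁₆` lies in it -/
theorem mem_e16 (h1 : ∀ b ∈ B, b * b = 1) (h2 : Nat.card B = 16) (h3 : x * x = 1)
    (h4 : x ∈ Cs B) : x ∈ B := by
  by_contra hx
  have := GHB.EA.card_le1 h.r4 (GHB.EA.bot h1) (fun b hb => mem_bot.2
    (commutatorElement_eq_one_iff_mul_comm.2 (cs_comm h4 hb))) (mem_bot.2 h3) hx
  simp [h2] at this

omit [Finite G] in
/-- an abelian subgroup is not strongly closed -/
theorem exists_out (h1 : A ≤ S) (h2 : ∀ a ∈ A, ∀ b ∈ A, a * b = b * a) (h3 : A ≠ ⊥) :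
    ∃ a ∈ A, ∃ g : G, g * a * g⁻¹ ∈ (S : Subgroup G) ∧ g * a * g⁻¹ ∉ A := by
  by_contra k
  push Not at k
  exact h3 (h.nsc A ⟨h1, k⟩ h2)

omit [Finite G] in
/-- `Z*` -/
theorem zstar (h1 : z ∈ (S : Subgroup G)) (h2 : z * z = 1) (h3 : z ≠ 1) :
    ∃ x ∈ (S : Subgroup G), x ≠ z ∧ IsConj z x := by
  obtain ⟨a, ha, g, k1, k2⟩ := h.exists_out (zpowers_le.2 h1)
    (fun a ha b hb => comm_of_sq (B := zpowers z) (fun b hb => by
      rcases (mem_zp h2).1 hb with rfl | rfl; exacts [mul_one _, h2]) ha hb) (by simpa)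
  rcases (mem_zp h2).1 ha with rfl | rfl
  · simp at k2
  · exact ⟨_, k1, fun e => k2 (e.symm ▸ ha), isConj_iff.2 ⟨g, rfl⟩⟩

/-- transfer for an involution -/
theorem tr (h1 : ∀ x ∈ (S : Subgroup G), ∀ y ∈ (S : Subgroup G), ⁅x, y⁆ ∈ M) (h2 : t * t = 1)
    (h3 : ∀ u ∈ (S : Subgroup G), ∀ v ∈ (S : Subgroup G), IsConj t u → IsConj t v → u ∉ M → v ∉ M →
      u * v ∈ M) :
    ∃ g : G, g * t * g⁻¹ ∈ (S : Subgroup G) ∧ g * t * g⁻¹ ∈ M ∧
      ∀ r ∈ (S : Subgroup G), r * t = t * r → g * r * g⁻¹ ∈ (S : Subgroup G) := by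
  obtain ⟨g, a, b, c⟩ := Four.T1R (R := (S : Subgroup G) ⊓ C1 t) h.perf (Four.odd_index S le_rfl)
    h1 h2 h3 (pS inf_le_left) fun r hr => mem_centralizer_singleton_iff.1 hr.2
  exact ⟨g, a, b, fun r hr e => c r ⟨hr, mem_centralizer_singleton_iff.2 e⟩⟩

/-- a fusion-invariant subgroup of index at most two is everything -/
theorem foc (h1 : Local.IdxLeTwo M (S : Subgroup G))
    (h2 : ∀ a ∈ (S : Subgroup G), ∀ b ∈ (S : Subgroup G), IsConj a b → a ∈ M → b ∈ M) :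
    (S : Subgroup G) ≤ M := fun y hy => by
  classical
  by_contra hM
  have e : ∀ u : (S : Subgroup G), h1.sgn u = 1 ↔ (u : G) ∈ M := fun u => by
    change (if (u : G) ∈ M then (1 : ℤˣ) else -1) = 1 ↔ _
    split_ifs with k <;> simp [k]
  obtain ⟨n, hn⟩ := S.isPGroup' ⟨y, hy⟩
  obtain ⟨g, a, b, -⟩ := Four.transfer_hom (R := ⊥) (y := y) h.perf (Four.odd_index S le_rfl) h1.sgn
    (congrArg Subtype.val hn) (fun u m k => (e u).2 (h2 _ (pow_mem (mul_mem hy hy) m) _ u.2 k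
      (pow_mem (h1 y hy y hy hM hM) m))) (s := -1) (by simp) (fun u _ => Int.units_eq_one_or _)
    IsPGroup.of_bot (by simp)
  exact hM (h2 _ a _ hy (isConj_iff.2 ⟨g, rfl⟩).symm ((e _).1 b))

theorem m3S : ¬ PRankLE 2 2 (S : Subgroup G) := fun k => by
  obtain ⟨A, h1, h2, h3⟩ := h.exists_e8
  have := k (A.subgroupOf S) ⟨⟨fun a b => Subtype.ext (Subtype.ext (comm_of_sq h2 a.2 b.2))⟩⟩
    fun a ha => Subtype.ext (by simpa [sq] using h2 _ ha)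
  rw [Nat.card_congr (subgroupOfEquivOfLe h1).toEquiv] at this
  omega

omit h in
theorem klein (h2 : V ≤ T) (h4 : Nat.card V = 4) (h5 : ∀ v ∈ V, v * v = 1) :
    IsKleinFour (V.subgroupOf T) := by
  have e : Nat.card (V.subgroupOf T) = 4 := by
    rwa [Nat.card_congr (subgroupOfEquivOfLe h2).toEquiv]
  have : Nontrivial (V.subgroupOf T) := Finite.one_lt_card_iff_nontrivial.1 (by omega)
  exact ⟨e, (Monoid.exponent_eq_prime_iff Nat.prime_two).2 fun g hg =>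
    Four.ord_two (Subtype.ext (Subtype.ext (h5 _ g.2))) hg⟩

theorem E1 (h1 : GHA.NoE8 (S : Subgroup G)) (h2 : V ≤ S) (h3 : (S : Subgroup G) ≤ Ns V)
    (h4 : Nat.card V = 4) (h5 : ∀ v ∈ V, v * v = 1)
    (h6 : ∀ a ∈ V, ∀ b ∈ V, a ≠ 1 → b ≠ 1 → IsConj a b) : Out S := by
  have := h.simple
  rcases Agent.S3102.result (fun N _ => h.idx N) (fun z hz => by
      obtain ⟨g, a, b⟩ := Four.zstar h.ncomm (t := z) (by rw [← sq, ← hz.1, pow_orderOf_eq_one])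
        (fun e => by simpa [e] using hz.1)
      exact a (hz.2 g (mem_centralizer_singleton_iff.1 b).symm)) S h.m3S (fun E hE k e => by
      have := h1 (E.map (S : Subgroup G).subtype) (map_subtype_le E) (fun s hs => ns_of (by
        rintro _ ⟨a, ha, rfl⟩
        exact ⟨_, hE.conj_mem a ha ⟨s, hs⟩, rfl⟩)) (by
        rintro _ ⟨a, ha, rfl⟩
        exact congrArg Subtype.val (k.2 a ha))
      rw [card_map_of_injective (subtype_injective _)] at this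
      omega) (V.subgroupOf S) (klein h2 h4 h5) (normal_subgroupOf_of_le_normalizer h3)
      (fun u hu v hv a b => h6 _ hu _ hv (by simpa using a) (by simpa using b)) with
    ⟨F, _, _, hF, Q, ⟨e⟩⟩ | k | k
  · obtain ⟨m, ⟨E⟩⟩ := G2T.exists_emb_G2 (F := F) (Nat.odd_iff.2 (by omega))
    obtain ⟨E', -⟩ := G2T.exists_emb_of_equiv (G2T.isPGroup_GM m) E S Q e
    exact Or.inl ⟨m, ⟨E'⟩⟩
  · exact Or.inr (Or.inr (Or.inr (Or.inr (Or.inr (Or.inr (Or.inl k))))))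
  · exact Or.inr (Or.inr (Or.inr (Or.inr (Or.inr (Or.inr (Or.inr (Or.inl k)))))))

theorem E2 (h2 : F ≤ S) (h4 : Nat.card F = 4) (h5 : ∀ v ∈ F, v * v = 1)
    (h6 : ∀ x ∈ (S : Subgroup G), x ∈ Cs F → x * x = 1 → x ∈ F) : Out S := by
  have := h.simple
  refine Or.inr (Or.inr (Or.inr (Or.inr (Or.inr (Or.inr (Or.inr (Or.inr
    (Agent.S0503.result h.m3 S fun k => ?_))))))))
  obtain ⟨A, k1, k2, k3⟩ := h.exists_e8
  obtain ⟨a, ha, aF⟩ := GHB.exists_not_mem (B := A) (H := F) (by omega)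
  have a1 : a ≠ 1 := fun e => aF (e ▸ one_mem _)
  have c2 := GHB.card_zpowers_two (k2 a ha) a1
  obtain ⟨b, hb, ba⟩ := GHB.exists_not_mem (B := A) (H := zpowers a) (by omega)
  have le : F4 a b ≤ A := sup_le (zpowers_le.2 ha) (zpowers_le.2 hb)
  have c4 : Nat.card (F4 a b) = 4 := by
    rw [GHB.card_adj (fun x hx => by
      rwa [comm_of_sq k2 hb (zpowers_le.2 ha hx), mul_inv_cancel_right])
      (k2 b hb ▸ one_mem _) ba, c2]
  have key : ∀ X : Subgroup (S : Subgroup G), Relation.ReflTransGen (fun A B :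
      Subgroup (S : Subgroup G) => IsKleinFour A ∧ IsKleinFour B ∧ ∀ a ∈ A, ∀ b ∈ B, a * b = b * a)
      (F.subgroupOf S) X → X = F.subgroupOf S := fun X hX => by
    induction hX with
    | refl => rfl
    | @tail B C _ e ih =>
      subst ih
      refine eq_of_le_of_card_ge (fun x hx => h6 _ x.2 (cs_of fun y hy => congrArg Subtype.val
        (e.2.2 ⟨y, h2 hy⟩ hy x hx).symm) ?_) (by rw [e.1.card_four, e.2.1.card_four])
      have := e.2.1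
      exact congrArg (fun y => (y.1 : G)) (IsKleinFour.mul_self (⟨x, hx⟩ : C))
  have e := key _ (k _ _ (klein h2 h4 h5) (klein (le.trans k1) c4 fun v hv => k2 v (le hv)))
  exact aF (show (⟨a, k1 ha⟩ : (S : Subgroup G)) ∈ F.subgroupOf S from
    e ▸ mem_sup_left (mem_zpowers a))

end Ctx

end Cfsg.Lib.GHM
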