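import Cfsg.Agent.PCore.WM
import Cfsg.Agent.SylT.Defs
import Cfsg.Agent.GHA.Defs
import Cfsg.Agent.Rank2.SLNormal
import Cfsg.Prelude.Def_Spor_J2
import Cfsg.Prelude.Def_Spor_Ly

/-!
# Simple groups of sectional 2-rank at most four: definitions

`Ctx S` is the standing hypothesis, `Out S` the list of Sylow 2-subgroups to be reached, `Tri` an
essential subgroup with an automorphism of order three and `Gen S` says that these generate fusion.
-/

set_option autoImplicit false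

namespace Cfsg.Lib.GHM

open Subgroup Cfsg.Lib.Trans Cfsg.Lib.Gold Cfsg.Lib.Rank2

universe u

variable {G : Type u} [Group G]

/-- The standing hypothesis on the simple group `G` with Sylow 2-subgroup `S`. -/
structure Ctx (S : Sylow 2 G) : Prop where
  simple : IsSimpleGroup G
  r4 : SectionalPRankLE 2 4 G
  m3 : ¬ PRankLE 2 2 G
  nsc : ∀ A : Subgroup G, IsStronglyClosed A S → (∀ a ∈ A, ∀ b ∈ A, a * b = b * a) → A = ⊥
  idx : ∀ H : Subgroup G, H.index ≠ 2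

/-- `P` is centric with `N_S(P) = P⟨s⟩` Sylow in `N(P)`, and `s` inverts the automorphism of order
three induced by `d`. -/
structure Tri (S P : Subgroup G) (d s : G) : Prop where
  le : P ≤ S
  dN : d ∈ Ns P
  d3 : d ^ 3 ∈ Cs P
  dC : d ∉ Cs P
  sS : s ∈ S
  sN : s ∈ Ns P
  sP : s ∉ P
  inv : s * d * s⁻¹ * d ∈ Cs P
  cent : ∀ x ∈ S, x ∈ Cs P → x ∈ P
  idx : ∀ x ∈ S, x ∈ Ns P → x ∈ P ∨ x * s ∈ P
  syl : IsSylowIn 2 (S ⊓ Ns P) (Ns P)

/-- Fusion of subsets of `S` is generated by `N(S)` and the elements `d` of the `Tri`s. -/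
def Gen (S : Subgroup G) : Prop :=
  ∀ (A : Set G) (Φ : G → Prop), A ⊆ S → (∀ c, (∀ a ∈ A, c * a = a * c) → Φ c) →
    (∀ g n, Φ g → (∀ a ∈ A, g * a * g⁻¹ ∈ S) → n ∈ Ns S → Φ (n * g)) →
    (∀ g P d s, Φ g → Tri S P d s → (∀ a ∈ A, g * a * g⁻¹ ∈ P) → Φ (d * g)) →
    ∀ g, (∀ a ∈ A, g * a * g⁻¹ ∈ S) → Φ g

/-- `[P, d] ≤ Q ≤ P` and `d` normalises `Q`. -/
structure Good (P Q : Subgroup G) (d : G) : Prop where
  le : Q ≤ P
  dQ : d ∈ Ns Q
  cm : ∀ p ∈ P, d * p * d⁻¹ * p⁻¹ ∈ Q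

/-- Some `Tri` has `[P, d]` of order four. -/
def GV (S : Subgroup G) : Prop :=
  ∃ P Q d s, Tri S P d s ∧ Good P Q d ∧ Nat.card Q = 4

/-- Some `Tri` has `[P, d]` quaternion of order eight. -/
def GQ (S : Subgroup G) : Prop :=
  ∃ P Q d s, Tri S P d s ∧ Good P Q d ∧ Nonempty (Q ≃* QuaternionGroup 2)

/-- `S` is the wreath product of the semidihedral group `⟨a, b⟩` of order `2 ^ (m + 4)` by `⟨t⟩`. -/
structure SW (S : Subgroup G) (m : ℕ) (a b t : G) : Prop where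
  ord : orderOf a = 2 ^ (m + 3)
  b2 : b * b = 1
  ba : b * a * b⁻¹ = a⁻¹ * a ^ 2 ^ (m + 2)
  t2 : t * t = 1
  aa : a * (t * a * t) = t * a * t * a
  ab : a * (t * b * t) = t * b * t * a
  bb : b * (t * b * t) = t * b * t * b
  gen : closure {a, b, t} = S
  card : Nat.card S = 2 ^ (m + 4) * 2 ^ (m + 4) * 2

/-- `S = T⟨f⟩` is a group of order 128 like the Sylow 2-subgroup of `M₂₂`. -/
structure MT (S T F₁ F₂ V : Subgroup G) (f : G) : Prop where
  tt : L34.TT T F₁ F₂ V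
  f2 : f * f = 1
  n₁ : f ∈ Ns F₁
  n₂ : f ∈ Ns F₂
  nc : f ∉ Cs V
  sup : T ⊔ zpowers f = S

/-- The Sylow 2-subgroup `S` is of one of the types with a known recognition theorem. -/
def Out (S : Sylow 2 G) : Prop :=
  (∃ m, Nonempty (SylEmb (G2T.GM (ZMod (2 ^ (m + 2)))) G)) ∨
  (∃ m, Nonempty (SylEmb (PCore.PS (ZMod (2 ^ (m + 2)))) G)) ∨
  (∃ m, Nonempty (SylEmb (PCore.WM (ZMod (2 ^ (m + 2)))) G)) ∨
  (∃ m a b t, SW (S : Subgroup G) m a b t) ∨
  (∃ T F₁ F₂ V f, MT (S : Subgroup G) T F₁ F₂ V f) ∨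
  (∃ F₁ F₂ V, L34.TT (S : Subgroup G) F₁ F₂ V) ∨
  (∃ P : Sylow 2 Spor.J2, Nonempty ((S : Subgroup G) ≃* (P : Subgroup Spor.J2))) ∨
  (∃ P : Sylow 2 Spor.Ly, Nonempty ((S : Subgroup G) ≃* (P : Subgroup Spor.Ly))) ∨
  IsJ2 G ∨ IsJ3 G

/-- The working hypothesis of the sections after the first: fusion is generated by `Tri`s and
no type of the list has been reached. -/
structure Cx (S : Sylow 2 G) : Prop extends Ctx S where
  gen : Gen (S : Subgroup G)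
  out : ¬ Out S

end Cfsg.Lib.GHM
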