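import Cfsg.Agent.GHM.FinA
import Cfsg.Agent.GHM.Fin5
import Cfsg.Agent.GCore.Main
import Cfsg.Agent.GCore.Fin
import Cfsg.Agent.PCore.Main
import Cfsg.Agent.L4T.T1Asm
import Cfsg.Agent.L4M.Defs
import Cfsg.Agent.MT2.One
import Cfsg.Agent.Spor.Co0Simple
import Cfsg.Agent.Spor.LyMain
import Cfsg.Agent.Spor.J2Main
import Cfsg.Agent.S0506
import Cfsg.Agent.S1059
import Cfsg.Agent.S1067
import Cfsg.Agent.S1625
import Cfsg.Agent.S1776
import Cfsg.Agent.S3100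

/-!
# Simple groups of sectional 2-rank at most four: from the Sylow 2-subgroup to the group
-/

set_option autoImplicit false

namespace Cfsg.Lib.GHM

open Subgroup Cfsg.Lib.Trans Matrix

universe u

/-- The groups recognised from their Sylow 2-subgroups. -/
def Lst (G : Type u) [Group G] : Prop :=
  (∃ (E : Type) (_ : Field E) (_ : Fintype E), Odd (Fintype.card E) ∧
    Nonempty (G ≃* Lie.chevG2.group E)) ∨
  (∃ (K : Type) (_ : Field K) (_ : Fintype K) (r : ℕ), Odd r ∧ Fintype.card K = r ^ 3 ∧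
    Nonempty (G ≃* Lie.twistedD4 K r)) ∨
  (∃ (F : Type) (_ : Field F) (_ : Fintype F), Odd (Fintype.card F) ∧ Nonempty (G ≃* PSp 2 F)) ∨
  (∃ (F : Type) (_ : Field F) (_ : Fintype F), Odd (Fintype.card F) ∧ Fintype.card F % 8 ≠ 1 ∧
    Nonempty (G ≃* ProjectiveSpecialLinearGroup (Fin 4) F)) ∨
  (∃ (F : Type) (_ : Field F) (_ : Fintype F) (q : ℕ), Fintype.card F = q ^ 2 ∧ Odd q ∧
    q % 8 ≠ 7 ∧ Nonempty (G ≃* PSU 4 F q)) ∨
  L5T.OutQ G ∨
  (∃ (F : Type) (_ : Field F) (_ : Fintype F), Fintype.card F = 4 ∧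
    Nonempty (G ≃* ProjectiveSpecialLinearGroup (Fin 3) F)) ∨
  (∃ n : ℕ, 8 ≤ n ∧ n ≤ 11 ∧ Nonempty (G ≃* alternatingGroup (Fin n))) ∨
  Spor.IsoM12 G ∨ IsM22 G ∨ IsM23 G ∨ Spor.IsoJ2 G ∨ Spor.IsoJ3 G ∨ Spor.IsoMcL G ∨ Spor.IsoLy G

variable {G : Type u} [Group G] [Finite G] [IsSimpleGroup G] {S : Sylow 2 G}

theorem MT.lst (hM : L4M.Main.{u}) {T F₁ F₂ V : Subgroup G} {f : G}
    (h : MT (S : Subgroup G) T F₁ F₂ V f) : Lst G := by
  obtain ⟨E⟩ := MT2.em_of_MT (isSylowIn_top S) h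
  rcases hM G E with ⟨K, _, _, a, ⟨e⟩⟩ | ⟨K, _, _, r, a, b, ⟨e⟩⟩ | k | k | k | k | k
  · exact .inr (.inr (.inr (.inl ⟨K, _, _, a,
      fun c => h.not_dvd (Nat.card_congr e.toEquiv ▸ dvd_psl4 c), ⟨e⟩⟩)))
  · exact .inr (.inr (.inr (.inr (.inl ⟨K, _, _, r, a, b,
      fun c => h.not_dvd (Nat.card_congr e.toEquiv ▸ dvd_psu4 a c), ⟨e⟩⟩))))
  · exact .inr (.inr (.inr (.inr (.inr (.inr (.inr (.inl ⟨10, by omega, by omega, k⟩)))))))
  · exact .inr (.inr (.inr (.inr (.inr (.inr (.inr (.inl ⟨11, by omega, by omega, k⟩)))))))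
  all_goals
    unfold Lst Spor.IsoMcL
    simp only [k, true_or, or_true]

theorem Out.lst (hW : L4T.T1.All.{u}) (hM : L4M.Main.{u}) (hG : ¬ IsMulCommutative G)
    (h : Out S) : Lst G ∨ IsJ2 G ∨ IsJ3 G := by
  rw [or_iff_not_imp_right, not_or]
  intro hJ
  rcases h with ⟨m, ⟨E⟩⟩ | ⟨m, ⟨E⟩⟩ | ⟨m, ⟨E⟩⟩ | ⟨m, a, b, t, h⟩ | ⟨T, F₁, F₂, V, f, h⟩ |
    ⟨F₁, F₂, V, h⟩ | ⟨P, h⟩ | h | h | h
  · rcases GCore.classify_of_fin GCore.wFin2 E with k | k | k
    exacts [.inl k, .inr (.inl k), by unfold Lst; simp only [k, true_or, or_true]]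
  · rcases PCore.simple_of_main PCore.main E with k | k | k
    · exact .inr (.inr (.inl k))
    · exact .inr (.inr (.inr (.inr (.inr (.inr (.inr (.inl ⟨8, by omega, by omega, k⟩)))))))
    · exact .inr (.inr (.inr (.inr (.inr (.inr (.inr (.inl ⟨9, by omega, by omega, k⟩)))))))
  · rcases hW.simple E with k | k | ⟨F, _, _, q, rfl, a, k⟩ | ⟨F, _, _, q, a, b, k⟩
    · exact .inr (.inr (.inr (.inr (.inr (.inr (.inr (.inl ⟨10, by omega, by omega, k⟩)))))))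
    · exact .inr (.inr (.inr (.inr (.inr (.inr (.inr (.inl ⟨11, by omega, by omega, k⟩)))))))
    · exact .inr (.inr (.inr (.inl ⟨F, _, _, Nat.odd_iff.2 (by omega), by omega, k⟩)))
    · exact .inr (.inr (.inr (.inr (.inl ⟨F, _, _, q, a, Nat.odd_iff.2 (by omega), by omega, k⟩))))
  · exact .inr (.inr (.inr (.inr (.inr (.inl h.out)))))
  · exact h.lst hM
  · exact .inr (.inr (.inr (.inr (.inr (.inr (.inl (tt_iso hG h)))))))
  · rcases Agent.S1776.result S P h with k | k <;> unfold Lst <;> simp only [k, true_or, or_true]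
  · have k := Agent.S3100.result hG S h
    unfold Lst
    simp only [k, or_true]
  · exact absurd h hJ.1
  · exact absurd h hJ.2

/-- The theorem with most of the groups given up to isomorphism. -/
theorem strong (hW : L4T.T1.All.{u}) (hM : L4M.Main.{u}) (S : Sylow 2 G) (hO : Ctx S → Out S)
    (hG : ¬ IsMulCommutative G) (h4 : SectionalPRankLE 2 4 G) :
    PRankLE 2 2 G ∨ IsMulCommutative (S : Subgroup G) ∨ Rk1 G ∨ Lst G ∨ IsJ2 G ∨ IsJ3 G :=
  (ctx_or hG h4 S).imp_right (Or.imp_right (Or.imp_right fun h => (hO h).lst hW hM hG))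

theorem final (hW : L4T.T1.All.{u}) (hM : L4M.Main.{u}) (hO : ∀ S : Sylow 2 G, Ctx S → Out S)
    (hG : ¬ IsMulCommutative G) (h4 : SectionalPRankLE 2 4 G) :
    PRankLE 2 2 G ∨ IsG2 G ∨ Is3D4 G ∨
      (∃ (F : Type) (_ : Field F) (_ : Fintype F), Odd (Fintype.card F) ∧
        Nonempty (G ≃* PSp 2 F)) ∨
      IsRee G ∨
      (∃ (F : Type) (_ : Field F) (_ : Fintype F), Odd (Fintype.card F) ∧ Fintype.card F % 8 ≠ 1 ∧
        Nonempty (G ≃* ProjectiveSpecialLinearGroup (Fin 4) F)) ∨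
      (∃ (F : Type) (_ : Field F) (_ : Fintype F) (q : ℕ), Fintype.card F = q ^ 2 ∧ Odd q ∧
        q % 8 ≠ 7 ∧ Nonempty (G ≃* PSU 4 F q)) ∨
      (∃ (F : Type) (_ : Field F) (_ : Fintype F), Fintype.card F % 4 = 3 ∧
        Nonempty (G ≃* ProjectiveSpecialLinearGroup (Fin 5) F)) ∨
      (∃ (F : Type) (_ : Field F) (_ : Fintype F) (q : ℕ), Fintype.card F = q ^ 2 ∧ q % 4 = 1 ∧
        Nonempty (G ≃* PSU 5 F q)) ∨
      (∃ (F : Type) (_ : Field F) (_ : Fintype F), (Fintype.card F = 8 ∨ Fintype.card F = 16) ∧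
        Nonempty (G ≃* ProjectiveSpecialLinearGroup (Fin 2) F)) ∨
      (∃ (F : Type) (_ : Field F) (_ : Fintype F), Fintype.card F = 4 ∧
        Nonempty (G ≃* ProjectiveSpecialLinearGroup (Fin 3) F)) ∨
      (∃ (F : Type) (_ : Field F) (_ : Fintype F), Fintype.card F = 16 ∧
        Nonempty (G ≃* PSU 3 F 4)) ∨
      (∃ (F : Type) (_ : Field F) (_ : Fintype F), Fintype.card F = 2 ∧
        Nonempty (G ≃* ProjectiveSpecialLinearGroup (Fin 4) F)) ∨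
      (IsSuzuki G ∧ Nat.card G = 29120) ∨
      (∃ n : ℕ, 8 ≤ n ∧ n ≤ 11 ∧ Nonempty (G ≃* alternatingGroup (Fin n))) ∨
      IsM12 G ∨ IsM22 G ∨ IsM23 G ∨ IsJ1 G ∨ IsJ2 G ∨ IsJ3 G ∨ IsMcL G ∨ IsLy G := by
  obtain ⟨S⟩ : Nonempty (Sylow 2 G) := inferInstance
  refine or_iff_not_imp_left.2 fun h2 => ?_
  have key : IsRee G ∨ IsJ1 G ∨ Rk1 G ∨ Lst G ∨ IsJ2 G ∨ IsJ3 G := by
    rcases (strong hW hM S (hO S) hG h4).resolve_left h2 with k | k
    · rcases Agent.S0506.result hG S k with ⟨a, h1, F, _, _, h3, ⟨e⟩⟩ | ⟨F, _, _, h3, ⟨e⟩⟩ | k | k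
      exacts [.inr (.inr (.inl (psl2_even h4 h2 h1 h3 e))), absurd (rank_psl2 (.inr h3) e) h2,
        .inl k, .inr (.inl k)]
    · exact .inr (.inr k)
  have c : ∀ {H : Type} [Group H] {n : ℕ}, Nonempty (G ≃* H) → Nat.card H = n →
      IsSimpleGroup G ∧ Nat.card G = n := fun ⟨e⟩ k => ⟨‹_›, (Nat.card_congr e.toEquiv).trans k⟩
  rcases key with k | k | (k | k | ⟨F, _, _, a, k⟩) |
    (⟨F, _, _, ⟨j, a⟩, k⟩ | ⟨F, _, _, r, -, a, k⟩ | k | k | k | (k | k) | k | k | k | k | k | k |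
      ⟨F, _, _, ω, a, b, k⟩ | k | k) | k | k
  case inr.inr.inl.inr.inr =>
    have e := c k (Chev.lieSzModel le_rfl a).card_G
    rw [a] at e
    have : IsSuzuki G ∧ Nat.card G = 29120 := ⟨⟨e.1, 1, le_rfl, e.2⟩, e.2⟩
    simp only [this, and_self, true_or, or_true]
  case inr.inr.inr.inl.inl =>
    exact .inl ⟨‹_›, _, FiniteField.isPrimePow_card F, by
      have := Fintype.one_lt_card (α := F); omega,
      (c k (Agent.S1059.result rfl)).2.trans (mul_right_comm _ _ _)⟩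
  case inr.inr.inr.inl.inr.inl =>
    have p := (isPrimePow_pow_iff three_ne_zero).1 (a ▸ FiniteField.isPrimePow_card F)
    exact .inr (.inl ⟨‹_›, r, p, (c k (Agent.S1067.result p a)).2.trans (by ring)⟩)
  all_goals
    first
    | have k : IsM12 G := c k Spor.MP.card_M12
    | have k : IsJ2 G := c k Spor.J2.card_J2
    | have k : IsJ3 G := c k (Agent.S1625.result F a ω b).2.2.1
    | have k : IsMcL G := c k Spor.CK.card_McL
    | have k : IsLy G := c k Spor.LyB.card_Ly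
    | skip
    simp only [k, true_or, or_true]

theorem Lst_eq_1' : type_of% @Lst.eq_1 := @Lst.eq_1

end Cfsg.Lib.GHM
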