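import Cfsg.Agent.GHM.ShA

/-!
# Simple groups of sectional 2-rank at most four: the wreathed models
-/

set_option autoImplicit false

namespace Cfsg.Lib.GHM

open Subgroup Cfsg.Lib.Trans Cfsg.Lib.Gold Cfsg.Lib.Rank2 Cfsg.Lib.GHB
open scoped commutatorElement

universe u

variable {G : Type u} [Group G] [Finite G] {S : Sylow 2 G} {P T K : Subgroup G}
  {a b d s z t r x : G} {k : ℕ}

namespace ModW

omit [Finite G] in
theorem YY_le (ha : a ∈ K) (hb : b ∈ K) (ht : t ∈ K) : YY a b t ≤ K := by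
  have h1 : Dl a b ≤ K := sup_le (zpowers_le.2 ha) (zpowers_le.2 hb)
  refine sup_le h1 fun y hy => ?_
  have := mul_mem (mul_mem ht (h1 (mem_cj.1 hy))) (inv_mem ht)
  rwa [show t * (t⁻¹ * y * t) * t⁻¹ = y by group] at this

omit [Finite G] in
theorem le_of (h0 : Sh T k a b z t) (ht : t ∈ K) (h1 : ∀ m ∈ T, m * z = z * m → m ∈ K) : T ≤ K := by
  intro y hy
  by_cases h2 : y ∈ T ⊓ C1 z
  · exact h1 y hy (mem_C1.1 h2.2)
  · have h3 := h0.idx t h0.tS y hy (fun h => h0.tz (mem_C1.1 h.2)) h2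
    exact (mul_mem_cancel_left ht).1 (h1 _ h3.1 (mem_C1.1 h3.2))

theorem odd_of_le (h1 : (S : Subgroup G) ≤ K) : ¬ 2 ∣ K.index := fun h =>
  haveI : Fact (Nat.Prime 2) := ⟨Nat.prime_two⟩
  S.not_dvd_index (h.trans (index_dvd_of_le h1))

omit [Finite G] in
/-- Powers of an element indexed by residues. -/
theorem exists_pow (n : ℕ) [NeZero n] (hx : x ^ n = 1) : ∃ A : ZMod n → G,
    (∀ u u', A (u + u') = A u * A u') ∧ (∀ u, A (-u) = (A u)⁻¹) ∧ ∀ u, A u = x ^ u.val :=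
  ⟨fun u => Known.zmodPowHom n x hx (Multiplicative.ofAdd u),
    fun u u' => by simp only [ofAdd_add, map_mul], fun u => by simp only [ofAdd_neg, map_inv],
    fun _ => rfl⟩

omit [Finite G] in
theorem exists_hom {R : Type} [CommRing R] {A : R → G} (add : ∀ u u', A (u + u') = A u * A u')
    (t2 : t * t = 1) (b2 : b * b = 1) (hb : ∀ u, b * A u = A (-u) * b)
    (aa : ∀ u v, t * A u * t * A v = A v * (t * A u * t))
    (ab : ∀ v, t * b * t * A v = A v * (t * b * t)) (bb : t * b * t * b = b * (t * b * t)) :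
    ∃ φ : PCore.WM R →* G, ∀ i k e f g, φ ⟨i, k, e, f, g⟩ =
      A i * (t * A k * t) * cond f b 1 * cond g (t * b * t) 1 * cond e t 1 := by
  have e6 : ∀ y : G, t * (t * y) = y := fun y => by rw [← mul_assoc, t2, one_mul]
  obtain ⟨B, hB⟩ : ∃ B : R → G, ∀ u, B u = t * A u * t := ⟨_, fun _ => rfl⟩
  obtain ⟨c, hc⟩ : ∃ c, c = t * b * t := ⟨_, rfl⟩
  simp only [← hB, ← hc] at aa ab bb ⊢
  have addB : ∀ u u', B (u + u') = B u * B u' := fun u u' => by
    simp only [hB, add, mul_assoc, e6]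
  have e1 : ∀ u (y : G), b * (A u * y) = A (-u) * (b * y) := fun u y => by
    rw [← mul_assoc, hb, mul_assoc]
  have e1' : ∀ u (y : G), c * (B u * y) = B (-u) * (c * y) := fun u y => by
    simp only [hB, hc, mul_assoc, e6, e1]
  have e2 : ∀ u (y : G), c * (A u * y) = A u * (c * y) := fun u y => by
    rw [← mul_assoc, ab, mul_assoc]
  have e3 : ∀ u (y : G), t * (A u * y) = B u * (t * y) := fun u y => by
    simp only [hB, mul_assoc, e6]
  have e3' : ∀ u (y : G), t * (B u * y) = A u * (t * y) := fun u y => by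
    simp only [hB, mul_assoc, e6]
  have e8 : ∀ y : G, t * (b * y) = c * (t * y) := fun y => by simp only [hc, mul_assoc, e6]
  have e9 : ∀ y : G, t * (c * y) = b * (t * y) := fun y => by simp only [hc, mul_assoc, e6]
  have e2' : ∀ u (y : G), b * (B u * y) = B u * (b * y) := fun u y => by
    rw [← e6 (b * _), e8, e3', e2, e3, e9, e6]
  have e4 : ∀ y : G, b * (b * y) = y := fun y => by rw [← mul_assoc, b2, one_mul]
  have e5 : ∀ y : G, c * (c * y) = y := fun y => by simp only [hc, mul_assoc, e6, e4]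
  have e7 : ∀ y : G, c * (b * y) = b * (c * y) := fun y => by rw [← mul_assoc, bb, mul_assoc]
  have e0 : ∀ u v (y : G), B u * (A v * y) = A v * (B u * y) := fun u v y => by
    rw [← mul_assoc, aa, mul_assoc]
  refine ⟨MonoidHom.mk' (fun y => A y.i * B y.k * cond y.f b 1 * cond y.g c 1 * cond y.e t 1) ?_,
    fun _ _ _ _ _ => rfl⟩
  rintro ⟨i, k, e, f, g⟩ ⟨i', k', e', f', g'⟩
  refine mul_right_cancel (b := (1 : G) * 1) ?_
  generalize (1 : G) * 1 = y
  cases e <;> cases f <;> cases g <;> cases e' <;> cases f' <;> cases g' <;>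
    simp only [PCore.WM.mul_def, cond_true, cond_false, Bool.xor_false, Bool.xor_true,
      Bool.not_true, Bool.not_false, add, addB, mul_assoc, one_mul, e0, e1, e1', e2, e2', e3, e3',
      e4, e5, e6, e7, e8, e9]

theorem even_of_mem (h0 : Sh T k a b z t) {m : G} (hm : m ∈ YY a b t) {l : ℤ} :
    (m * b * m⁻¹ = a ^ l * b → Even l) ∧
      (m * (t * b * t⁻¹) * m⁻¹ = t * (a ^ l * b) * t⁻¹ → Even l) := by
  have h1 := h0.YM hm
  refine ⟨fun h => ?_, fun h => ?_⟩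
  · obtain ⟨j, hj⟩ := h0.dh'.cb m h1
    exact ((h0.typ h1.1 (mem_C1.1 h1.2) h (l' := j)
      (by rw [hj, conj_zpow]; group)).1 hm).1
  · obtain ⟨j, hj⟩ := h0.dh.cb m h1
    exact ((h0.typ h1.1 (mem_C1.1 h1.2) hj h).1 hm).2

section
variable (h0 : FV S P d s z b a t r k)
include h0

omit [Finite G] in
theorem rb : ∃ l : ℤ, Odd l ∧ r * b * r⁻¹ = a ^ l * b := by
  have b2 := h0.sh.dh.b2
  have hb : b⁻¹ = b := inv_eq_of_mul_eq_one_right b2
  have e : r * b * r⁻¹ = r * (b * r * b⁻¹)⁻¹ * b := by group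
  rcases h0.br with h | ⟨hk, h⟩
  · exact ⟨1, odd_one, by rw [e, h, inv_inv, h0.r2, zpow_one]⟩
  · refine ⟨1 - 2 ^ k, odd_one.sub_even (Int.even_pow.2 ⟨even_two, by omega⟩), ?_⟩
    rw [e, h, ← h0.sh.dh.za, ← h0.r2, zpow_sub, zpow_one, mul_inv_rev, inv_inv]
    have h1 : (r * r) ^ 2 ^ k * r = r * (r * r) ^ 2 ^ k :=
      (((Commute.refl r).mul_left (Commute.refl r)).pow_left _).eq
    have h2 : ((r * r) ^ 2 ^ k)⁻¹ * r = r * ((r * r) ^ 2 ^ k)⁻¹ := (Commute.inv_left h1).eq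
    rw [h2, ← zpow_natCast]
    push_cast
    group

omit [Finite G] in
theorem rz : r * z = z * r := by
  rw [← h0.sh.dh.za, ← h0.r2]
  exact (((Commute.refl r).mul_right (Commute.refl r)).pow_right _).eq

theorem ord_r : orderOf r = 2 ^ (k + 2) := by
  have h1 := h0.sh.dh.ord
  have : Fact (Nat.Prime 2) := ⟨Nat.prime_two⟩
  refine orderOf_eq_prime_pow ?_ ?_
  · rw [pow_succ', pow_mul, sq, h0.r2, h0.sh.dh.za]; exact h0.sh.dh.z1
  · rw [pow_succ', pow_mul, sq, h0.r2, ← h1, pow_orderOf_eq_one]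

omit [Finite G] in
theorem le_K (hr : r ∈ K) (hb : b ∈ K) (ht : t ∈ K) : (S : Subgroup G) ≤ K := by
  have hY : YY a b t ≤ K := YY_le (h0.r2 ▸ mul_mem hr hr) hb ht
  have hr' : t * r * t⁻¹ ∈ K := mul_mem (mul_mem ht hr) (inv_mem ht)
  refine le_of h0.sh ht fun m hm hz => ?_
  rcases h0.cos m hm hz with h | h | h | h
  · exact hY h
  · exact (mul_mem_cancel_left hr).1 (hY h)
  · exact (mul_mem_cancel_left hr').1 (hY h)
  · exact (mul_mem_cancel_left (mul_mem hr hr')).1 (hY h)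

theorem card_S (h1 : r * (t * r * t⁻¹) = t * r * t⁻¹ * r) :
    Nat.card (S : Subgroup G) = 2 ^ (k + 3) * 2 ^ (k + 3) * 2 := by
  obtain ⟨l, hl, hrb⟩ := rb h0
  have hS := h0.sh
  have bD : b ∈ Dl a b := mem_sup_right (mem_zpowers b)
  have aD : a ∈ Dl a b := mem_sup_left (mem_zpowers a)
  have rS' : t * r * t⁻¹ ∈ (S : Subgroup G) := mul_mem (mul_mem hS.tS h0.rS) (inv_mem hS.tS)
  have nY : ∀ g ∈ (S : Subgroup G), ∀ y ∈ YY a b t, g * y * g⁻¹ ∈ YY a b t := fun g hg y hy =>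
    (mem_set_normalizer_iff.1 (hS.nY hg) y).1 hy
  have n1 : r ∉ YY a b t := fun h =>
    Int.not_even_iff_odd.2 hl ((even_of_mem hS h).1 hrb)
  have q1 : r * r ∈ YY a b t := by rw [h0.r2]; exact mem_sup_left aD
  have c1 := card_adj (nY r h0.rS) q1 n1
  have e1 : t * r * t⁻¹ * (t * b * t⁻¹) * (t * r * t⁻¹)⁻¹ = t * (a ^ l * b) * t⁻¹ := by
    rw [← hrb]; group
  have n2 : t * r * t⁻¹ ∉ YY a b t ⊔ zpowers r := fun h => by
    rcases (mem_adj (nY r h0.rS) q1).1 h with h | h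
    · exact Int.not_even_iff_odd.2 hl ((even_of_mem hS h).2 e1)
    · refine Int.not_even_iff_odd.2 hl ((even_of_mem hS h).2 ?_)
      have := h0.rc (a ^ l * b) (mul_mem (zpow_mem aD l) bD)
      calc _ = r⁻¹ * (t * r * t⁻¹ * (t * b * t⁻¹) * (t * r * t⁻¹)⁻¹) * r := by group
        _ = r⁻¹ * (t * (a ^ l * b) * t⁻¹ * r) := by rw [e1, mul_assoc]
        _ = _ := by rw [← this, inv_mul_cancel_left]
  have q2 : t * r * t⁻¹ * (t * r * t⁻¹) ∈ YY a b t := by
    refine mem_sup_right (mem_cj.2 ?_)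
    rwa [show t⁻¹ * (t * r * t⁻¹ * (t * r * t⁻¹)) * t = r * r by group, h0.r2]
  have m2 : ∀ y ∈ YY a b t ⊔ zpowers r,
      t * r * t⁻¹ * y * (t * r * t⁻¹)⁻¹ ∈ YY a b t ⊔ zpowers r := fun y hy => by
    rcases (mem_adj (nY r h0.rS) q1).1 hy with h | h
    · exact mem_sup_left (nY _ rS' y h)
    · have := mul_mem (mem_sup_right (mem_zpowers r) : r ∈ YY a b t ⊔ zpowers r)
        (mem_sup_left (nY _ rS' _ h))
      rwa [← mul_assoc, ← mul_assoc, h1, mul_assoc _ r, mul_inv_cancel_left] at this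
  have c2 := card_adj m2 (mem_sup_left q2) n2
  have eM : YY a b t ⊔ zpowers r ⊔ zpowers (t * r * t⁻¹) = (S : Subgroup G) ⊓ C1 z := by
    have rM : r ∈ (S : Subgroup G) ⊓ C1 z := ⟨h0.rS, mem_C1.2 (rz h0)⟩
    refine le_antisymm (sup_le (sup_le hS.YM (zpowers_le.2 rM)) (zpowers_le.2
      ((mem_set_normalizer_iff.1 (hS.nM hS.tS) r).1 rM))) fun m hm => ?_
    have i0 : YY a b t ≤ YY a b t ⊔ zpowers r ⊔ zpowers (t * r * t⁻¹) :=
      le_sup_left.trans le_sup_left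
    have i1 : r ∈ YY a b t ⊔ zpowers r ⊔ zpowers (t * r * t⁻¹) :=
      mem_sup_left (mem_sup_right (mem_zpowers r))
    have i2 : t * r * t⁻¹ ∈ YY a b t ⊔ zpowers r ⊔ zpowers (t * r * t⁻¹) :=
      mem_sup_right (mem_zpowers _)
    rcases h0.cos m hm.1 (mem_C1.1 hm.2) with h | h | h | h
    · exact i0 h
    · exact (mul_mem_cancel_left i1).1 (i0 h)
    · exact (mul_mem_cancel_left i2).1 (i0 h)
    · exact (mul_mem_cancel_left (mul_mem i1 i2)).1 (i0 h)
  rw [hS.cardT, ← eM, c2, c1, hS.cardY]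
  ring

end

end ModW

open ModW in
theorem FV.out (h0 : FV S P d s z b a t r k) (h1 : r * (t * r * t⁻¹) = t * r * t⁻¹ * r) : False := by
  have hc := card_S h0 h1
  have ho := ord_r h0
  have hS := h0.sh
  have ti : t⁻¹ = t := inv_eq_of_mul_eq_one_right h0.t2
  have bD : b ∈ Dl a b := mem_sup_right (mem_zpowers b)
  have ab := h0.rc b bD
  have bb := hS.com b bD b bD
  rw [ti] at h1 ab bb
  refine h0.cx.out ?_
  rcases h0.br with h | ⟨hk, h⟩
  · obtain ⟨A, add, neg, hA⟩ := exists_pow (x := r) (2 ^ (k + 2)) (ho ▸ pow_orderOf_eq_one r)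
    have tp : ∀ n : ℕ, t * r ^ n * t = (t * r * t) ^ n := fun n => by
      have := conj_pow (a := t) (b := r) (i := n)
      rw [ti] at this
      exact this.symm
    obtain ⟨φ, hφ⟩ := exists_hom add h0.t2 hS.dh.b2
      (fun u => by rw [neg, hA, ← inv_pow, ← h, conj_pow, inv_mul_cancel_right])
      (fun u v => by rw [hA, hA, tp]; exact (Commute.pow_pow h1.symm _ _).eq)
      (fun v => by rw [hA]; exact (Commute.pow_right ab.symm _).eq) bb.symm
    have A0 : A 0 = 1 := by rw [hA, ZMod.val_zero, pow_zero]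
    have hle : (S : Subgroup G) ≤ φ.range := by
      refine le_K h0 ⟨⟨1, 0, false, false, false⟩, ?_⟩ ⟨⟨0, 0, false, true, false⟩, ?_⟩
        ⟨⟨0, 0, true, false, false⟩, ?_⟩
      · have : Fact (1 < 2 ^ (k + 2)) := ⟨Nat.one_lt_pow (by omega) one_lt_two⟩
        simp [hφ, A0, h0.t2, hA, ZMod.val_one]
      · simp [hφ, A0, h0.t2]
      · simp [hφ, A0, h0.t2]
    refine Or.inr (Or.inr (Or.inl ⟨k, ⟨φ, ?_, odd_of_le hle⟩⟩))
    have h2 : Nat.card (PCore.WM (ZMod (2 ^ (k + 2)))) = Nat.card φ.range := by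
      refine le_antisymm ?_ (Nat.card_le_card_of_surjective _ φ.rangeRestrict_surjective)
      refine le_trans (le_of_eq ?_) (Subgroup.card_le_of_le hle)
      rw [hc, PCore.WM.card, Nat.card_zmod]; ring
    exact fun u v e => ((Nat.bijective_iff_surjective_and_card _).2
      ⟨φ.rangeRestrict_surjective, h2⟩).1 (Subtype.ext e)
  · obtain ⟨m, rfl⟩ : ∃ m, k = m + 1 := ⟨k - 1, by omega⟩
    refine Or.inr (Or.inr (Or.inr (Or.inl ⟨m, r, b, t, ho, hS.dh.b2, ?_, h0.t2, h1, ab, bb, ?_, hc⟩)))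
    · rw [h, ← hS.dh.za, ← h0.r2, ← sq, ← pow_mul, ← pow_succ']
    · refine le_antisymm ((closure_le _).2 ?_) (le_K h0 (subset_closure (by simp))
        (subset_closure (by simp)) (subset_closure (by simp)))
      rintro y (rfl | rfl | rfl)
      exacts [h0.rS, hS.dh.bH.1, hS.tS]

end Cfsg.Lib.GHM
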