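import Cfsg.Agent.GHM.Fr2
import Cfsg.Agent.GHM.Api

/-!
# Simple groups of sectional 2-rank at most four: tools for sections three to five
-/

set_option autoImplicit false
set_option linter.unusedSectionVars false

namespace Cfsg.Lib.GHM

open Subgroup Cfsg.Lib.Trans Cfsg.Lib.Gold Cfsg.Lib.Rank2 Cfsg.Lib.GHB
open scoped commutatorElement

universe u

variable {G : Type u} [Group G] [Finite G] {S : Sylow 2 G}
  {H L M P R T K U U' W X X₁ X₂ X₃ Z : Subgroup G}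
  {a c d g u u' v v' w w' w₁ w₂ w₃ x y z : G}

/-- adjoining one independent element to an elementary section -/
theorem adj_step {B : Subgroup G} {l : List G} (h : EA K B) (hx : x * x ∈ K) (hn : x ∈ Ns K)
    (hl : ∀ y ∈ l, y ∈ Ns K) (hc : ∀ y ∈ l, ⁅y, x⁆ ∈ K) (h1 : ∀ b ∈ B, ⁅x, b⁆ ∈ K)
    (h2 : ∀ y ∈ l, ∀ b ∈ B, ⁅y, b⁆ ∈ K) (h3 : x ∉ B) :
    EA K (B ⊔ zpowers x) ∧ Nat.card (B ⊔ zpowers x : Subgroup G) = 2 * Nat.card B ∧
      (∀ y ∈ l, ∀ b ∈ B ⊔ zpowers x, ⁅y, b⁆ ∈ K) ∧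
      ∀ g ∈ B ⊔ zpowers x, ∃ e : Bool, ∃ b ∈ B, g = cond e x 1 * b := by
  have k1 := conj_of_comm h.le h1
  refine ⟨h.adj h1 hx, card_adj k1 (h.le hx) h3, fun y hy b hb => ?_, fun g hg => ?_⟩
  · rcases (mem_adj k1 (h.le hx)).1 hb with k | k
    · exact h2 y hy b k
    · have : ⁅y, b⁆ = ⁅y, x⁆ * (x * ⁅y, x⁻¹ * b⁆ * x⁻¹) := by
        simp only [commutatorElement_def]; group
      exact this ▸ mul_mem (hc y hy) (mem_normalizer_conj hn (h2 y hy _ k))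
  · rcases (mem_adj k1 (h.le hx)).1 hg with k | k
    · exact ⟨false, g, k, (one_mul g).symm⟩
    · exact ⟨true, _, k, by simp⟩

/-- five independent elements over `K` -/
theorem rank5 (h4 : SectionalPRankLE 2 4 G) {x₁ x₂ x₃ x₄ x₅ : G}
    (hn : ∀ x ∈ [x₁, x₂, x₃, x₄, x₅], x ∈ Ns K)
    (hc : ∀ x ∈ [x₁, x₂, x₃, x₄, x₅], ∀ y ∈ [x₁, x₂, x₃, x₄, x₅], ⁅x, y⁆ ∈ K)
    (hq : ∀ x ∈ [x₁, x₂, x₃, x₄, x₅], x * x ∈ K)
    (hi : ∀ e₁ e₂ e₃ e₄ e₅ : Bool,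
      cond e₁ x₁ 1 * cond e₂ x₂ 1 * cond e₃ x₃ 1 * cond e₄ x₄ 1 * cond e₅ x₅ 1 ∈ K →
      e₁ = false ∧ e₂ = false ∧ e₃ = false ∧ e₄ = false ∧ e₅ = false) : False := by
  have e0 : EA K K := ⟨le_rfl, fun x hx => mul_mem hx hx,
    fun x hx k hk => mul_mem (mul_mem hx hk) (inv_mem hx)⟩
  have c0 : ∀ y ∈ [x₁, x₂, x₃, x₄, x₅], ∀ b ∈ K, ⁅y, b⁆ ∈ K := fun y hy b hb =>
    mul_mem (mem_normalizer_conj (hn y hy) hb) (inv_mem hb)
  -- membership of `x` in `B` gives a relation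
  have rel : ∀ x ∈ [x₁, x₂, x₃, x₄, x₅], ∀ p k : G, k ∈ K → x = p * k → p ∈ Ns K → x * p ∈ K :=
    fun x hx p k hk e hp => by
      have : x * p = x * x * k⁻¹ := by rw [mul_assoc, e, mul_inv_cancel_right]
      exact this ▸ mul_mem (hq x hx) (inv_mem hk)
  have nc : ∀ x ∈ [x₁, x₂, x₃, x₄, x₅], ∀ e : Bool, cond e x 1 ∈ Ns K := fun x hx e => by
    cases e; exacts [one_mem _, hn x hx]
  obtain ⟨e1, k1, c1, m1⟩ := adj_step e0 (hq x₅ (by simp)) (hn _ (by simp)) hn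
    (fun y hy => hc y hy _ (by simp)) (c0 _ (by simp)) c0
    (fun h => by simpa using hi false false false false true (by simpa using h))
  obtain ⟨e2, k2, c2, m2⟩ := adj_step e1 (hq x₄ (by simp)) (hn _ (by simp)) hn
    (fun y hy => hc y hy _ (by simp)) (c1 _ (by simp)) c1 (fun h => by
      obtain ⟨f₅, k, hk, e⟩ := m1 _ h
      simpa using hi false false false true f₅ (by
        simpa using rel x₄ (by simp) _ k hk e (nc _ (by simp) _)))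
  obtain ⟨e3, k3, c3, m3⟩ := adj_step e2 (hq x₃ (by simp)) (hn _ (by simp)) hn
    (fun y hy => hc y hy _ (by simp)) (c2 _ (by simp)) c2 (fun h => by
      obtain ⟨f₄, b, hb, e⟩ := m2 _ h
      obtain ⟨f₅, k, hk, rfl⟩ := m1 _ hb
      simpa using hi false false true f₄ f₅ (by
        simpa [mul_assoc] using rel x₃ (by simp) _ k hk (e.trans (mul_assoc _ _ _).symm)
          (mul_mem (nc _ (by simp) _) (nc _ (by simp) _))))
  obtain ⟨e4, k4, c4, m4⟩ := adj_step e3 (hq x₂ (by simp)) (hn _ (by simp)) hn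
    (fun y hy => hc y hy _ (by simp)) (c3 _ (by simp)) c3 (fun h => by
      obtain ⟨f₃, b, hb, e⟩ := m3 _ h
      obtain ⟨f₄, b', hb', rfl⟩ := m2 _ hb
      obtain ⟨f₅, k, hk, rfl⟩ := m1 _ hb'
      simpa using hi false true f₃ f₄ f₅ (by
        simpa [mul_assoc] using rel x₂ (by simp) (cond f₃ x₃ 1 * cond f₄ x₄ 1 * cond f₅ x₅ 1) k hk
          (by rw [e]; simp only [mul_assoc])
          (mul_mem (mul_mem (nc _ (by simp) _) (nc _ (by simp) _)) (nc _ (by simp) _))))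
  have := e4.card_le1 h4 (c4 x₁ (by simp)) (hq x₁ (by simp)) (fun h => by
      obtain ⟨f₂, b, hb, e⟩ := m4 _ h
      obtain ⟨f₃, b', hb', rfl⟩ := m3 _ hb
      obtain ⟨f₄, b'', hb'', rfl⟩ := m2 _ hb'
      obtain ⟨f₅, k, hk, rfl⟩ := m1 _ hb''
      simpa using hi true f₂ f₃ f₄ f₅ (by
        simpa [mul_assoc] using rel x₁ (by simp)
          (cond f₂ x₂ 1 * cond f₃ x₃ 1 * cond f₄ x₄ 1 * cond f₅ x₅ 1) k hk
          (by rw [e]; simp only [mul_assoc])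
          (mul_mem (mul_mem (mul_mem (nc _ (by simp) _) (nc _ (by simp) _)) (nc _ (by simp) _))
            (nc _ (by simp) _))))
  have : 0 < Nat.card K := Nat.card_pos
  omega

/-- normalisers grow -/
theorem grow (hT : IsPGroup 2 T) (h1 : P ≤ T) (h2 : X ≤ T) (h3 : P ≤ Ns X) (h4 : ¬ X ≤ P) :
    ∃ x ∈ X, x ∈ Ns P ∧ x ∉ P := by
  have : Fact (Nat.Prime 2) := ⟨Nat.prime_two⟩
  have k : P < X ⊔ P := lt_of_le_of_ne le_sup_right fun e => h4 (e ▸ le_sup_left)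
  obtain ⟨g, hg', hP⟩ := SetLike.exists_of_lt (lt_inf_normalizer (hT.to_le (sup_le h2 h1)) k)
  obtain ⟨hg, hN⟩ := mem_inf.1 hg'
  obtain ⟨x, hx, p, hp, rfl⟩ := (Solv.Coprime.mem_sup_iff h3).1 hg
  exact ⟨x, hx, by simpa using mul_mem hN (inv_mem (le_normalizer hp)),
    fun e => hP (mul_mem e hp)⟩

theorem exists_sq_mem (hx : ∃ n : ℕ, x ^ 2 ^ n = 1) (h : x ∉ K) :
    ∃ m : ℕ, x ^ m ∉ K ∧ x ^ m * x ^ m ∈ K := by
  obtain ⟨n, hn⟩ := hx
  by_contra k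
  push Not at k
  have : ∀ j : ℕ, x ^ 2 ^ j ∉ K := fun j => by
    induction j with
    | zero => simpa using h
    | succ j ih => rw [pow_succ, pow_mul, sq]; exact k _ ih
  exact this n (hn ▸ one_mem _)

theorem two_elt (hT : IsPGroup 2 T) (hx : x ∈ T) : ∃ n : ℕ, x ^ 2 ^ n = 1 := by
  obtain ⟨n, hn⟩ := hT ⟨x, hx⟩
  exact ⟨n, congrArg Subtype.val hn⟩

theorem grow2 (hT : IsPGroup 2 T) (h1 : P ≤ T) (h4 : ¬ T ≤ P) :
    ∃ x ∈ T, x ∈ Ns P ∧ x ∉ P ∧ x * x ∈ P := by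
  obtain ⟨x, hx, hN, hP⟩ := grow hT h1 le_rfl (h1.trans le_normalizer) h4
  obtain ⟨m, k1, k2⟩ := exists_sq_mem (two_elt hT hx) hP
  exact ⟨_, pow_mem hx m, pow_mem hN m, k1, k2⟩

/-- a non-trivial normal subgroup meets the centre -/
theorem meet (hT : IsPGroup 2 T) (h1 : X ≤ T) (h2 : T ≤ Ns X) (h3 : X ≠ ⊥) :
    ∃ x ∈ X, x ≠ 1 ∧ x * x = 1 ∧ x ∈ Cs T := by
  have : Fact (Nat.Prime 2) := ⟨Nat.prime_two⟩
  obtain ⟨⟨x, hx, hc⟩, k⟩ := ne_bot_iff_exists_ne_one.1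
    (Solv.PG.inf_centralizer_ne_bot hT (hT.to_le h1) h2 h3)
  obtain ⟨m, k1, k2⟩ := exists_sq_mem (K := ⊥) (two_elt hT (h1 hx))
    (fun e => k (Subtype.ext (mem_bot.1 e)))
  exact ⟨_, pow_mem hx m, fun e => k1 (mem_bot.2 e), mem_bot.1 k2, pow_mem hc m⟩

theorem X8.ne (h : X8 u v w) : u * v ≠ v * u := fun e => h.w1 (by
  have := h.uv; rw [e] at this; exact (mul_eq_right.1 this.symm))

theorem X8.cm (h : X8 u v w) : ⁅u, v⁆ = w := by
  rw [commutatorElement_def, h.uv]; group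

theorem X8.cm' (h : X8 u v w) : ⁅v, u⁆ = w := by
  rw [← commutatorElement_inv, h.cm, inv_eq h.w2]

/-- the centraliser of two commuting groups of order eight -/
theorem r5c (h4 : SectionalPRankLE 2 4 G) (h1 : X8 u v w) (h2 : X8 u' v' w') (hw : w ≠ w')
    (c1 : u * u' = u' * u) (c2 : u * v' = v' * u) (c3 : v * u' = u' * v) (c4 : v * v' = v' * v)
    (hc : ∃ n : ℕ, c ^ 2 ^ n = 1) (d1 : c * u = u * c) (d2 : c * v = v * c) (d3 : c * u' = u' * c)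
    (d4 : c * v' = v' * c) : c ∈ F4 w w' := by
  by_contra hn
  obtain ⟨m, k1, k2⟩ := exists_sq_mem hc hn
  have a1 : Commute (c ^ m) u := Commute.pow_left d1 m
  have a2 : Commute (c ^ m) v := Commute.pow_left d2 m
  have a3 : Commute (c ^ m) u' := Commute.pow_left d3 m
  have a4 : Commute (c ^ m) v' := Commute.pow_left d4 m
  generalize c ^ m = e at k1 k2 a1 a2 a3 a4
  have C : ∀ {x a b : G}, Commute x a → Commute x b → Commute x ⁅a, b⁆ := fun ha hb =>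
    ((ha.mul_right hb).mul_right ha.inv_right).mul_right hb.inv_right
  have cw : ∀ x ∈ [u, v, u', v', e], Commute x w ∧ Commute x w' := by
    simp only [List.mem_cons, List.not_mem_nil, or_false, forall_eq_or_imp, forall_eq]
    exact ⟨⟨h1.uw, h2.cm ▸ C c1 c2⟩, ⟨h1.vw, h2.cm ▸ C c3 c4⟩,
      ⟨h1.cm ▸ C (Commute.symm c1) (Commute.symm c3), h2.uw⟩,
      ⟨h1.cm ▸ C (Commute.symm c2) (Commute.symm c4), h2.vw⟩,
      h1.cm ▸ C a1 a2, h2.cm ▸ C a3 a4⟩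
  have ck : ∀ x ∈ [u, v, u', v', e], x ∈ Cs (F4 w w') := fun x hx =>
    cs_of fun k hk => (show F4 w w' ≤ C1 x from F4_le
      (mem_centralizer_singleton_iff.2 (cw x hx).1.symm)
      (mem_centralizer_singleton_iff.2 (cw x hx).2.symm)) hk |> mem_centralizer_singleton_iff.1
        |>.symm
  have o : ∀ {x y : G}, Commute x y → ⁅x, y⁆ ∈ F4 w w' := fun h => by
    rw [commutatorElement_eq_one_iff_mul_comm.2 h]; exact one_mem _
  have sq : ∀ {x t : G}, t ∈ F4 w w' → x * x = 1 ∨ x * x = t → x * x ∈ F4 w w' := fun ht h => by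
    rcases h with h | h <;> rw [h]; exacts [one_mem _, ht]
  refine rank5 (K := F4 w w') (x₁ := u) (x₂ := v) (x₃ := u') (x₄ := v') (x₅ := e) h4
    (fun x hx => cs_le_ns le_rfl (ck x hx)) ?_ ?_ fun e₁ e₂ e₃ e₄ e₅ hk => ?_
  · simp only [List.mem_cons, List.not_mem_nil, or_false, forall_eq_or_imp, forall_eq]
    have c1' : Commute u u' := c1
    have c2' : Commute u v' := c2
    have c3' : Commute v u' := c3
    have c4' : Commute v v' := c4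
    exact ⟨⟨o rfl, h1.cm ▸ z_F4, o c1, o c2, o a1.symm⟩, ⟨h1.cm' ▸ z_F4, o rfl, o c3, o c4, o a2.symm⟩,
      ⟨o c1'.symm, o c3'.symm, o rfl, h2.cm ▸ v_F4, o a3.symm⟩,
      ⟨o c2'.symm, o c4'.symm, h2.cm' ▸ v_F4, o rfl, o a4.symm⟩, o a1, o a2, o a3, o a4, o rfl⟩
  · simp only [List.mem_cons, List.not_mem_nil, or_false, forall_eq_or_imp, forall_eq]
    exact ⟨sq z_F4 h1.u2, sq z_F4 h1.v2, sq v_F4 h2.u2, sq v_F4 h2.v2, k2⟩
  · have p : ∀ x ∈ [u, v, u', v', e], Commute x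
        (cond e₁ u 1 * cond e₂ v 1 * cond e₃ u' 1 * cond e₄ v' 1 * cond e₅ e 1) :=
      fun x hx => cs_comm (ck x hx) hk
    have q : ∀ {x y : G} (f : Bool), Commute x y → Commute x (cond f y 1) := fun f h => by
      cases f; exacts [Commute.one_right _, h]
    have r : ∀ {x a b : G}, Commute x (a * b) → Commute x b → Commute x a := fun h1 h2 => by
      simpa using h1.mul_right h2.inv_right
    have l : ∀ {x a b : G}, Commute x (a * b) → Commute x a → Commute x b := fun h1 h2 => by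
      simpa using h2.inv_right.mul_right h1
    have f : ∀ {x y : G} (f : Bool), ¬ Commute x y → Commute x (cond f y 1) → f = false :=
      fun f h1 h2 => by cases f; exacts [rfl, absurd h2 h1]
    have c2' : Commute u v' := c2
    have c4' : Commute v v' := c4
    have c1' : Commute u u' := c1
    have c3' : Commute v u' := c3
    obtain rfl := f e₂ h1.ne
      (l (r (r (r (p u (by simp)) (q _ a1.symm)) (q _ c2)) (q _ c1)) (q _ rfl))
    obtain rfl := f e₁ (fun e => h1.ne e.symm)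
      (r (r (r (r (p v (by simp)) (q _ a2.symm)) (q _ c4)) (q _ c3)) (q _ rfl))
    obtain rfl := f e₄ h2.ne (l (r (p u' (by simp)) (q _ a3.symm))
      (((q _ c1'.symm).mul_right (q _ c3'.symm)).mul_right (q _ rfl)))
    obtain rfl := f e₃ (fun e => h2.ne e.symm) (l (r (r (p v' (by simp)) (q _ a4.symm)) (q _ rfl))
      ((q _ c2'.symm).mul_right (q _ c4'.symm)))
    cases e₅
    · simp
    · exact absurd (by simpa using hk) k1

/-- normal subgroups with different centres commute -/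
theorem NC.comm (hR : IsPGroup 2 R) (h1 : NC R X₁ w₁) (h2 : NC R X₂ w₂) (hw : w₁ ≠ w₂) :
    X₁ ⊓ X₂ = ⊥ ∧ X₁ ≤ Cs X₂ := by
  have k : X₁ ⊓ X₂ = ⊥ := by
    by_contra k
    obtain ⟨x, hx, x1, -, xc⟩ := meet hR (inf_le_left.trans h1.le) (fun r hr => ns_of fun x hx =>
      ⟨mem_normalizer_conj (h1.nrm hr) hx.1, mem_normalizer_conj (h2.nrm hr) hx.2⟩) k
    exact hw (((h1.cen x hx.1 (cs_mono h1.le xc)).resolve_left x1).symm.trans
      ((h2.cen x hx.2 (cs_mono h2.le xc)).resolve_left x1))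
  refine ⟨k, fun a ha => cs_of fun b hb => commutatorElement_eq_one_iff_mul_comm.1 (mem_bot.1 ?_)⟩
  rw [← k]
  refine mem_inf.2 ⟨?_, mul_mem (mem_normalizer_conj (h2.nrm (h1.le ha)) hb) (inv_mem hb)⟩
  rw [commutatorElement_def, mul_assoc, mul_assoc, ← mul_assoc b]
  simpa using mul_mem ha (mem_normalizer_conj (h1.nrm (h2.le hb)) (inv_mem ha))

theorem NC.three (h4 : SectionalPRankLE 2 4 G) (hR : IsPGroup 2 R) (h1 : NC R X₁ w₁)
    (h2 : NC R X₂ w₂) (h3 : NC R X₃ w₃) (h12 : w₁ ≠ w₂) (h13 : w₁ ≠ w₃) (h23 : w₂ ≠ w₃) : False := by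
  obtain ⟨u, hu, v, hv, k1⟩ := h1.x8
  obtain ⟨u', hu', v', hv', k2⟩ := h2.x8
  obtain ⟨a, ha, b, hb, k3⟩ := h3.x8
  have c := (h1.comm hR h2 h12).2
  have c1 := (h3.comm hR h1 h13.symm).2
  have c2 := (h3.comm hR h2 h23.symm).2
  have m := r5c h4 k1 k2 h12 (cs_comm (c hu) hu') (cs_comm (c hu) hv') (cs_comm (c hv) hu')
    (cs_comm (c hv) hv') (two_elt hR (h3.le ha)) (cs_comm (c1 ha) hu) (cs_comm (c1 ha) hv)
    (cs_comm (c2 ha) hu') (cs_comm (c2 ha) hv')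
  have w1 : w₁ ∈ X₁ := k1.cm ▸ mul_mem (mul_mem (mul_mem hu hv) (inv_mem hu)) (inv_mem hv)
  have w2 : w₂ ∈ X₂ := k2.cm ▸ mul_mem (mul_mem (mul_mem hu' hv') (inv_mem hu')) (inv_mem hv')
  exact k3.ne (mem_centralizer_singleton_iff.1 ((show F4 w₁ w₂ ≤ C1 b from F4_le
    (mem_centralizer_singleton_iff.2 (cs_comm (c1 hb) w1).symm)
    (mem_centralizer_singleton_iff.2 (cs_comm (c2 hb) w2).symm)) m))

omit [Finite G] in
theorem X8.cj (h : X8 u v w) (g : G) : X8 (g * u * g⁻¹) (g * v * g⁻¹) (g * w * g⁻¹) :=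
  ⟨fun e => h.w1 (conj_eq_one_iff.1 e), by rw [conj_mul, h.w2]; simp,
    by rw [conj_mul, conj_mul, conj_mul, h.uv], by rw [conj_mul, conj_mul, h.uw],
    by rw [conj_mul, conj_mul, h.vw],
    h.u2.imp (fun e => by rw [conj_mul, e]; simp) fun e => by rw [conj_mul, e],
    h.v2.imp (fun e => by rw [conj_mul, e]; simp) fun e => by rw [conj_mul, e]⟩

omit [Finite G] in
theorem NC.cj (h1 : NC R X w) (g : G) : NC (cj g R) (cj g X) (g * w * g⁻¹) := by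
  obtain ⟨u, hu, v, hv, k⟩ := h1.x8
  refine ⟨cj_mono g h1.le, (cj_mono g h1.nrm).trans (cj_normalizer g X).le,
    ⟨_, conj_mem_cj.2 hu, _, conj_mem_cj.2 hv, k.cj g⟩, fun x hx hc => ?_⟩
  replace hc := (cj_centralizer g X).ge hc
  rcases h1.cen _ (mem_cj.1 hx) (mem_cj.1 hc) with e | e
  · exact Or.inl (by simpa [mul_assoc] using congrArg (fun t => g * t * g⁻¹) e)
  · exact Or.inr (by rw [← e]; group)

omit [Finite G] in
theorem NC.mono (h1 : NC R X w) (h2 : X ≤ L) (h3 : L ≤ Ns X) : NC L X w := ⟨h2, h3, h1.x8, h1.cen⟩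

/-- extremal conjugation -/
theorem ext_in (hM : IsSylowIn 2 M (H ⊓ Ns U)) (hg : g ∈ H) (h1 : cj g U' = U) (hR : IsPGroup 2 R)
    (h2 : R ≤ H ⊓ Ns U') : ∃ c ∈ H ⊓ Ns U, cj (c * g) R ≤ M := by
  have : Fact (Nat.Prime 2) := ⟨Nat.prime_two⟩
  obtain ⟨c, hc, k⟩ := hM.exists_cj_le (isPGroup_cj hR g) (le_inf
    (cj_le_of_mem_of_le hg (h2.trans inf_le_left))
    (h1 ▸ (cj_mono g (h2.trans inf_le_right)).trans (cj_normalizer g U').le))
  exact ⟨c, hc, by rwa [cj_mul]⟩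

theorem sylIn (h1 : (S : Subgroup G) ≤ H) : IsSylowIn 2 (S : Subgroup G) H :=
  haveI : Fact (Nat.Prime 2) := ⟨Nat.prime_two⟩
  isSylowIn_of_le S h1

/-- extremal transfer -/
theorem Ctx.tr2 (h0 : Ctx S) (h1 : ∀ x ∈ (S : Subgroup G), ∀ y ∈ (S : Subgroup G), ⁅x, y⁆ ∈ M)
    (hy : y ∈ (S : Subgroup G))
    (h2 : ∀ u ∈ (S : Subgroup G), ∀ n : ℕ, IsConj (y ^ 2 ^ (n + 1)) u → u ∈ M)
    (h3 : ∀ u ∈ (S : Subgroup G), ∀ v ∈ (S : Subgroup G), IsConj y u → IsConj y v → u ∉ M → v ∉ M →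
      u * v ∈ M) :
    ∃ g : G, g * y * g⁻¹ ∈ (S : Subgroup G) ∧ g * y * g⁻¹ ∈ M ∧
      ∀ r ∈ (S : Subgroup G), r * y = y * r → g * r * g⁻¹ ∈ (S : Subgroup G) := by
  have cj : ∀ a t : G, IsConj t (a⁻¹ * t * a) := fun a t => isConj_iff.2 ⟨a⁻¹, by simp⟩
  obtain ⟨n, hn⟩ := two_elt S.isPGroup' hy
  obtain ⟨k, -, hk⟩ := (Nat.dvd_prime_pow Nat.prime_two).1 (orderOf_dvd_of_pow_eq_one hn)
  obtain ⟨a, k1, k2, k3⟩ := thompson_transfer_subgroup (H := (S : Subgroup G)) (T := M)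
    (Four.odd_index S le_rfl) h1
    (fun x hx => (two_elt S.isPGroup' hx).imp fun _ e => by rw [e]; exact one_mem _) y ⟨k, hk⟩
    (fun m hm hm1 a ha => by
      obtain ⟨j, -, rfl⟩ := (Nat.dvd_prime_pow Nat.prime_two).1 (hk ▸ hm)
      obtain _ | j := j
      · exact absurd rfl hm1
      · exact h2 _ ha j (cj _ _))
    (fun a b ha hb => h3 _ ha _ hb (cj _ _) (cj _ _)) (mem_sup_left (h0.perf ▸ mem_top _))
    ((S : Subgroup G) ⊓ C1 y) (pS inf_le_left) fun r hr => mem_centralizer_singleton_iff.1 hr.2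
  exact ⟨a⁻¹, by simpa using k1, by simpa using k2,
    fun r hr e => by simpa using k3 r ⟨hr, mem_centralizer_singleton_iff.2 e⟩⟩

omit [Finite G] in
theorem mem_of_odd_pow {m : ℕ} (hm : Odd m) (hx : ∃ n : ℕ, x ^ 2 ^ n = 1) (h : x ^ m ∈ Z) :
    x ∈ Z := by
  obtain ⟨k, e⟩ := hx
  obtain ⟨j, hj⟩ := exists_pow_eq_self_of_coprime (x := x) (n := m)
    (Nat.Coprime.coprime_dvd_right (orderOf_dvd_of_pow_eq_one e)
      (Nat.Coprime.pow_right k (Nat.coprime_two_right.2 hm)))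
  exact hj ▸ pow_mem h j

omit [Finite G] in
theorem mem_of_sq_odd {m : ℕ} (hm : Odd m) (h1 : x * x ∈ Z) (h : x ^ m ∈ Z) : x ∈ Z := by
  obtain ⟨j, rfl⟩ := hm
  rw [pow_succ, pow_mul, sq] at h
  exact (mul_mem_cancel_left (pow_mem h1 j)).1 h

namespace Gn
variable (h0 : Gn (S : Subgroup G) P d)
include h0

theorem le : P ≤ S := by
  rcases h0 with ⟨s, h⟩ | ⟨rfl, -⟩; exacts [h.le, le_rfl]

theorem dN : d ∈ Ns P := by
  rcases h0 with ⟨s, h⟩ | ⟨rfl, h, -⟩; exacts [h.dN, h]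

theorem dP (hx : x ∈ P) : d * x * d⁻¹ ∈ P := mem_normalizer_conj h0.dN hx

theorem cent (hx : x ∈ (S : Subgroup G)) (hc : x ∈ Cs P) : x ∈ P := by
  rcases h0 with ⟨s, h⟩ | ⟨rfl, -⟩; exacts [h.cent x hx hc, hx]

theorem odd : ∃ m : ℕ, Odd m ∧ d ^ m ∈ Cs P := by
  rcases h0 with ⟨s, h⟩ | ⟨-, -, h⟩
  · exact ⟨3, by decide, h.d3⟩
  · exact ⟨_, h, by rw [pow_orderOf_eq_one]; exact one_mem _⟩

theorem tri (hx : ¬ (S : Subgroup G) ≤ P) : ∃ s, Tri (S : Subgroup G) P d s :=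
  h0.resolve_right fun h => hx h.1.ge

theorem stab (h1 : W ≤ U) (h2 : U ≤ P) (h3 : P ≤ Ns W ⊓ Ns U) (h4 : d ∈ Ns W ⊓ Ns U)
    (hx : x ∈ (S : Subgroup G)) (hxN : x ∈ Ns P) (hxP : x ∉ P) (h5 : x ∈ Ns W)
    (h6 : ∀ u ∈ U, ⁅x, u⁆ ∈ W) : ∀ u ∈ U, ⁅d, u⁆ ∈ W := by
  obtain ⟨s, h⟩ := h0.tri fun e => hxP (e hx)
  exact h.stab h1 h2 h3 h4 hx hxN hxP h5 h6

theorem cop (h1 : U ≤ P) (h4 : W ≤ U) (h5 : U ≤ Ns Z) (h5' : d ∈ Ns Z)
    (h6 : ∀ u ∈ U, ⁅d, u⁆ ∈ W) (h7 : ∀ u ∈ W, ⁅d, u⁆ ∈ Z) : ∀ u ∈ U, ⁅d, u⁆ ∈ Z := fun u hu => by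
  obtain ⟨m, hm, hc⟩ := h0.odd
  have hc0 := h6 u hu
  have key : ∀ j : ℕ, d ^ j * u * (d ^ j)⁻¹ * u⁻¹ * (⁅d, u⁆ ^ j)⁻¹ ∈ Z := fun j => by
    induction j with
    | zero => simp
    | succ j ih =>
      have e1 : ⁅d, ⁅d, u⁆ ^ j⁆ ∈ Z := h7 _ (pow_mem hc0 j)
      have : d ^ (j + 1) * u * (d ^ (j + 1))⁻¹ * u⁻¹ * (⁅d, u⁆ ^ (j + 1))⁻¹ =
          d * (d ^ j * u * (d ^ j)⁻¹ * u⁻¹ * (⁅d, u⁆ ^ j)⁻¹) * d⁻¹ * ⁅d, ⁅d, u⁆ ^ j⁆ := by
        rw [pow_succ ⁅d, u⁆, pow_succ' d]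
        generalize ⁅d, u⁆ ^ j = t
        simp only [commutatorElement_def]; group
      exact this ▸ mul_mem (mem_normalizer_conj h5' ih) e1
  have k := key m
  rw [cs_conj hc (h1 hu), mul_inv_cancel, one_mul, inv_mem_iff] at k
  exact mem_of_odd_pow hm (two_elt S.isPGroup' (h0.le (h1 (h4 hc0)))) k

theorem cs (h1 : U ≤ P) (h4 : W ≤ U) (h6 : ∀ u ∈ U, ⁅d, u⁆ ∈ W) (h7 : d ∈ Cs W) : d ∈ Cs U :=
  cs_of fun u hu => commutatorElement_eq_one_iff_mul_comm.1 (mem_bot.1 (h0.cop (Z := ⊥) h1 h4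
    (fun _ _ => ns_of (by simp)) (ns_of (by simp)) h6 (fun w hw => mem_bot.2
      (commutatorElement_eq_one_iff_mul_comm.2 (cs_comm h7 hw))) u hu))

theorem two (h1 : U ≤ P) (h2 : d * d ∈ Ns U) : d ∈ Ns U := by
  obtain ⟨m, hm, hc⟩ := h0.odd
  exact mem_of_sq_odd hm h2 (cs_le_ns h1 hc)

theorem two' (h1 : a ∈ P) (h2 : d * d * a = a * (d * d)) : d * a = a * d := by
  obtain ⟨m, hm, hc⟩ := h0.odd
  exact mem_centralizer_singleton_iff.1 (mem_of_sq_odd (Z := C1 a) hm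
    (mem_centralizer_singleton_iff.2 h2) (mem_centralizer_singleton_iff.2 (cs_comm hc h1)))

theorem cyc (h1 : a ∈ P) (h2 : d * a * d⁻¹ ∈ zpowers a) : d * a = a * d := by
  obtain ⟨n, hn⟩ := two_elt S.isPGroup' (h0.le h1)
  induction n generalizing a with
  | zero => rw [show a = 1 by simpa using hn, mul_one, one_mul]
  | succ n ih =>
    obtain ⟨κ, hκ⟩ := mem_zpowers_iff.1 h2
    have k := ih (a := a * a) (mul_mem h1 h1) (by
      rw [cjm, ← hκ, ← Commute.mul_zpow (Commute.refl a)]; exact zpow_mem_zpowers _ _)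
      (by rw [← sq, ← pow_mul, ← pow_succ', hn])
    have hW : zpowers (a * a) ≤ zpowers a := zpowers_le.2 (mul_mem (mem_zpowers a) (mem_zpowers a))
    rcases Int.even_or_odd' κ with ⟨j, rfl | rfl⟩
    · -- `a` is conjugate to a power of its square
      have e : d * a * d⁻¹ = (a * a) ^ j := by rw [← hκ, zpow_mul, zpow_two]
      have e2 : d⁻¹ * (a * a) ^ j * d = (a * a) ^ j := by
        rw [mul_assoc, ← (Commute.zpow_right k j).eq, inv_mul_cancel_left]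
      rw [← e, show d⁻¹ * (d * a * d⁻¹) * d = a by group] at e2
      exact mul_inv_eq_iff_eq_mul.1 e2.symm
    · refine cs_comm (h0.cs (U := zpowers a) (zpowers_le.2 h1) hW (fun u hu => ?_)
        (cs_of fun u hu => ?_)) (mem_zpowers a)
      · obtain ⟨l, rfl⟩ := mem_zpowers_iff.1 hu
        refine mem_zpowers_iff.2 ⟨j * l, ?_⟩
        rw [commutatorElement_def, ← conj_zpow, ← hκ, ← zpow_two, ← zpow_mul, ← zpow_mul,
          ← zpow_sub]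
        congr 1; ring
      · obtain ⟨l, rfl⟩ := mem_zpowers_iff.1 hu
        exact Commute.zpow_right k l

end Gn

theorem Cx.cls' (h0 : Cx S) (p : G → Prop)
    (h1 : ∀ n ∈ (S : Subgroup G), ∀ a ∈ (S : Subgroup G), p a → p (n * a * n⁻¹))
    (h2 : ∀ P d, Gn (S : Subgroup G) P d → ∀ a ∈ P, p a → p (d * a * d⁻¹)) :
    ∀ a ∈ (S : Subgroup G), ∀ b ∈ (S : Subgroup G), IsConj a b → p a → p b := by
  refine h0.gen.cls p (fun n hn a ha pa => ?_) fun P d s h => h2 P d (Or.inl ⟨s, h⟩)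
  obtain ⟨k, hk, hS⟩ := ns_odd hn
  obtain ⟨r, q, hq, e⟩ := Nat.exists_eq_two_pow_mul_odd (orderOf_pos n).ne'
  -- `n = n ^ (k * i) * n ^ (2 ^ r * j)`
  obtain ⟨i, hi⟩ : ∃ i : ℕ, (k * i) % 2 ^ r = 1 % 2 ^ r := by
    obtain ⟨i, hi⟩ := Nat.exists_mul_mod_eq_of_coprime (n := k) (k := 2 ^ r) 1
      (Nat.Coprime.pow_right r (Nat.coprime_two_right.2 hk)) (by positivity)
    exact ⟨i, hi.2⟩
  obtain ⟨j, hj⟩ : ∃ j : ℤ, (1 : ℤ) = (k * i : ℕ) + 2 ^ r * j := by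
    obtain ⟨j, hj⟩ := (Nat.modEq_iff_dvd.1 hi)
    exact ⟨j, by push_cast at hj ⊢; linarith⟩
  have en : n = (n ^ k) ^ i * (n ^ 2 ^ r) ^ j := by
    rw [← pow_mul, ← zpow_natCast, ← zpow_natCast n (2 ^ r), ← zpow_mul, ← zpow_add]
    push_cast at hj ⊢
    rw [← hj, zpow_one]
  have ho : Odd (orderOf ((n ^ 2 ^ r) ^ j)) := hq.of_dvd_nat (orderOf_dvd_of_pow_eq_one (by
    rw [← zpow_natCast, ← zpow_mul, mul_comm, zpow_mul, zpow_natCast, ← pow_mul, ← e,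
      pow_orderOf_eq_one, one_zpow]))
  have hN : (n ^ 2 ^ r) ^ j ∈ Ns (S : Subgroup G) := zpow_mem (pow_mem hn _) j
  have := h1 _ (pow_mem hS i) _ (mem_normalizer_conj hN ha) (h2 _ _ (Or.inr ⟨rfl, hN, ho⟩) a ha pa)
  generalize (n ^ k) ^ i = s at en this
  generalize (n ^ 2 ^ r) ^ j = t at en this
  rw [en, show s * t * a * (s * t)⁻¹ = s * (t * a * t⁻¹) * s⁻¹ by group]
  exact this

theorem Cx.foc' (h0 : Cx S) (h1 : ∀ x ∈ (S : Subgroup G), ∀ y ∈ (S : Subgroup G), ⁅x, y⁆ ∈ K)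
    (h2 : ∀ P d, Gn (S : Subgroup G) P d → ∀ p ∈ P, ⁅d, p⁆ ∈ K) : (S : Subgroup G) ≤ K := by
  have key : ∀ a ∈ (S : Subgroup G), ∀ b ∈ (S : Subgroup G), IsConj a b → b * a⁻¹ ∈ K :=
    fun a ha b hb hc => h0.cls' (fun b => b * a⁻¹ ∈ K) (fun n hn x hx k => by
      rw [conj_eq_cm, mul_assoc]; exact mul_mem (h1 n hn x hx) k) (fun P d h x hx k => by
      rw [conj_eq_cm, mul_assoc]; exact mul_mem (h2 P d h x hx) k) a ha b hb hc (by simp)
  intro x hx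
  by_contra hK
  obtain ⟨m, k1, k2⟩ := exists_sq_mem (two_elt S.isPGroup' hx) hK
  have hy := pow_mem hx m
  generalize x ^ m = y at k1 k2 hy
  obtain ⟨g, a, b, -⟩ := h0.toCtx.tr2 h1 hy (fun u hu n hc => by
      have := key _ (pow_mem hy _) u hu hc
      refine (mul_mem_cancel_right (inv_mem ?_)).1 this
      rw [pow_succ', pow_mul, sq]; exact pow_mem k2 _)
    fun u hu v hv hu' hv' _ _ => by
      rw [show u * v = u * y⁻¹ * (⁅y, v⁆ * (v * y⁻¹)) * (y * y) by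
        simp only [commutatorElement_def]; group]
      exact mul_mem (mul_mem (key y hy u hu hu') (mul_mem (h1 y hy v hv) (key y hy v hv hv'))) k2
  exact k1 (inv_mem_iff.1 ((mul_mem_cancel_left b).1 (key y hy _ a (isConj_iff.2 ⟨g, rfl⟩))))

theorem Cx.sc' (h0 : Cx S) (h1 : X ≤ S) (h2 : (S : Subgroup G) ≤ Ns X)
    (h3 : ∀ P d, Gn (S : Subgroup G) P d → ∀ a ∈ X, a ∈ P → d * a * d⁻¹ ∈ X) :
    IsStronglyClosed X (S : Subgroup G) :=
  ⟨h1, fun a ha g hg => h0.cls' (· ∈ X) (fun _ hn _ _ k => mem_normalizer_conj (h2 hn) k)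
    (fun P d h a ha k => h3 P d h a k ha) a (h1 ha) _ hg (isConj_iff.2 ⟨g, rfl⟩) ha⟩

theorem Cx.mover (h0 : Cx S) (h1 : z ∈ (S : Subgroup G)) (h2 : z ∈ Cs (S : Subgroup G))
    (h3 : z * z = 1) (h4 : z ≠ 1) : ∃ P d, Gn (S : Subgroup G) P d ∧ d * z ≠ z * d := by
  by_contra k
  push Not at k
  obtain ⟨x, hx, x1, x2⟩ := h0.toCtx.zstar h1 h3 h4
  exact x1 (h0.cls' (· = z) (fun n hn a _ e => by rw [e, ← cs_comm h2 hn, mul_inv_cancel_right])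
    (fun P d h a _ e => by rw [e, k P d h, mul_inv_cancel_right]) z h1 x hx x2 rfl)

end Cfsg.Lib.GHM
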