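import Cfsg.Agent.GHM.Api
import Cfsg.Agent.Solv.Quaternion

/-!
# The conjugates of `v` under a moving `Tri` commute
-/

set_option autoImplicit false

namespace Cfsg.Lib.GHM

open Subgroup Cfsg.Lib.Trans Cfsg.Lib.Gold Cfsg.Lib.Rank2
open scoped commutatorElement

universe u

variable {G : Type u} [Group G] [Finite G] {S : Sylow 2 G}
  {T P Q M Z U W A B V F P₁ P₂ : Subgroup G} {d s d' s' z v w c t y e x n ρ r d₁ s₁ d₂ s₂ : G}

omit [Finite G] in
theorem zs_comm_of_sq (h : ∀ x ∈ B, x * x = 1) (hx : x ∈ B) (hy : y ∈ B) : x * y = y * x := by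
  have h1 := h _ (mul_mem hx hy)
  calc x * y = x * (x * y * (x * y)) * y * (x * x)⁻¹ * (x * x) := by rw [h1]; group
    _ = x * x * y * x * (y * y) := by group
    _ = y * x := by rw [h x hx, h y hy]; group

omit [Finite G] in
/-- adjoining a commuting involution to an elementary abelian group -/
theorem zs_adj [Finite G] (h : ∀ x ∈ B, x * x = 1) (h1 : c * c = 1) (h2 : c ∈ Cs B) :
    (∀ x, x ∈ B ⊔ zpowers c ↔ x ∈ B ∨ c⁻¹ * x ∈ B) ∧ (∀ x ∈ B ⊔ zpowers c, x * x = 1) ∧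
      (c ∉ B → Nat.card ↥(B ⊔ zpowers c) = 2 * Nat.card B) := by
  have h3 : ∀ b ∈ B, c * b * c⁻¹ ∈ B := fun b hb => by rwa [conj_eq_of_mem_centralizer h2 hb]
  have h4 : c * c ∈ B := h1 ▸ one_mem _
  exact ⟨fun _ => GHB.mem_adj h3 h4, ((GHB.EA.bot h).adj (fun b hb =>
    mem_bot.2 (commutatorElement_eq_one_iff_mul_comm.2 (h2 b hb).symm)) (h1 ▸ one_mem _)).sq,
    GHB.card_adj h3 h4⟩

omit [Finite G] in
theorem zs_cent (h1 : x ∈ Cs B) (h2 : c * x = x * c) : x ∈ Cs (B ⊔ zpowers c) := fun _ hy =>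
  mem_centralizer_singleton_iff.1 ((sup_le (fun b hb => mem_centralizer_singleton_iff.2 (h1 b hb))
    (zpowers_le.2 (mem_centralizer_singleton_iff.2 h2)) : _ ≤ C1 x) hy)

theorem VV.zs_conj (h : VV T P d s z v) (hx : x ∈ T) : x * v * x⁻¹ = v ∨ x * v * x⁻¹ = z * v := by
  by_cases e : x ∈ P
  · exact Or.inl (by rw [(h.memP hx).1 e, mul_inv_cancel_right])
  · exact Or.inr (h.out hx e)

omit [Finite G] in
theorem b1_comm_mem (hx : x ∈ P) (hy : y ∈ P) : ⁅x, y⁆ ∈ GHB.Phi P := by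
  rw [GHB.comm_eq_sq, show y⁻¹ * (x * x)⁻¹ * y⁻¹⁻¹ = (y⁻¹ * x * y * (y⁻¹ * x * y))⁻¹ by group]
  exact mul_mem (mul_mem (GHB.sq_mem_Phi (mul_mem hx hy)) (inv_mem (GHB.sq_mem_Phi
    (mul_mem (mul_mem (inv_mem hy) hx) hy)))) (inv_mem (GHB.sq_mem_Phi hy))

omit [Finite G] in
theorem b1_ea (h1 : GHB.Phi P ≤ M) (h2 : M ≤ P) : GHB.EA M P :=
  ⟨h2, fun _ hx => h1 (GHB.sq_mem_Phi hx), fun x hx k hk => by
    simpa [commutatorElement_def] using mul_mem (h1 (b1_comm_mem hx (h2 hk))) hk⟩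

theorem b1_frat (hP : IsPGroup 2 P) (h1 : M ≤ P) (h2 : P ≤ GHB.Phi P ⊔ M) : P ≤ M := by
  rw [← subgroupOf_eq_top]
  refine frattini_nongenerating (map_injective P.subtype_injective ?_)
  rw [Subgroup.map_sup, map_subgroupOf_eq_of_le h1, ← MonoidHom.range_eq_map, range_subtype]
  exact le_antisymm (sup_le h1 (map_subtype_le _))
    (h2.trans (sup_le (le_sup_of_le_right (GHB.Phi_le_frattini hP)) le_sup_left))

/-- an automorphism of order three of a group of sectional rank two fixing an element of order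
at least four is trivial -/
theorem b1_cent (hU : IsPGroup 2 U) (h1 : d ^ 3 ∈ Cs U) (h2 : c * c ≠ 1) (h3 : d * c = c * d)
    (h4 : ∀ R ≤ U, c ∈ R → Nat.card R ≤ 4 * Nat.card (GHB.Phi R)) {R : Subgroup G} (h5 : R ≤ U)
    (h6 : c ∈ R) (h7 : d ∈ Ns R) : d ∈ Cs R := by
  induction R using WellFoundedLT.induction with | _ R ih
  have hR := hU.to_le h5
  by_cases h0 : R ≤ zpowers c
  · exact fun x hx => mem_centralizer_singleton_iff.1
      ((zpowers_le (H := C1 d)).2 (mem_centralizer_singleton_iff.2 h3.symm) (h0 hx))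
  have k1 : GHB.Phi R ⊔ zpowers c ≤ R := sup_le GHB.Phi_le (zpowers_le.2 h6)
  have k2 : d ∈ Ns (GHB.Phi R ⊔ zpowers c) := cj_eq_self_iff.1 (by
    rw [cj_sup, cj_zpowers, h3, mul_inv_cancel_right, cj, GHB.map_Phi, cj_def,
      cj_eq_of_mem_normalizer h7])
  have k3 := ih _ (k1.lt_of_not_ge fun h => h0 (b1_frat hR (zpowers_le.2 h6) h)) (k1.trans h5)
    (mem_sup_right (mem_zpowers c)) k2
  have k4 := b1_ea le_sup_left k1
  generalize hK : GHB.Phi R ⊔ zpowers c = K at k1 k2 k3 k4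
  by_contra hc
  obtain ⟨x, hx, e⟩ : ∃ x ∈ R, ⁅d, x⁆ ∉ K := by
    by_contra h
    push Not at h
    exact hc fun u hu => (commutatorElement_eq_one_iff_mul_comm.1 (mem_bot.1 (cop (Z := ⊥) hR h7
      (centralizer_le h5 h1) bot_le k1 (le_top.trans (normalizer_eq_top _).ge)
      ((normalizer_eq_top _).ge trivial) h (fun u hu => mem_bot.2
        (commutatorElement_eq_one_iff_mul_comm.2 (k3 u hu).symm)) u hu))).symm
  have n1 : ∀ y ∈ R, ⁅d, y⁆ ∈ R := fun y hy => mul_mem (mem_normalizer_conj h7 hy) (inv_mem hy)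
  have n2 : ∀ y ∈ R, ⁅d, y⁆ ∈ Cs K := fun y hy k hk => by
    have := k3 _ (k4.nrm _ (inv_mem hy) _ (mem_normalizer_conj' k2 hk))
    have h' := k3 k hk
    calc _ = d * y * d⁻¹ * (d * (y⁻¹ * (d⁻¹ * k * d) * y⁻¹⁻¹)) * d⁻¹ * y⁻¹ := by
          simp only [commutatorElement_def]; group
      _ = _ := by rw [← this, mul_assoc d⁻¹ k, h']; simp only [commutatorElement_def]; group
  have n3 : ∀ y, d * y * d⁻¹ ∈ K → y ∈ K := fun y hy => by
    simpa [mul_assoc] using mem_normalizer_conj' k2 hy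
  obtain ⟨a, ha⟩ : ∃ a, a = ⁅d, x⁆ := ⟨_, rfl⟩
  obtain ⟨b, hb⟩ : ∃ b, b = d * a * d⁻¹ := ⟨_, rfl⟩
  have e3 : d * b * d⁻¹ = (b * a)⁻¹ := by
    have := h1 x (h5 hx)
    calc _ = d ^ 3 * x * (d ^ 3)⁻¹ * (d * d * x⁻¹ * d⁻¹ * d⁻¹) := by
          simp only [hb, ha, commutatorElement_def, pow_three]; group
      _ = _ := by rw [← this]; simp [hb, ha, commutatorElement_def, mul_assoc]
  rw [← ha] at e
  have aR : a ∈ R := ha ▸ n1 x hx
  have bR : b ∈ R := hb ▸ mem_normalizer_conj h7 aR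
  have aC : a ∈ Cs K := ha ▸ n2 x hx
  have bC : b ∈ Cs K := by
    rw [show b = ⁅d, d * x * d⁻¹⁆ by simp only [hb, ha, commutatorElement_def]; group]
    exact n2 _ (mem_normalizer_conj h7 hx)
  have bK : b ∉ K := fun h => e (n3 _ (hb ▸ h))
  have s1 : b * b = a * a := by rw [hb, conj_mul, conj_eq_of_mem_centralizer k3 (k4.sq a aR)]
  have s2 : (b * a)⁻¹ * (b * a)⁻¹ = a * a := by
    rw [← e3, conj_mul, conj_eq_of_mem_centralizer k3 (k4.sq b bR), s1]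
  have m1 : ∀ k ∈ K, a * k * a⁻¹ ∈ K := k4.nrm a aR
  have m2 : ∀ y ∈ K ⊔ zpowers a, b * y * b⁻¹ ∈ K ⊔ zpowers a := fun y hy => by
    simpa [commutatorElement_def] using mul_mem (mem_sup_left
      (k4.comm bR (sup_le k1 (zpowers_le.2 aR) hy))) hy
  have m3 := GHB.card_adj m2 (mem_sup_left (k4.sq b bR)) fun h => by
    rcases (GHB.mem_adj m1 (k4.sq a aR)).1 h with h | h
    · exact bK h
    · refine bK (n3 _ (e3 ▸ inv_mem ?_))
      simpa [mul_assoc] using m1 _ (mul_mem h (k4.sq a aR))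
  rw [GHB.card_adj m1 (k4.sq a aR) e] at m3
  have m4 : K ⊔ zpowers a ⊔ zpowers b ≤ R := sup_le (sup_le k1 (zpowers_le.2 aR)) (zpowers_le.2 bR)
  have m5 := h4 R h5 h6
  have m6 := Trans.card_le_of_le m4
  have m7 : GHB.Phi R = K := eq_of_le_of_card_ge (hK ▸ le_sup_left) (by omega)
  have m8 : R ≤ zpowers a ⊔ zpowers b :=
    b1_frat hR (sup_le (zpowers_le.2 aR) (zpowers_le.2 bR)) (by
      rw [m7, ← sup_assoc]
      exact (eq_of_le_of_card_ge m4 (by rw [m7] at m5; omega)).ge)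
  have c1 := aC _ (k4.comm aR bR)
  have c2 := bC _ (k4.comm aR bR)
  have c3 := bC _ (k4.sq a aR)
  have c4 : ⁅a, b⁆ = ((a * a) ^ 3)⁻¹ := by
    rw [eq_inv_iff_mul_eq_one]
    calc _ = ⁅a, b⁆ * b * b * (a * a) * (a * a) := by
          rw [mul_assoc _ b b, s1, pow_three]; simp only [mul_assoc]
      _ = b * a * (b * a) * (a * a) := by rw [c2]; simp [commutatorElement_def, mul_assoc]
      _ = 1 := by rw [← s2]; group
  have c5 : (a * a) ^ 2 = 1 := by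
    have c6 : ⁅a, b⁆ * ⁅a, b⁆ = 1 :=
      calc _ = a * ⁅a, b⁆ * a⁻¹ * ⁅a, b⁆ := by rw [← c1, mul_inv_cancel_right]
        _ = a * a * b * (a * a)⁻¹ * b⁻¹ := by simp [commutatorElement_def, mul_assoc]
        _ = 1 := by rw [c3]; group
    rw [c4, ← mul_inv_rev, inv_eq_one, ← pow_add, show 3 + 3 = 2 * 3 from rfl, pow_mul] at c6
    obtain ⟨n, hn⟩ := hR ⟨_, pow_mem (mul_mem aR aR) 2⟩
    exact orderOf_eq_one_iff.1 (Nat.eq_one_of_dvd_coprimes (Nat.Coprime.pow_right n (by norm_num))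
      (orderOf_dvd_of_pow_eq_one c6) (orderOf_dvd_of_pow_eq_one (congrArg Subtype.val hn)))
  have u1 : GHB.EA (zpowers (a * a)) (zpowers (a * a)) :=
    ⟨le_rfl, fun _ h => mul_mem h h, fun _ h _ h' => mul_mem (mul_mem h h') (inv_mem h)⟩
  have u2 : zpowers (a * a) ≤ K := zpowers_le.2 (k4.sq a aR)
  have u3 : ∀ y ∈ Cs K, ∀ k ∈ zpowers (a * a), ⁅y, k⁆ ∈ zpowers (a * a) := fun y hy k hk => by
    rw [commutatorElement_eq_one_iff_mul_comm.2 (hy k (u2 hk)).symm]; exact one_mem _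
  have u4 := (u1.adj (u3 a aC) (mem_zpowers _)).adj (u1.comm_adj (u3 a aC) (mem_zpowers _) (u3 b bC)
    (by rw [← commutatorElement_inv, c4, inv_inv]; exact pow_mem (mem_zpowers _) 3))
    (s1 ▸ mem_zpowers _)
  obtain ⟨n, rfl⟩ := GHB.Phi_le_iff.2
    (fun y hy => u4.sq y ((m8.trans (sup_le_sup_right le_sup_right _)) hy))
    (show c ∈ _ from m7 ▸ hK ▸ mem_sup_right (mem_zpowers c))
  exact h2 (by rw [← sq, ← zpow_natCast, ← zpow_mul, mul_comm, zpow_mul, zpow_natCast, c5, one_zpow])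

omit [Finite G] in
theorem b1_same {q p : G} (h1 : q * x = e * (x * q)) (h2 : p * x = e * (x * p)) :
    x * (q⁻¹ * p) = q⁻¹ * p * x := by
  rw [mul_assoc, h2, ← mul_assoc e, show e * x = q * x * q⁻¹ by rw [h1]; group]; group

/-- a quaternion group normalised by `d` on which `P` acts by inner automorphisms -/
theorem b1_gq (h : Ctx S) (k : Tri (S : Subgroup G) P d s) {a b : G} (ha : a ∈ P) (hb : b ∈ P)
    (hc : c ∈ P) (z1 : z ≠ 1) (z2 : z * z = 1) (a2 : a * a = z) (b2 : b * b = z) (c2 : c * c = z)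
    (ba : b * a = z * (a * b)) (ac : a * c = c * a) (bc : b * c = c * b) (da : d * a * d⁻¹ = b)
    (db : d * b * d⁻¹ = z * (a * b)) (dc : d * c = c * d)
    (pa : ∀ p ∈ P, p * a = a * p ∨ p * a = z * (a * p))
    (pb : ∀ p ∈ P, p * b = b * p ∨ p * b = z * (b * p)) : GQ (S : Subgroup G) := by
  have aQ : a ∈ zpowers a ⊔ zpowers b := mem_sup_left (mem_zpowers a)
  have bQ : b ∈ zpowers a ⊔ zpowers b := mem_sup_right (mem_zpowers b)
  have az : a * z = z * a := by rw [← a2, mul_assoc]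
  have bz : b * z = z * b := by rw [← b2, mul_assoc]
  have ab : a * b = z * (b * a) := by rw [ba, ← mul_assoc, z2, one_mul]
  have ne : a * b ≠ b * a := fun e => z1 (by simpa [e] using ba)
  have cen : ∀ x, a * x = x * a → b * x = x * b → x ∈ Cs (zpowers a ⊔ zpowers b) :=
    fun x e e' => zs_cent (fun _ hy => mem_centralizer_singleton_iff.1
      ((zpowers_le (H := C1 x)).2 (mem_centralizer_singleton_iff.2 e) hy)) e'
  have dQ : d ∈ Ns (zpowers a ⊔ zpowers b) := mem_normalizer_of_cj_le (by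
    rw [cj_sup, cj_zpowers, cj_zpowers, da, db, ← a2]
    exact sup_le le_sup_right (zpowers_le.2 (mul_mem (mul_mem aQ aQ) (mul_mem aQ bQ))))
  have hd := b1_cent (U := P ⊓ Cs (zpowers a ⊔ zpowers b)) ((S.2.to_le k.le).to_le inf_le_left)
    (centralizer_le inf_le_left k.d3) (c2 ▸ z1) dc (fun R hR hc => by
      have hz : z ∈ GHB.Phi R := c2 ▸ GHB.sq_mem_Phi hc
      have h1 : ∀ q ∈ zpowers a ⊔ zpowers b, ∀ x ∈ R, ⁅q, x⁆ ∈ GHB.Phi R := fun q hq x hx => by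
        rw [commutatorElement_eq_one_iff_mul_comm.2 ((hR hx).2 q hq)]; exact one_mem _
      refine (b1_ea le_rfl GHB.Phi_le).card_le2 h.r4 (h1 a aQ) (a2 ▸ hz) (h1 b bQ) (b2 ▸ hz)
        (by rw [commutatorElement_def, ba]; simpa [mul_assoc] using hz) (fun h => ne ((hR h).2 b bQ).symm)
        (fun h => ne ((hR h).2 a aQ)) fun h => ne ?_
      have := (hR h).2 a aQ
      rwa [mul_inv_cancel_left, mul_assoc, eq_inv_mul_iff_mul_eq] at this) le_rfl ⟨hc, cen c ac bc⟩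
    (cj_eq_self_iff.1 (by
      rw [cj_inf, Cs, cj_centralizer, cj_eq_of_mem_normalizer k.dN, cj_eq_of_mem_normalizer dQ]))
  have hQ : zpowers a ⊔ zpowers b ≤ P := sup_le (zpowers_le.2 ha) (zpowers_le.2 hb)
  refine ⟨P, _, d, s, k, ⟨hQ, dQ, fun p hp => ?_⟩, Solv.PG.nonempty_sup_mulEquiv_quaternionGroup
    (orderOf_eq_prime_pow (p := 2) (n := 1) (by rwa [pow_one, sq, a2])
      (by rw [show 2 ^ (1 + 1) = 2 * 2 from rfl, pow_mul, sq, sq, a2, z2])) (by rw [b2, sq, a2])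
    (by rw [ba, eq_inv_iff_mul_eq_one, ← z2, ← a2]; group) fun h => ne
      (mem_centralizer_singleton_iff.1 ((zpowers_le (H := C1 a)).2
        (mem_centralizer_singleton_iff.2 rfl) h)).symm⟩
  obtain ⟨q, hq, e⟩ : ∃ q ∈ zpowers a ⊔ zpowers b, q⁻¹ * p ∈ Cs (zpowers a ⊔ zpowers b) := by
    rcases pa p hp with e | e <;> rcases pb p hp with e' | e'
    · exact ⟨1, one_mem _, cen _ (by simp [e]) (by simp [e'])⟩
    · exact ⟨a, aQ, cen _ (b1_same (e := 1) (by simp) (by simp [e])) (b1_same ab e')⟩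
    · exact ⟨b, bQ, cen _ (b1_same ba e) (b1_same (e := 1) (by simp) (by simp [e']))⟩
    · exact ⟨a * b, mul_mem aQ bQ, cen _
        (b1_same (by rw [mul_assoc, ba, ← mul_assoc, az, mul_assoc]) e)
        (b1_same (by conv_lhs => rw [ab]; simp only [mul_assoc]) e')⟩
  have := hd _ (mem_inf.2 ⟨mul_mem (inv_mem (hQ hq)) hp, e⟩)
  rw [show d * p * d⁻¹ * p⁻¹ = d * q * d⁻¹ * (d * (q⁻¹ * p)) * d⁻¹ * p⁻¹ by group, ← this,
    show d * q * d⁻¹ * (q⁻¹ * p * d) * d⁻¹ * p⁻¹ = d * q * d⁻¹ * q⁻¹ by group]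
  exact mul_mem (mem_normalizer_conj dQ hq) (inv_mem hq)

theorem Mv.comm (h : Six S) (h1 : Mv (S : Subgroup G) P₁ P₂ d₁ s₁ d₂ s₂ z v) :
    v * (d₂ * v * d₂⁻¹) = d₂ * v * d₂⁻¹ * v := by
  have k := h1.tri
  have z2 := h1.vv.z2
  have zC : z ∈ Cs P₂ := centralizer_le k.le h1.vv.zc
  have zP : z ∈ P₂ := k.cent z h1.vv.zS zC
  have step : ∀ x ∈ P₂, x * x = 1 → (∀ p ∈ P₂, p * x = x * p ∨ p * x = z * (x * p)) →
      d₂ * x * d₂⁻¹ ∈ P₂ ∧ d₂ * x * d₂⁻¹ * (d₂ * x * d₂⁻¹) = 1 ∧ ∀ p ∈ P₂,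
        p * (d₂ * x * d₂⁻¹) = d₂ * x * d₂⁻¹ * p ∨ p * (d₂ * x * d₂⁻¹) = z * (d₂ * x * d₂⁻¹ * p) :=
    fun x hx e h => ⟨mem_normalizer_conj k.dN hx, by rw [conj_mul, e]; group, fun p hp =>
      (h _ (mem_normalizer_conj' k.dN hp)).imp (fun e => by
        calc _ = d₂ * (d₂⁻¹ * p * d₂ * x) * d₂⁻¹ := by group
          _ = _ := by rw [e]; group) fun e => by
        calc _ = d₂ * (d₂⁻¹ * p * d₂ * x) * d₂⁻¹ := by group
          _ = _ := by
            conv_rhs => rw [← h1.dz]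
            rw [e]; group⟩
  have a0 : ∀ p ∈ P₂, p * v = v * p ∨ p * v = z * (v * p) := fun p hp =>
    (h1.vv.zs_conj (k.le hp)).imp mul_inv_eq_iff_eq_mul.1 fun e => by
      rw [← mul_assoc, ← e, inv_mul_cancel_right]
  obtain ⟨p1, q1, a1⟩ := step v h1.vP h1.vv.v2 a0
  obtain ⟨p2, q2, a2⟩ := step _ p1 q1 a1
  have e3 := k.ddd h1.vP
  have p0 := h1.vP
  have q0 := h1.vv.v2
  generalize e1 : d₂ * v * d₂⁻¹ = v₁ at *
  generalize e2 : d₂ * v₁ * d₂⁻¹ = v₂ at *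
  refine (a1 v p0).resolve_right fun r1 => h.nQ ?_
  have cj2 : ∀ {x y : G}, x * y = z * (y * x) → d₂ * x * d₂⁻¹ * (d₂ * y * d₂⁻¹) =
      z * (d₂ * y * d₂⁻¹ * (d₂ * x * d₂⁻¹)) := fun e => by
    conv_rhs => rw [← h1.dz]
    rw [conj_mul, e]; group
  have r2 := cj2 r1
  have r3 := cj2 r2
  simp only [e1, e2, e3] at r2 r3
  have mul : ∀ {x y p : G}, x ∈ P₂ → (p * x = x * p ∨ p * x = z * (x * p)) →
      (p * y = y * p ∨ p * y = z * (y * p)) →
        p * (x * y) = x * y * p ∨ p * (x * y) = z * (x * y * p) := by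
    rintro x y p hx (e | e) (e' | e') <;> rw [← mul_assoc, e] <;> simp only [mul_assoc, e']
    · simp
    · exact Or.inr (by rw [← mul_assoc, zC x hx, mul_assoc])
    · simp
    · exact Or.inl (by rw [← mul_assoc x, zC x hx, mul_assoc, ← mul_assoc, z2, one_mul])
  have sq : ∀ {x : G}, x * x = 1 → ∀ y, x * (x * y) = y := fun e y => by
    rw [← mul_assoc, e, one_mul]
  have sw : ∀ {x y w : G}, x * y = w → ∀ t, x * (y * t) = w * t := fun e t => by rw [← mul_assoc, e]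
  have s1 : v₁ * v = z * (v * v₁) := by rw [r1, sq z2]
  have s2 : v₂ * v₁ = z * (v₁ * v₂) := by rw [r2, sq z2]
  have t0 := zC v p0
  have t1 := zC v₁ p1
  refine b1_gq (a := v * v₁) (b := v₁ * v₂) (c := v * (v₁ * v₂)) h.toCtx k (mul_mem p0 p1)
    (mul_mem p1 p2) (mul_mem p0 (mul_mem p1 p2)) h1.vv.z1 z2 ?_ ?_ ?_ ?_ ?_ ?_
    (by rw [← conj_mul, e1, e2]) (by rw [← conj_mul, e2, e3]; simp only [mul_assoc, sq q1, r3])
    (mul_inv_eq_iff_eq_mul.1 (Eq.trans (by rw [← conj_mul, ← conj_mul, e1, e2, e3])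
      (?_ : v₁ * (v₂ * v) = _)))
    (fun p hp => mul p0 (a0 p hp) (a1 p hp)) fun p hp => mul p1 (a1 p hp) (a2 p hp)
  all_goals simp only [mul_assoc, mul_one, s2, r3, t0, q0, q1, q2, sw s1, sw s2, sw r3, sw t0,
    sw t1, sq q0, sq q1, sq z2]

end Cfsg.Lib.GHM
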