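import Cfsg.Agent.GHM.Api
import Cfsg.Agent.Solv.Factor

/-!
# Simple groups of sectional 2-rank at most four: existence of `VV`s
-/

set_option autoImplicit false

namespace Cfsg.Lib.GHM

open Subgroup Cfsg.Lib.Trans Cfsg.Lib.Gold
open scoped commutatorElement

universe u

variable {G : Type u} [Group G] {S : Sylow 2 G}
  {T P H P₁ P₂ : Subgroup G} {d s z v c t u x y n d₁ s₁ d₂ s₂ : G}

/-- `Ω₁ Z(P)`. -/
def Z1 (P : Subgroup G) : Subgroup G where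
  carrier := {y | y ∈ P ∧ y ∈ Cs P ∧ y * y = 1}
  one_mem' := ⟨one_mem _, one_mem _, mul_one 1⟩
  mul_mem' {a b} ha hb := ⟨mul_mem ha.1 hb.1, mul_mem ha.2.1 hb.2.1, by
    rw [mul_assoc, ← mul_assoc b, ← cs_comm ha.2.1 hb.1, mul_assoc, hb.2.2, mul_one, ha.2.2]⟩
  inv_mem' {a} ha := by rwa [inv_eq ha.2.2]

theorem Z1_le : Z1 P ≤ P := fun _ h => h.1

theorem Z1_conj (hn : n ∈ Ns P) (hy : y ∈ Z1 P) : n * y * n⁻¹ ∈ Z1 P :=
  ⟨mem_normalizer_conj hn hy.1, cs_ns hy.2.1 hn, by rw [conj_mul, hy.2.2]; simp⟩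

theorem Z1_cs (hx : x ∈ P) : x ∈ Cs (Z1 P) := cs_of fun _ hy => (cs_comm hy.2.1 hx).symm

/-- `[Ω₁ Z(P), d]`. -/
def Zd (hd : d ∈ Ns P) : Subgroup G where
  carrier := {u | ∃ y ∈ Z1 P, u = y * (d * y * d⁻¹)}
  one_mem' := ⟨1, one_mem _, by simp⟩
  mul_mem' := by
    rintro _ _ ⟨a, ha, rfl⟩ ⟨b, hb, rfl⟩
    refine ⟨a * b, mul_mem ha hb, ?_⟩
    rw [cjm, mul_assoc a, ← mul_assoc _ b, ← cs_comm hb.2.1 (Z1_conj hd ha).1]
    simp only [mul_assoc]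
  inv_mem' := by
    rintro _ ⟨a, ha, rfl⟩
    rw [inv_eq (mul_mem ha (Z1_conj hd ha)).2.2]
    exact ⟨a, ha, rfl⟩

theorem Zd_le (hd : d ∈ Ns P) : Zd hd ≤ Z1 P := by
  rintro _ ⟨a, ha, rfl⟩
  exact mul_mem ha (Z1_conj hd ha)

theorem Tri.cen_of (k : Tri T P d s) (hn : T ≤ Ns P) (h1 : c ∈ Cs P) (h2 : u ∈ T) (h3 : u ∉ P)
    (h4 : c * u = u * c) : c ∈ Cs T := cs_of fun x hx => by
  by_cases e : x ∈ P
  · exact cs_comm h1 e
  · have := cs_comm h1 (k.idx2 hn u h2 x hx h3 e)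
    rwa [← mul_assoc, h4, mul_assoc, mul_assoc, mul_right_inj] at this

variable [Finite G]

theorem ns_Z1 : Ns P ≤ Ns (Z1 P) := fun _ hn => ns_of fun _ hy => Z1_conj hn hy

theorem Tri.half (k : Tri T P d s) (hn : T ≤ Ns P) (hH : H ≤ T) :
    Nat.card H ≤ 2 * Nat.card (H ⊓ P : Subgroup G) := by
  have := Solv.card_mul_card_le_of_le hH k.le
  rw [k.card hn, mul_right_comm] at this
  exact Nat.le_of_mul_le_mul_right this Nat.card_pos

theorem Tri.vv_or (h : Ctx S) (k : Tri (S : Subgroup G) P d s) (hn : (S : Subgroup G) ≤ Ns P)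
    (hy : y ∈ Z1 P) (h5 : d * y ≠ y * d) : ∃ z v, VV (S : Subgroup G) P d s z v ∧
      ((∀ y ∈ Z1 P, y * (d * y * d⁻¹) ∈ F4 z v) ∨
        (Nat.card (Z1 P) = 16 ∧ ∀ y ∈ Z1 P, d * y * d⁻¹ = y → y = 1)) := by
  have : Fact (Nat.Prime 2) := ⟨Nat.prime_two⟩
  have le := Zd_le k.dN
  have sq : ∀ u ∈ Zd k.dN, u * u = 1 := fun u hu => (le hu).2.2
  have fpf : ∀ u ∈ Zd k.dN, d * u * d⁻¹ = u → u = 1 := by
    rintro _ ⟨a, ha, rfl⟩ e
    rw [cjm, cs_comm ha.2.1 (k.dP ha.1), mul_right_inj] at e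
    have := k.ddd ha.1
    rw [e] at this
    rw [this, ha.2.2]
  have dV : ∀ u ∈ Zd k.dN, d * u * d⁻¹ ∈ Zd k.dN := by
    rintro _ ⟨a, ha, rfl⟩
    exact ⟨_, Z1_conj k.dN ha, cjm _ _ _⟩
  have sV : s ∈ Ns (Zd k.dN) := ns_of (by
    rintro _ ⟨a, ha, rfl⟩
    have h1 := Z1_conj k.sN ha
    have h2 := Z1_conj (inv_mem k.dN) h1
    rw [inv_inv] at h2
    refine ⟨_, h2, ?_⟩
    rw [cjm, k.sd ha.1, cs_comm h1.2.1 h2.1]
    group)
  have nV : (S : Subgroup G) ≤ Ns (Zd k.dN) := fun x hx => by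
    have e := (le_centralizer_iff.1 fun _ hu => (le hu).2.1).trans (centralizer_le_normalizer _)
    exact (k.idx x hx (hn hx)).elim (e ·) fun a => (mul_mem_cancel_right sV).1 (e a)
  obtain ⟨z, ⟨zV, zc⟩, z1⟩ := (bot_or_exists_ne_one _).resolve_left
    (Solv.PG.inf_centralizer_ne_bot S.isPGroup' (k.pP.to_le (le.trans Z1_le)) nV fun e => h5 (by
      have : y * (d * y * d⁻¹) ∈ Zd k.dN := ⟨y, hy, rfl⟩
      rw [e, mem_bot, ← inv_eq_iff_mul_eq_one, inv_eq hy.2.2] at this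
      conv_rhs => rw [this]
      group))
  have vV := dV z zV
  have vv : VV (S : Subgroup G) P d s z (d * z * d⁻¹) := by
    refine { k with
      nS := hn, zS := k.le (le zV).1, zc := zc, z2 := sq z zV, z1 := z1, dz := rfl, dv := ?_ }
    have := fpf _ (mul_mem (mul_mem zV vV) (dV _ vV)) (by
      rw [cjm, cjm, k.ddd (le zV).1, ← cs_comm (le zV).2.1 (k.dP (le vV).1 |> mul_mem (le vV).1),
        ← mul_assoc])
    rw [eq_inv_of_mul_eq_one_right this, inv_eq (sq _ (mul_mem zV vV))]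
  refine ⟨z, _, vv, ?_⟩
  have cm : GHB.Cm ⊥ (Zd k.dN) d = ⊥ := eq_bot_iff.2 fun u hu => fpf u hu.1 (by
    rw [conj_eq_cm, mem_bot.1 (GHB.mem_Cm.1 hu).2, one_mul])
  refine (GHB.EA.act3 h.r4 (GHB.EA.bot sq) dV (fun b hb => mem_bot.2
    (commutatorElement_eq_one_iff_mul_comm.2 (cs_comm k.d3 (le hb).1))) ⟨z, zV, fun e => z1
      (mem_bot.1 (cm ▸ GHB.mem_Cm.2 ⟨zV, e⟩))⟩).imp (fun e y hy => ?_) fun e => ?_
  · rw [eq_of_le_of_card_ge (F4_le zV vV) (by simp [e, cm, vv.card4])]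
    exact ⟨y, hy, rfl⟩
  · rw [← eq_of_le_of_card_ge le (by simpa [e.1] using h.e16 (P := Z1 P) fun p hp => hp.2.2)]
    exact ⟨by simpa using e.1, fpf⟩

/-- `Ω₁ Z(P)` of rank four would be strongly closed -/
theorem Cx.no16 (h : Cx S) (hn : ∀ P d s, Tri (S : Subgroup G) P d s → (S : Subgroup G) ≤ Ns P)
    (k : Tri (S : Subgroup G) P d s) (h1 : Nat.card (Z1 P) = 16)
    (h2 : ∀ y ∈ Z1 P, d * y * d⁻¹ = y → y = 1) : False := by
  have nP := hn P d s k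
  have VS : Z1 P ≤ S := Z1_le.trans k.le
  have inP : ∀ t ∈ P, t * t = 1 → t ∈ Z1 P := fun t ht t2 =>
    h.toCtx.mem_e16 (fun _ hb => hb.2.2) h1 t2 (Z1_cs ht)
  have A : ∀ t ∈ (S : Subgroup G), t * t = 1 → ∀ H ≤ Z1 P, 8 ≤ Nat.card H → t ∈ Cs H →
      t ∈ Z1 P := fun t ht t2 H hH h8 hc => by
    refine inP t (by_contra fun tP => ?_) t2
    have f : ∀ y ∈ H, s * y * s⁻¹ = y := fun y hy => by
      have := cs_comm (hH hy).2.1 ((k.idx t ht (nP ht)).resolve_left tP)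
      rw [← mul_assoc, ← cs_comm hc hy, mul_assoc, mul_assoc, mul_right_inj] at this
      rw [← this, mul_inv_cancel_right]
    have := Solv.card_mul_card_le_of_le hH (cj_le_iff.2 fun a ha => Z1_conj k.dN (hH ha))
    rw [card_cj, h1, show H ⊓ cj d H = ⊥ from eq_bot_iff.2 (by
      rintro _ ⟨a1, a, ha, rfl⟩
      have := k.sd (hH ha).1
      change d * a * d⁻¹ ∈ H at a1
      rw [f a ha, f _ a1, k.dd (hH ha).1] at this
      exact h2 _ (hH a1) this.symm), card_bot] at this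
    nlinarith
  have W : ∀ g : G, cj g (Z1 P) ≤ S → ∀ a ∈ Z1 P, g * a * g⁻¹ ∈ Z1 P := fun g hg a ha => by
    have sq : ∀ b ∈ cj g (Z1 P), b * b = 1 := by
      rintro _ ⟨b, hb, rfl⟩
      change g * b * g⁻¹ * (g * b * g⁻¹) = 1
      rw [conj_mul, hb.2.2]; simp
    have m := (conj_mem_cj (g := g)).2 ha
    refine A _ (hg m) (sq _ m) (cj g (Z1 P) ⊓ P) (fun b hb => inP b hb.2 (sq b hb.1)) ?_
      (cs_of fun b hb => comm_of_sq sq m hb.1)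
    have := k.half nP hg
    rw [card_cj] at this
    omega
  have := h.sc VS (fun n hn => ns_of (W n (cj_le_iff.2 fun a ha => mem_normalizer_conj hn (VS ha))))
    (fun Q e r l a ha aQ => ?_) fun a ha b hb => cs_comm ha.2.1 hb.1
  · simp [this] at h1
  by_cases c : Z1 P ≤ Q
  · exact W e (cj_le_iff.2 fun a ha => l.le (l.dP (c ha))) a ha
  obtain ⟨x, hx, xQ⟩ := SetLike.not_le_iff_exists.1 c
  have nQ := hn Q e r l
  have le : Z1 Q ≤ Z1 P := fun t ht => A t (l.le ht.1) ht.2.2 (Z1 P ⊓ Q) inf_le_left (by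
    have := l.half nQ VS
    omega) (cs_mono inf_le_right ht.2.1)
  refine conj_eq_cm e a ▸ mul_mem (le (l.stab Z1_le le_rfl (le_inf (le_normalizer.trans ns_Z1)
    le_normalizer) ⟨ns_Z1 l.dN, l.dN⟩ (VS hx) (nQ (VS hx)) xQ (ns_Z1 (nQ (VS hx)))
    (fun u hu => ?_) a aQ)) ha
  have uS := l.le hu
  have e1 : ⁅x, u⁆ = x * (u * x * u⁻¹) := by
    rw [commutatorElement_def, inv_eq hx.2.2]; group
  have m : ⁅x, u⁆ ∈ Z1 P := e1 ▸ mul_mem hx (Z1_conj (nP uS) hx)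
  have cc : ⁅x, u⁆ ∈ Cs (S : Subgroup G) := by
    by_cases uP : u ∈ P
    · rw [commutatorElement_eq_one_iff_mul_comm.2 (cs_comm hx.2.1 uP)]; exact one_mem _
    · refine k.cen_of nP m.2.1 uS uP ?_
      rw [eq_comm, ← mul_inv_eq_iff_eq_mul, e1, cjm, cs_comm hx.2.1 (Z1_conj (nP uS) hx).1,
        mul_right_inj]
      have := cs_comm hx.2.1 ((k.idx2 nP).mul_self_mem uS)
      calc _ = u * u * x * (u * u)⁻¹ := by group
        _ = x := by rw [← this, mul_inv_cancel_right]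
  exact ⟨l.cenP (VS m) cc, cs_mono l.le cc, m.2.2⟩

theorem Cx.exists_vv (h : Cx S) (hn : ∀ P d s, Tri (S : Subgroup G) P d s → (S : Subgroup G) ≤ Ns P)
    (h1 : Tri (S : Subgroup G) P d s) (h2 : y ∈ P) (h3 : y ∈ Cs P) (h4 : y * y = 1)
    (h5 : d * y ≠ y * d) : ∃ z v, VV (S : Subgroup G) P d s z v ∧
      ∀ y ∈ P, y ∈ Cs P → y * y = 1 → y * (d * y * d⁻¹) ∈ F4 z v := by
  obtain ⟨z, v, a, b⟩ := h1.vv_or h.toCtx (hn P d s h1) ⟨h2, h3, h4⟩ h5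
  exact ⟨z, v, a, fun y k1 k2 k3 => (b.resolve_right fun e => h.no16 hn h1 e.1 e.2) y ⟨k1, k2, k3⟩⟩

/-- `[P, d]` is not contained in `Ω₁ Z(P)` -/
theorem Six.not_cm (h : Six S) (k : Tri (S : Subgroup G) P d s) : ¬ ∀ p ∈ P, ⁅d, p⁆ ∈ Z1 P := by
  intro e
  by_cases c : ∀ y ∈ Z1 P, d * y = y * d
  · exact k.dC (cs_of fun x hx => commutatorElement_eq_one_iff_mul_comm.1 (mem_bot.1
      (cop k.pP k.dN k.d3 bot_le Z1_le (fun _ _ => ns_of (by simp)) (ns_of (by simp)) e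
        (fun u hu => mem_bot.2 (commutatorElement_eq_one_iff_mul_comm.2 (c u hu))) x hx)))
  push Not at c
  obtain ⟨y, hy, c⟩ := c
  obtain ⟨z, v, a, b⟩ := h.toCx.exists_vv h.nrm k hy.1 hy.2.1 hy.2.2 c
  refine h.nV ⟨P, F4 z v, d, s, k, ⟨a.le4.trans inf_le_left, a.d4, fun p hp => ?_⟩, a.card4⟩
  refine cop (W := Z1 P) k.pP k.dN k.d3 (fun x hx => ⟨(a.le4 hx).1, (a.le4 hx).2, a.sq4 hx⟩) Z1_le
    (k.le.trans a.n4) a.d4 e (fun u hu => ?_) p hp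
  rw [commutatorElement_def, inv_eq hu.2.2, ← cs_comm hu.2.1 (k.dP hu.1)]
  exact b u hu.1 hu.2.1 hu.2.2

theorem Six.vP (h : Six S) (h1 : VV (S : Subgroup G) P₁ d₁ s₁ z v)
    (h2 : Tri (S : Subgroup G) P₂ d₂ s₂) : v ∈ P₂ := by
  by_contra e
  have vS := h1.le h1.vP
  have n := h.nrm _ _ _ h2 vS
  refine h.not_cm h2 (h2.stab Z1_le le_rfl (le_inf (le_normalizer.trans ns_Z1) le_normalizer)
    ⟨ns_Z1 h2.dN, h2.dN⟩ vS n e (ns_Z1 n) fun u hu => ?_)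
  rw [← commutatorElement_inv, inv_mem_iff, commutatorElement_def]
  rcases h1.act (h2.le hu) with a | a <;> rw [a]
  · simp
  · rw [mul_inv_cancel_right]
    exact ⟨h2.cenP h1.zS h1.zc, cs_mono h2.le h1.zc, h1.z2⟩

theorem Six.EE_le (h : Six S) (h2 : Tri (S : Subgroup G) P₂ d₂ s₂) : EE (S : Subgroup G) ≤ P₂ :=
  (closure_le _).2 (by
    rintro x ⟨P, d, s, z, v, a, rfl | rfl⟩
    exacts [h2.cenP a.zS a.zc, h.vP a h2])

omit [Finite G] in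
theorem EE_leS : EE T ≤ T :=
  (closure_le _).2 (by
    rintro x ⟨P, d, s, z, v, a, rfl | rfl⟩
    exacts [a.zS, a.le a.vP])

theorem Six.EE_sq (h : Six S) : ∀ x ∈ EE (S : Subgroup G), x * x = 1 := fun x hx =>
  ((closure_le (Z1 (EE (S : Subgroup G)))).2 (by
    rintro x ⟨P, d, s, z, v, a, rfl | rfl⟩
    exacts [⟨a.zE, cs_mono EE_leS a.zc, a.z2⟩, ⟨a.vE, cs_mono (h.EE_le a.toTri) a.vc, a.v2⟩]) hx).2.2

theorem ns_EE : Ns T ≤ Ns (EE T) := fun n hn => mem_normalizer_of_cj_le (by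
  rw [EE, cj_closure, closure_le]
  rintro _ ⟨x, ⟨P, d, s, z, v, a, rfl | rfl⟩, rfl⟩
  exacts [(a.cj hn).zE, (a.cj hn).vE])

/-- some `Tri` moves a central involution of `S` -/
theorem Cx.exists_move (h : Cx S) : ∃ P d s z, Tri (S : Subgroup G) P d s ∧
    z ∈ Z1 (S : Subgroup G) ∧ d * z ≠ z * d := by
  have : Fact (Nat.Prime 2) := ⟨Nat.prime_two⟩
  by_contra c
  push Not at c
  obtain ⟨A, a1, -, a3⟩ := h.toCtx.exists_e8
  obtain ⟨z, z1, z2, -, z3⟩ := Solv.PG.exists_mem_centralizer_orderOf_eq S.isPGroup' S.isPGroup'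
    le_normalizer fun e => by simp [le_bot_iff.1 (e ▸ a1)] at a3
  have e := h.sc Z1_le ns_Z1 (fun P d s k a ha _ => by rwa [c P d s a k ha, mul_inv_cancel_right])
    fun a ha b hb => cs_comm ha.2.1 hb.1
  have : z ∈ Z1 (S : Subgroup G) := ⟨z1, z2, by rw [← sq, ← z3, pow_orderOf_eq_one]⟩
  rw [e, mem_bot] at this
  simp [this] at z3

theorem Six.exists_mover (h : Six S) : ∃ P₁ P₂ d₁ s₁ d₂ s₂ z v, VV (S : Subgroup G) P₁ d₁ s₁ z v ∧
    Tri (S : Subgroup G) P₂ d₂ s₂ ∧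
      (d₂ * z * d₂⁻¹ ∉ EE (S : Subgroup G) ∨ d₂ * v * d₂⁻¹ ∉ EE (S : Subgroup G)) := by
  by_contra c
  push Not at c
  obtain ⟨P, d, s, y, k, hy, e⟩ := h.toCx.exists_move
  obtain ⟨z, v, a, -⟩ := h.toCx.exists_vv h.nrm k (k.cenP hy.1 hy.2.1) (cs_mono k.le hy.2.1) hy.2.2 e
  have := h.toCx.sc EE_leS ns_EE (fun Q e r l a ha _ => cj_le_iff.1 (by
    rw [EE, cj_closure, closure_le]
    rintro _ ⟨x, ⟨P, d, s, z, v, a, rfl | rfl⟩, rfl⟩
    exacts [(c _ _ _ _ _ _ _ _ a l).1, (c _ _ _ _ _ _ _ _ a l).2]) a ha)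
    fun _ ha _ hb => comm_of_sq h.EE_sq ha hb
  exact a.z1 (mem_bot.1 (this ▸ a.zE))

end Cfsg.Lib.GHM
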