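import Cfsg.Agent.GHM.Fr2
import Cfsg.Agent.GHM.Sq
import Cfsg.Agent.Trans.LocalTools

/-!
# The normaliser of `Y = C_S(V)` normalises the four-group `V`
-/

set_option autoImplicit false
set_option linter.unusedSectionVars false

namespace Cfsg.Lib.GHM

open Subgroup Cfsg.Lib.Trans Cfsg.Lib.Gold Cfsg.Lib.Rank2 Cfsg.Lib.GHB
open scoped commutatorElement

universe u

variable {G : Type u} [Group G] {H Y R B K : Subgroup G} {δ σ τ z₁ b₁ z₂ b₂ g n r u v w x y : G}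

open Sq

namespace BN

theorem sq_comm (h1 : r * ⁅r, y⁆ = ⁅r, y⁆ * r) (h2 : ⁅r, y⁆ * ⁅r, y⁆ = 1) : y * (r * r) = r * r * y := by
  have e : r * y = ⁅r, y⁆ * (y * r) := by group
  rw [mul_assoc r, e, ← mul_assoc r, h1, mul_assoc, ← mul_assoc r, e]
  simp only [← mul_assoc, h2, one_mul]

theorem card_adj_le [Finite G] (h1 : ∀ b ∈ B, g * b * g⁻¹ ∈ B) (h2 : g * g ∈ B) :
    Nat.card ↥(B ⊔ zpowers g) ≤ 2 * Nat.card B := by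
  by_cases h : g ∈ B
  · rw [sup_eq_left.2 (zpowers_le.2 h)]; omega
  · exact (card_adj h1 h2 h).le

theorem cm_Phi (hx : x ∈ Y) (hy : y ∈ Y) : ⁅x, y⁆ ∈ Phi Y := by
  have := mul_mem (mul_mem (sq_mem_Phi (mul_mem hx hy))
    (sq_mem_Phi (mul_mem (mul_mem (inv_mem hy) (inv_mem hx)) hy))) (sq_mem_Phi (inv_mem hy))
  rwa [show x * y * (x * y) * (y⁻¹ * x⁻¹ * y * (y⁻¹ * x⁻¹ * y)) * (y⁻¹ * y⁻¹) = ⁅x, y⁆ by group] at this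

/-- The elements commuting with `r` modulo `K`. -/
def Cq (K : Subgroup G) (r : G) : Subgroup G where
  carrier := {x | x ∈ Ns K ∧ ⁅r, x⁆ ∈ K}
  one_mem' := ⟨one_mem _, by simp⟩
  mul_mem' := fun {a b} ha hb => ⟨mul_mem ha.1 hb.1, by
    have := mul_mem ha.2 (conj_mem ha.1 hb.2)
    rwa [show ⁅r, a⁆ * (a * ⁅r, b⁆ * a⁻¹) = ⁅r, a * b⁆ by group] at this⟩
  inv_mem' := fun {a} ha => ⟨inv_mem ha.1, by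
    have := conj_mem (inv_mem ha.1) (inv_mem ha.2)
    rwa [show a⁻¹ * ⁅r, a⁆⁻¹ * a⁻¹⁻¹ = ⁅r, a⁻¹⁆ by group] at this⟩

/-- The stabiliser of the chain `Y > Z(Y) > ⟨z₂⟩`. -/
abbrev B0 (Y : Subgroup G) (z₁ b₁ z₂ : G) : Subgroup G :=
  Ns Y ⊓ (Tv (F8 z₁ b₁ z₂) Y ⊓ Tv (zpowers z₂) (F8 z₁ b₁ z₂))

end BN

open BN

variable [Finite G]

/-- A copy of `BW`. -/
structure BWn (H Y : Subgroup G) (δ σ τ z₁ b₁ z₂ b₂ : G) : Prop extends BW H Y δ σ τ z₁ b₁ z₂ b₂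

namespace BWn

variable (h : BWn H Y δ σ τ z₁ b₁ z₂ b₂)
include h

theorem eT : F4 z₁ b₁ ⊔ F4 z₂ b₂ = F8 z₁ b₁ z₂ ⊔ zpowers b₂ := (sup_assoc _ _ _).symm

theorem ZT : F8 z₁ b₁ z₂ ≤ F4 z₁ b₁ ⊔ F4 z₂ b₂ := h.eT ▸ le_sup_left

theorem b2T : b₂ ∈ F4 z₁ b₁ ⊔ F4 z₂ b₂ := mem_sup_right (mem_sup_right (mem_zpowers _))

theorem z1V : z₁ ∈ F4 z₁ b₁ := mem_sup_left (mem_zpowers _)

theorem b1V : b₁ ∈ F4 z₁ b₁ := mem_sup_right (mem_zpowers _)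

theorem z1Z : z₁ ∈ F8 z₁ b₁ z₂ := mem_sup_left h.z1V

theorem b1Z : b₁ ∈ F8 z₁ b₁ z₂ := mem_sup_left h.b1V

theorem z2Z : z₂ ∈ F8 z₁ b₁ z₂ := mem_sup_right (mem_zpowers _)

theorem sqZ (hu : u ∈ F8 z₁ b₁ z₂) : u * u = 1 := h.sq u (h.ZT hu)

theorem cjT (hx : x ∈ F4 z₁ b₁ ⊔ F4 z₂ b₂) (hy : y ∈ F4 z₁ b₁ ⊔ F4 z₂ b₂) : x * y * x⁻¹ = y := by
  rw [comm_of_sq h.sq hx hy, mul_inv_cancel_right]

theorem zb : z₁ * b₁ = b₁ * z₁ := comm_of_sq h.sq (h.ZT h.z1Z) (h.ZT h.b1Z)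

theorem memV : x ∈ F4 z₁ b₁ ↔ x = 1 ∨ x = z₁ ∨ x = b₁ ∨ x = z₁ * b₁ :=
  mem_F4 (h.sqZ h.z1Z) (h.sqZ h.b1Z) h.zb

theorem memK : x ∈ zpowers z₂ ↔ x = 1 ∨ x = z₂ := mem_zp (h.sqZ h.z2Z)

theorem adjV : ∀ b ∈ F4 z₁ b₁, z₂ * b * z₂⁻¹ ∈ F4 z₁ b₁ := fun b hb => by
  rwa [h.cjT (h.ZT h.z2Z) (mem_sup_left hb)]

theorem adjZ : ∀ b ∈ F8 z₁ b₁ z₂, b₂ * b * b₂⁻¹ ∈ F8 z₁ b₁ z₂ := fun b hb => by
  rwa [h.cjT h.b2T (h.ZT hb)]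

theorem memZ (hu : u ∈ F8 z₁ b₁ z₂) : ∃ v ∈ F4 z₁ b₁, ∃ w ∈ zpowers z₂, u = w * v :=
  ((mem_adj h.adjV (h.sqZ h.z2Z ▸ one_mem _)).1 hu).elim (fun e => ⟨u, e, 1, one_mem _, by simp⟩)
    fun e => ⟨_, e, z₂, mem_zpowers _, by simp⟩

theorem cards : z₁ ≠ 1 ∧ z₂ ∉ F4 z₁ b₁ ∧ 8 ≤ Nat.card (F8 z₁ b₁ z₂) := by
  have a1 := card_adj_le h.adjZ (h.sq _ h.b2T ▸ one_mem _)
  have a2 := card_adj_le h.adjV (h.sqZ h.z2Z ▸ one_mem _)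
  have a3 := card_adj_le (B := zpowers z₁) (g := b₁) (fun b hb => by
    rwa [h.cjT (h.ZT h.b1Z) (mem_sup_left (mem_sup_left hb))]) (h.sqZ h.b1Z ▸ one_mem _)
  have a4 : orderOf z₁ ≤ 2 := orderOf_le_of_pow_eq_one two_pos ((pow_two _).trans (h.sqZ h.z1Z))
  rw [← h.eT, h.card] at a1
  rw [Nat.card_zpowers] at a3
  change Nat.card (F8 z₁ b₁ z₂) ≤ _ at a2
  change Nat.card (F4 z₁ b₁) ≤ _ at a3
  refine ⟨fun e => ?_, fun e => ?_, by omega⟩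
  · have := orderOf_eq_one_iff.2 e
    omega
  · rw [show F8 z₁ b₁ z₂ = F4 z₁ b₁ from sup_eq_left.2 (zpowers_le.2 e)] at a1
    omega

theorem z2ne : z₂ ≠ 1 := fun e => h.cards.2.1 (e ▸ one_mem _)

theorem VK (h1 : v ∈ F4 z₁ b₁) (h2 : v ∈ zpowers z₂) : v = 1 :=
  (h.memK.1 h2).resolve_right fun e => h.cards.2.1 (e ▸ h1)

theorem δzb : δ * (z₁ * b₁) * δ⁻¹ = z₁ := by
  rw [← conj_mul, h.δz, h.δb, ← mul_assoc, ← h.zb, mul_assoc, h.sqZ h.b1Z, mul_one]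

theorem b1ne : b₁ ≠ 1 := fun e => h.cards.1 (conj_eq_one_iff.1 (h.δz.trans e))

theorem zbne : z₁ * b₁ ≠ 1 := fun e => h.b1ne (conj_eq_one_iff.1 (h.δb.trans e))

theorem TY : F4 z₁ b₁ ⊔ F4 z₂ b₂ ≤ Y := fun _ hx => h.eqY ▸
  ⟨h.le hx, mem_Cs.2 fun _ hu => comm_of_sq h.sq (mem_sup_left hu) hx⟩

theorem ZY : F8 z₁ b₁ z₂ ≤ Y := h.ZT.trans h.TY

theorem memC : x ∈ Cs (F4 z₁ b₁) ↔ x * z₁ * x⁻¹ = z₁ ∧ x * b₁ * x⁻¹ = b₁ :=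
  ⟨fun hx => ⟨cs_conj hx h.z1V, cs_conj hx h.b1V⟩, fun hx => mem_Cs.2 fun _ hu =>
    (mem_centralizer_singleton_iff.1 ((sup_le (zpowers_le.2 (mem_centralizer_singleton_iff.2
      (mul_inv_eq_iff_eq_mul.1 hx.1).symm)) (zpowers_le.2 (mem_centralizer_singleton_iff.2
      (mul_inv_eq_iff_eq_mul.1 hx.2).symm)) : F4 z₁ b₁ ≤ C1 x) hu))⟩

theorem τY : τ ∈ Y := h.eqY ▸ ⟨h.τS, h.memC.2 ⟨by rw [h.τz, mul_inv_cancel_right], by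
  rw [h.τb, mul_inv_cancel_right]⟩⟩

theorem YC : Y ≤ Cs (F4 z₁ b₁) := h.eqY ▸ inf_le_right

theorem ZC (hu : u ∈ F8 z₁ b₁ z₂) : u ∈ Cs Y := (h.zY u (h.ZY hu)).2 hu

theorem cz (hu : u ∈ F8 z₁ b₁ z₂) (hy : y ∈ Y) : y * u * y⁻¹ = u := by
  rw [mem_Cs.1 (h.ZC hu) y hy, mul_inv_cancel_right]

theorem cmz : ⁅δ, z₁⁆ = z₁ * b₁ := by rw [commutatorElement_def, h.δz, inv_eq (h.sqZ h.z1Z), h.zb]

theorem cmb : ⁅δ, b₁⁆ = z₁ := by rw [commutatorElement_def, h.δb, mul_inv_cancel_right]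

theorem cmzb : ⁅δ, z₁ * b₁⁆ = b₁ := by
  rw [commutatorElement_def, h.δzb, h.zb, mul_inv_rev, mul_inv_cancel_left, inv_eq (h.sqZ h.b1Z)]

theorem dec (hy : y ∈ Y) : ∃ v ∈ F4 z₁ b₁, ⁅δ, y * v⁆ = 1 := by
  obtain ⟨v, hv, e⟩ : ∃ v ∈ F4 z₁ b₁, ⁅δ, v⁆ = ⁅δ, y⁆ := by
    rcases h.memV.1 (h.cm y hy) with e | e | e | e <;> rw [e]
    exacts [⟨1, one_mem _, by simp⟩, ⟨_, h.b1V, h.cmb⟩, ⟨_, mul_mem h.z1V h.b1V, h.cmzb⟩,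
      ⟨_, h.z1V, h.cmz⟩]
  refine ⟨v, hv, ?_⟩
  rw [show ⁅δ, y * v⁆ = ⁅δ, y⁆ * (y * ⁅δ, v⁆ * y⁻¹) by group, e, h.cz (mem_sup_left (h.cm y hy)) hy,
    h.sqZ (mem_sup_left (h.cm y hy))]

theorem sqv (hy : y ∈ Y) (hu : u ∈ F8 z₁ b₁ z₂) : y * u * (y * u) = y * y := by
  rw [mul_assoc, ← mul_assoc u, ← mem_Cs.1 (h.ZC hu) y hy, mul_assoc, h.sqZ hu, mul_one]

theorem phi (hx : x ∈ Phi Y) : ⁅δ, x⁆ = 1 := by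
  refine commutatorElement_eq_one_iff_mul_comm.2 (mem_centralizer_singleton_iff.1
    ((Phi_le_iff (K := C1 δ)).2 (fun y hy => ?_) hx)).symm
  obtain ⟨v, hv, e⟩ := h.dec hy
  have := mem_centralizer_singleton_iff.2 (commutatorElement_eq_one_iff_mul_comm.1 e).symm
  exact h.sqv hy (mem_sup_left hv) ▸ mul_mem this this

theorem z2Phi : z₂ ∈ Phi Y := by
  have := cm_Phi h.τY (h.TY h.b2T)
  rwa [commutatorElement_def, h.τb', mul_inv_cancel_right] at this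

theorem cm_mul (hg : ⁅g, z₂⁆ = 1) (hw : w ∈ zpowers z₂) (hv : ⁅g, v⁆ ∈ F4 z₁ b₁) :
    ⁅g, w * v⁆ = ⁅g, v⁆ := by
  rcases h.memK.1 hw with rfl | rfl
  · rw [one_mul]
  · rw [show ⁅g, w * v⁆ = ⁅g, w⁆ * (w * ⁅g, v⁆ * w⁻¹) by group, hg, one_mul,
      h.cjT (h.ZT h.z2Z) (mem_sup_left hv)]

theorem fixZ (hu : u ∈ F8 z₁ b₁ z₂) (h1 : ⁅δ, u⁆ ∈ zpowers z₂) : u ∈ zpowers z₂ := by
  obtain ⟨v, hv, w, hw, rfl⟩ := h.memZ hu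
  have a := h.cm v (h.ZY (mem_sup_left hv))
  rw [h.cm_mul (h.phi h.z2Phi) hw a] at h1
  have b := h.VK a h1
  rcases h.memV.1 hv with e | e | e | e <;> rw [e] at b ⊢
  exacts [by simpa using hw, absurd (h.cmz ▸ b) h.zbne, absurd (h.cmb ▸ b) h.cards.1,
    absurd (h.cmzb ▸ b) h.b1ne]

theorem phiZ (hu : u ∈ F8 z₁ b₁ z₂) (h1 : u ∈ Phi Y) : u ∈ zpowers z₂ :=
  h.fixZ hu (h.phi h1 ▸ one_mem _)

theorem nZ (hg : g ∈ Ns Y) (hu : u ∈ F8 z₁ b₁ z₂) : g * u * g⁻¹ ∈ F8 z₁ b₁ z₂ :=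
  (h.zY _ (conj_mem hg (h.ZY hu))).1 (cs_ns (h.ZC hu) hg)

theorem nsZ : Ns Y ≤ Ns (F8 z₁ b₁ z₂) := le_Ns fun _ hg _ => h.nZ hg

theorem nz (hg : g ∈ Ns Y) : g * z₂ * g⁻¹ = z₂ := by
  have a : g * z₂ * g⁻¹ ∈ Phi (cj g Y) := map_Phi (MulAut.conj g).toMonoidHom ▸ ⟨z₂, h.z2Phi, rfl⟩
  rw [cj_eq_of_mem_normalizer hg] at a
  exact (h.memK.1 (h.phiZ (h.nZ hg h.z2Z) a)).resolve_left fun e => h.z2ne (conj_eq_one_iff.1 e)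

theorem nk (hg : g ∈ Ns Y) (hw : w ∈ zpowers z₂) : g * w * g⁻¹ = w := by
  rcases h.memK.1 hw with rfl | rfl
  · simp
  · exact h.nz hg

theorem nsK : Ns Y ≤ Ns (zpowers z₂) := le_Ns fun _ hg _ hw => (h.nk hg hw).symm ▸ hw

theorem nB : Ns Y ≤ Ns (B0 Y z₁ b₁ z₂) := le_Ns fun _ hg _ hx =>
  mem_inf.2 ⟨mul_mem (mul_mem hg (mem_inf.1 hx).1) (inv_mem hg), Tv_conj hx.2.1 (h.nsZ hg) hg,
    Tv_conj hx.2.2 (h.nsK hg) (h.nsZ hg)⟩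

theorem nsV (h1 : g * z₁ * g⁻¹ ∈ F4 z₁ b₁) (h2 : g * b₁ * g⁻¹ ∈ F4 z₁ b₁) : g ∈ Ns (F4 z₁ b₁) :=
  ns_of (C0.conj_adj (fun x hx => by
    rcases (mem_zp (h.sqZ h.z1Z)).1 hx with rfl | rfl
    · simp
    · exact h1) h2)

theorem σV : σ ∈ Ns (F4 z₁ b₁) :=
  h.nsV (by rw [h.σz, mul_inv_cancel_right]; exact h.z1V) (h.σb ▸ mul_mem h.z1V h.b1V)

theorem σY : σ ∈ Ns Y := ns_of fun _ hx => h.eqY ▸ mem_inf.2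
  ⟨mul_mem (mul_mem h.σS (h.eqY.le hx).1) (inv_mem h.σS), cs_ns (h.YC hx) h.σV⟩

theorem fixσ (hu : u ∈ F8 z₁ b₁ z₂) (h1 : ⁅σ, u⁆ ∈ zpowers z₂) :
    u ∈ zpowers z₂ ∨ u * z₁ ∈ zpowers z₂ := by
  obtain ⟨v, hv, w, hw, rfl⟩ := h.memZ hu
  have a : ⁅σ, v⁆ ∈ F4 z₁ b₁ := mul_mem (conj_mem h.σV hv) (inv_mem hv)
  rw [h.cm_mul (commutatorElement_eq_one_iff_mul_comm.2 h.σz') hw a] at h1
  have b := commutatorElement_eq_one_iff_mul_comm.1 (h.VK a h1)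
  have c : σ * b₁ ≠ b₁ * σ := fun e => h.cards.1 (by
    have := h.σb
    rwa [e, mul_inv_cancel_right, right_eq_mul] at this)
  rcases h.memV.1 hv with e | e | e | e <;> rw [e] at b ⊢
  · exact Or.inl (by simpa using hw)
  · exact Or.inr (by rwa [mul_assoc, h.sqZ h.z1Z, mul_one])
  · exact absurd b c
  · rw [← mul_assoc, h.σz, mul_assoc, mul_assoc] at b
    exact absurd (mul_left_cancel b) c

theorem memY (hR : IsPGroup 2 R) (h1 : R ≤ Ns Y) (hr : r ∈ R) (h2 : r ∈ Cs (F4 z₁ b₁)) : r ∈ Y := by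
  have a := h.syl.inf_normal_of_le (le_Ns fun _ hg _ hx => cs_ns hx hg) (cs_le_ns le_rfl)
  rw [inf_assoc, inf_eq_right.2 (cs_le_ns le_rfl), ← h.eqY] at a
  have := a.eq_of_le (a.isPGroup.to_sup_of_normal_left' (hR.to_le (zpowers_le.2 hr))
    (zpowers_le.2 (h1 hr))) le_sup_left (sup_le h.YC (zpowers_le.2 h2))
  exact this ▸ mem_sup_right (mem_zpowers r)

theorem odd_mem (hx : x ∈ B0 Y z₁ b₁ z₂) (ho : (orderOf x).Coprime 2) : x ∈ Cs Y := by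
  have a : x * x * (x * x) ∈ Cs Y := mem_Cs.2 fun y hy => by
    have b1 := hx.2.1.2 y hy
    have b2 := hx.2.2.2 _ b1
    have e : ⁅x * x, y⁆ = ⁅x, ⁅x, y⁆⁆ := by
      rw [show ⁅x * x, y⁆ = ⁅x, ⁅x, y⁆⁆ * (⁅x, y⁆ * ⁅x, y⁆) by group, h.sqZ b1, mul_one]
    refine sq_comm ?_ ?_ <;> rw [e]
    · exact mul_inv_eq_iff_eq_mul.1 (h.nk (mul_mem hx.1 hx.1) b2)
    · exact h.sqZ (mem_sup_right b2)
  obtain ⟨m, hm⟩ := exists_pow_eq_self_of_coprime (x := x) (n := 2 ^ 2) (ho.symm.pow_left 2)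
  rw [← hm, pow_two 2, pow_mul, pow_two, pow_two]
  exact pow_mem a m

theorem mk_B0 (h1 : x ∈ Ns Y) (h2 : ∀ y ∈ Y, ⁅x, y⁆ ∈ F8 z₁ b₁ z₂) (h3 : ⁅x, z₁⁆ ∈ zpowers z₂)
    (h4 : ⁅x, b₁⁆ ∈ zpowers z₂) : x ∈ B0 Y z₁ b₁ z₂ :=
  have a : ∀ u ∈ F8 z₁ b₁ z₂, u ∈ Ns (zpowers z₂) := fun _ hu => h.nsK (le_normalizer (h.ZY hu))
  ⟨h1, ⟨h.nsZ h1, h2⟩, h.nsK h1, fun _ hu => ((sup_le (sup_le (zpowers_le.2 ⟨a _ h.z1Z, h3⟩)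
    (zpowers_le.2 ⟨a _ h.b1Z, h4⟩)) (zpowers_le.2 ⟨a _ h.z2Z, by
      rw [commutatorElement_def, h.nz h1, mul_inv_cancel]; exact one_mem _⟩) :
      F8 z₁ b₁ z₂ ≤ Cq (zpowers z₂) x) hu).2⟩

theorem exists_β (hn : ¬ Ns Y ≤ Ns (F4 z₁ b₁)) : ∃ β ∈ B0 Y z₁ b₁ z₂, β ∉ Cs (F4 z₁ b₁) := by
  obtain ⟨g, hg, hgV⟩ := SetLike.not_le_iff_exists.1 hn
  have a1 : g * δ * g⁻¹ ∈ Ns Y := mul_mem (mul_mem hg h.δN) (inv_mem hg)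
  have a2 : ∀ y ∈ Y, g⁻¹ * ⁅g * δ * g⁻¹, y⁆ * g⁻¹⁻¹ ∈ F4 z₁ b₁ := fun y hy => by
    have := h.cm _ (conj_mem (inv_mem hg) hy)
    rwa [show ⁅δ, g⁻¹ * y * g⁻¹⁻¹⁆ = g⁻¹ * ⁅g * δ * g⁻¹, y⁆ * g⁻¹⁻¹ by group] at this
  have a3 : ∀ u ∈ F8 z₁ b₁ z₂, ⁅g * δ * g⁻¹, u⁆ ∈ zpowers z₂ → u ∈ zpowers z₂ := fun u hu e =>
    (mem_normalizer_iff.1 (h.nsK (inv_mem hg)) u).2 (h.fixZ (h.nZ (inv_mem hg) hu) (by
      have := conj_mem (h.nsK (inv_mem hg)) e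
      rwa [show g⁻¹ * ⁅g * δ * g⁻¹, u⁆ * g⁻¹⁻¹ = ⁅δ, g⁻¹ * u * g⁻¹⁻¹⁆ by group] at this))
  generalize g * δ * g⁻¹ = ε at a1 a2 a3
  have a4 : ε ∈ Tv (F8 z₁ b₁ z₂) Y := ⟨h.nsZ a1, fun y hy =>
    (mem_normalizer_iff.1 (h.nsZ (inv_mem hg)) _).2 (mem_sup_left (a2 y hy))⟩
  have a5 : δ ∈ Tv (F8 z₁ b₁ z₂) Y := ⟨h.nsZ h.δN, fun y hy => mem_sup_left (h.cm y hy)⟩
  have a6 : ∀ {p q}, p ∈ Y → q ∈ Y → ⁅ε, p⁆ = z₁ * b₁ → ⁅ε, q⁆ = z₁ ∨ ⁅ε, q⁆ = b₁ → False :=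
    fun {p q} hp hq e1 e2 => by
      have c1 := e1 ▸ a2 p hp
      rw [← conj_mul] at c1
      refine hgV (inv_mem_iff.1 (h.nsV ?_ ?_))
      · exact e2.elim (fun e => e ▸ a2 q hq) fun e => (mul_mem_cancel_right (e ▸ a2 q hq)).1 c1
      · exact e2.elim (fun e => (mul_mem_cancel_left (e ▸ a2 q hq)).1 c1) fun e => e ▸ a2 q hq
  have nK : ∀ v ∈ F4 z₁ b₁, v ≠ 1 → ∃ w ∈ zpowers z₂, ∃ v' ∈ F4 z₁ b₁, v' ≠ 1 ∧ v' ≠ v ∧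
      ε * v * ε⁻¹ = w * v' := fun v hv h1 => by
    obtain ⟨v', hv', w, hw, e⟩ := h.memZ (h.nZ a1 (mem_sup_left hv))
    refine ⟨w, hw, v', hv', ?_, ?_, e⟩
    · rintro rfl
      exact h1 (h.VK hv ((mem_normalizer_iff.1 (h.nsK a1) v).2 (by simpa [e] using hw)))
    · rintro rfl
      exact h1 (h.VK hv (a3 _ (mem_sup_left hv) (by simpa [commutatorElement_def, e] using hw)))
  obtain ⟨w₁, p1, v₁, p2, p3, p4, p5⟩ := nK _ h.z1V h.cards.1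
  obtain ⟨w₂, q1, v₂, q2, q3, q4, q5⟩ := nK _ h.b1V h.b1ne
  obtain ⟨w₃, r1, v₃, r2, r3, r4, r5⟩ := nK _ (mul_mem h.z1V h.b1V) h.zbne
  have a7 : v₁ * v₂ = v₃ := by
    rw [← conj_mul, p5, q5, mul_assoc, ← mul_assoc v₁, comm_of_sq (fun _ => h.sqZ) (mem_sup_left p2)
      (mem_sup_right q1), mul_assoc, ← mul_assoc] at r5
    refine mul_inv_eq_one.1 (h.VK (mul_mem (mul_mem p2 q2) (inv_mem r2)) ?_)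
    rw [show v₁ * v₂ * v₃⁻¹ = (w₁ * w₂)⁻¹ * (w₁ * w₂ * (v₁ * v₂)) * v₃⁻¹ by group, r5]
    simpa [mul_assoc] using mul_mem (inv_mem (mul_mem p1 q1)) r1
  have key : ∀ η ∈ Ns Y, η ∈ Tv (F8 z₁ b₁ z₂) Y → η * v₁ * η⁻¹ = z₁ → η * v₂ * η⁻¹ = b₁ →
      (w₁ = 1 → w₂ = 1 → False) → ∃ β ∈ B0 Y z₁ b₁ z₂, β ∉ Cs (F4 z₁ b₁) := fun η n1 n2 e1 e2 e3 => by
    have c1 : ⁅η * ε, z₁⁆ = w₁ := by
      rw [show ⁅η * ε, z₁⁆ = η * (ε * z₁ * ε⁻¹) * η⁻¹ * z₁⁻¹ by group, p5, ← conj_mul, e1, h.nk n1 p1,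
        mul_inv_cancel_right]
    have c2 : ⁅η * ε, b₁⁆ = w₂ := by
      rw [show ⁅η * ε, b₁⁆ = η * (ε * b₁ * ε⁻¹) * η⁻¹ * b₁⁻¹ by group, q5, ← conj_mul, e2, h.nk n1 q1,
        mul_inv_cancel_right]
    exact ⟨_, h.mk_B0 (mul_mem n1 a1) (mul_mem n2 a4).2 (c1 ▸ p1) (c2 ▸ q1), fun e => e3
      (c1 ▸ commutatorElement_eq_one_iff_mul_comm.2 (cs_comm e h.z1V))
      (c2 ▸ commutatorElement_eq_one_iff_mul_comm.2 (cs_comm e h.b1V))⟩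
  rcases h.memV.1 p2 with e | e | e | e
  · exact absurd e p3
  · exact absurd e p4
  · rcases h.memV.1 q2 with f | f | f | f
    · exact absurd f q3
    · exact absurd (by rw [← a7, e, f, h.zb]) r4
    · exact absurd f q4
    refine key δ⁻¹ (inv_mem h.δN) (inv_mem a5) (by rw [e, ← h.δz]; group) (by rw [f, ← h.δb]; group)
      fun c1 c2 => a6 (h.ZY h.z1Z) (h.ZY h.b1Z) ?_ (Or.inl ?_)
    · rw [commutatorElement_def, p5, c1, e, one_mul, inv_eq (h.sqZ h.z1Z), h.zb]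
    · rw [commutatorElement_def, q5, c2, f, one_mul, mul_inv_cancel_right]
  · rcases h.memV.1 q2 with f | f | f | f
    · exact absurd f q3
    · refine key δ h.δN a5 (e ▸ h.δzb) (f ▸ h.δz) fun c1 c2 =>
        a6 (h.ZY h.b1Z) (h.ZY h.z1Z) ?_ (Or.inr ?_)
      · rw [commutatorElement_def, q5, c2, f, one_mul, inv_eq (h.sqZ h.b1Z)]
      · rw [commutatorElement_def, p5, c1, e, one_mul, h.zb, mul_inv_cancel_right]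
    · exact absurd f q4
    · exact absurd (by rw [← a7, e, f, h.sqZ (mul_mem h.z1Z h.b1Z)]) r3

end BWn

/-- A Sylow 2-subgroup `R` of the stabiliser, normalised by `σ` and by an element like `δ`. -/
structure BR (H Y R : Subgroup G) (δ σ τ z₁ b₁ z₂ b₂ n : G) : Prop
    extends BWn H Y δ σ τ z₁ b₁ z₂ b₂ where
  pR : IsPGroup 2 R
  RB : R ≤ B0 Y z₁ b₁ z₂
  σR : σ ∈ Ns R
  nR : n ∈ Ns R
  nY : n ∈ Ns Y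
  act : ∀ y ∈ Y, n * y * n⁻¹ = δ * y * δ⁻¹

theorem BWn.exists_R (h : BWn H Y δ σ τ z₁ b₁ z₂ b₂) (hn : ¬ Ns Y ≤ Ns (F4 z₁ b₁)) :
    ∃ R n, BR H Y R δ σ τ z₁ b₁ z₂ b₂ n ∧ ∃ β ∈ R, β ∉ Cs (F4 z₁ b₁) := by
  obtain ⟨β, b1, b2⟩ := h.exists_β hn
  obtain ⟨T, t1, t2⟩ := exists_isSylowIn_ge (h.p2.to_le (zpowers_le.2 h.σS)) (zpowers_le.2 h.σY)
  have a1 := t1.inf_normal_of_le h.nB inf_le_left
  have a2 := fun d hd => a1.exists_mul_eq (C := Cs Y) (fun d hd => h.odd_mem hd) (d := d) hd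
  obtain ⟨k, k1, m, m1, e⟩ := a1.frattini (h.nB h.δN)
  obtain ⟨t, t3, c, c1, -, e'⟩ := a2 _ (inv_mem k1)
  obtain ⟨r, r1, c', c2, -, rfl⟩ := a2 _ b1
  have a3 : c * δ = t⁻¹ * m := by rw [e, ← inv_inv k, e']; group
  refine ⟨_, c * δ, ⟨h, a1.isPGroup, inf_le_right, ns_of fun x hx => mem_inf.2
    ⟨mul_mem (mul_mem (t2 (mem_zpowers σ)) (mem_inf.1 hx).1) (inv_mem (t2 (mem_zpowers σ))),
      conj_mem (h.nB h.σY) hx.2⟩, a3 ▸ mul_mem (inv_mem (le_normalizer t3)) m1,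
    mul_mem (cs_le_ns le_rfl c1) h.δN, fun y hy => ?_⟩, r, r1,
    fun e => b2 (mul_mem e (cs_mono (le_sup_left.trans h.ZY) c2))⟩
  rw [← cs_conj c1 (conj_mem h.δN hy)]
  group

namespace BR

variable (k : BR H Y R δ σ τ z₁ b₁ z₂ b₂ n)
include k

theorem RY (hr : r ∈ R) : r ∈ Ns Y := (k.RB hr).1

theorem cmY (hr : r ∈ R) (hy : y ∈ Y) : ⁅r, y⁆ ∈ F8 z₁ b₁ z₂ := (k.RB hr).2.1.2 y hy

theorem cmZ (hr : r ∈ R) (hu : u ∈ F8 z₁ b₁ z₂) : ⁅r, u⁆ ∈ zpowers z₂ := (k.RB hr).2.2.2 u hu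

theorem hom (hr : r ∈ R) (hx : x ∈ Y) (hy : y ∈ Y) : ⁅r, x * y⁆ = ⁅r, x⁆ * ⁅r, y⁆ := by
  rw [show ⁅r, x * y⁆ = ⁅r, x⁆ * (x * ⁅r, y⁆ * x⁻¹) by group, k.toBWn.cz (k.cmY hr hy) hx]

theorem inY (hr : r ∈ R) (h1 : ⁅r, z₁⁆ = 1) (h2 : ⁅r, b₁⁆ = 1) : r ∈ Y :=
  k.toBWn.memY k.pR (fun _ => k.RY) hr (k.toBWn.memC.2 ⟨mul_inv_eq_one.1 h1, mul_inv_eq_one.1 h2⟩)

theorem inZ (hr : r ∈ R) (h1 : r ∈ Cs Y) : r ∈ F8 z₁ b₁ z₂ :=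
  (k.zY r (k.toBWn.memY k.pR (fun _ => k.RY) hr (cs_mono (le_sup_left.trans k.toBWn.ZY) h1))).1 h1

theorem mulZ (hr : r ∈ R) (hx : x ∈ R) (hu : u ∈ F8 z₁ b₁ z₂) : ⁅r * x, u⁆ = ⁅x, u⁆ * ⁅r, u⁆ := by
  rw [show ⁅r * x, u⁆ = r * ⁅x, u⁆ * r⁻¹ * ⁅r, u⁆ by group, k.toBWn.nk (k.RY hr) (k.cmZ hx hu)]

theorem invZ (hr : r ∈ R) (hu : u ∈ F8 z₁ b₁ z₂) : ⁅r⁻¹, u⁆ = ⁅r, u⁆ := by
  rw [show ⁅r⁻¹, u⁆ = r⁻¹ * ⁅r, u⁆⁻¹ * r⁻¹⁻¹ by group,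
    k.toBWn.nk (k.RY (inv_mem hr)) (inv_mem (k.cmZ hr hu)),
    inv_eq (k.toBWn.sqZ (mem_sup_right (k.cmZ hr hu)))]

theorem cjZ (hg : g ∈ Ns Y) (hr : r ∈ R) (hu : u ∈ F8 z₁ b₁ z₂) :
    ⁅g * r * g⁻¹, g * u * g⁻¹⁆ = ⁅r, u⁆ := by
  rw [← conjugate_commutatorElement, k.toBWn.nk hg (k.cmZ hr hu)]

theorem homzb (hr : r ∈ R) : ⁅r, z₁ * b₁⁆ = ⁅r, z₁⁆ * ⁅r, b₁⁆ :=
  k.hom hr (k.toBWn.ZY k.toBWn.z1Z) (k.toBWn.ZY k.toBWn.b1Z)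

theorem φb (hr : r ∈ R) : ⁅n * r * n⁻¹, b₁⁆ = ⁅r, z₁⁆ := by
  rw [← k.cjZ k.nY hr k.toBWn.z1Z, k.act _ (k.toBWn.ZY k.toBWn.z1Z), k.δz]

theorem φz (hr : r ∈ R) : ⁅n * r * n⁻¹, z₁⁆ = ⁅r, z₁⁆ * ⁅r, b₁⁆ := by
  have a := mul_mem k.toBWn.z1Z k.toBWn.b1Z
  rw [← k.homzb hr, ← k.cjZ k.nY hr a, k.act _ (k.toBWn.ZY a), k.toBWn.δzb]

theorem z22 : z₂ * z₂ = 1 := k.toBWn.sqZ k.toBWn.z2Z

theorem cls0 (hr : r ∈ R) (h1 : ⁅r, z₁⁆ = 1) (hy : y ∈ Y) :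
    ⁅r, y⁆ ∈ zpowers z₂ ∨ ⁅r, y⁆ * z₁ ∈ zpowers z₂ := by
  have h := k.toBWn
  have a0 := conj_mem k.σR hr
  have a1 : r⁻¹ * (σ * r * σ⁻¹) ∈ R := mul_mem (inv_mem hr) a0
  have a2 : ⁅σ * r * σ⁻¹, z₁⁆ = 1 := by
    rw [← h1, ← k.cjZ h.σY hr h.z1Z, h.σz, mul_inv_cancel_right]
  have a3 : r⁻¹ * (σ * r * σ⁻¹) ∈ Y := k.inY a1
    (by rw [k.mulZ (inv_mem hr) a0 h.z1Z, a2, k.invZ hr h.z1Z, h1, mul_one]) (by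
      have := k.cjZ h.σY hr h.b1Z
      rw [h.σb, k.homzb a0, a2, one_mul] at this
      rw [k.mulZ (inv_mem hr) a0 h.b1Z, this, k.invZ hr h.b1Z,
        h.sqZ (mem_sup_right (k.cmZ hr h.b1Z))])
  have a4 : F4 z₁ b₁ ⊔ Phi Y ≤ Y ⊓ Cq (zpowers z₂) r := sup_le (fun v hv =>
    ⟨h.ZY (mem_sup_left hv), h.nsK (le_normalizer (h.ZY (mem_sup_left hv))),
      k.cmZ hr (mem_sup_left hv)⟩) (Phi_le_iff.2 fun x hx =>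
    ⟨mul_mem hx hx, h.nsK (le_normalizer (mul_mem hx hx)), by
      rw [k.hom hr hx hx, h.sqZ (k.cmY hr hx)]; exact one_mem _⟩)
  have a5 := a4 (h.σΦ y hy)
  have a6 := conj_mem h.σY hy
  have a7 := h.phiZ (k.cmY a1 a6) (cm_Phi a3 a6)
  refine h.fixσ (k.cmY hr hy) ?_
  have := mul_mem (conj_mem (h.nsK (k.RY hr)) a7) a5.2.2
  rw [← mul_inv_cancel_right (_ * ⁅r, ⁅σ, y⁆⁆) ⁅r, y⁆, mul_assoc _ ⁅r, ⁅σ, y⁆⁆,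
    ← k.hom hr a5.1 hy] at this
  rwa [show ⁅σ, ⁅r, y⁆⁆ = r * ⁅r⁻¹ * (σ * r * σ⁻¹), σ * y * σ⁻¹⁆ * r⁻¹ * ⁅r, ⁅σ, y⁆ * y⁆ * ⁅r, y⁆⁻¹ by
    group]

theorem sq0 (hr : r ∈ R) (h1 : ⁅r, z₁⁆ = 1) : r * r ∈ F8 z₁ b₁ z₂ := by
  refine k.inZ (mul_mem hr hr) (mem_Cs.2 fun y hy => sq_comm (mul_inv_eq_iff_eq_mul.1 ?_)
    (k.toBWn.sqZ (k.cmY hr hy)))
  rcases k.cls0 hr h1 hy with e | e
  · exact k.toBWn.nk (k.RY hr) e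
  · have := k.toBWn.nk (k.RY hr) e
    rwa [← conj_mul, mul_inv_eq_one.1 h1, mul_left_inj] at this

theorem sqR (hr : r ∈ R) : r * r ∈ F8 z₁ b₁ z₂ := by
  have h := k.toBWn
  have key : n * r * n⁻¹ * (n * r * n⁻¹) ∈ F8 z₁ b₁ z₂ ∨ r * r ∈ F8 z₁ b₁ z₂ ∨
      n⁻¹ * r * n⁻¹⁻¹ * (n⁻¹ * r * n⁻¹⁻¹) ∈ F8 z₁ b₁ z₂ := by
    rcases h.memK.1 (k.cmZ hr h.z1Z) with e | e
    · exact .inr (.inl (k.sq0 hr e))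
    rcases h.memK.1 (k.cmZ hr h.b1Z) with f | f
    · have a := conj_mem (inv_mem k.nR) hr
      exact .inr (.inr (k.sq0 a (by rw [← k.φb a, ← f]; group)))
    · exact .inl (k.sq0 (conj_mem k.nR hr) (by rw [k.φz hr, e, f, k.z22]))
  rcases key with e | e | e
  · exact (mem_normalizer_iff.1 (h.nsZ k.nY) _).2 (by rwa [conj_mul] at e)
  · exact e
  · exact (mem_normalizer_iff.1 (h.nsZ (inv_mem k.nY)) _).2 (by rwa [conj_mul] at e)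

theorem cmR (hr : r ∈ R) (hx : x ∈ R) : ⁅r, x⁆ ∈ F8 z₁ b₁ z₂ :=
  Phi_le_iff.2 (fun _ => k.sqR) (cm_Phi hr hx)

theorem exists_cls (hr : r ∈ R) (h1 : r ∉ Cs (F4 z₁ b₁)) : ∃ a ∈ R, ⁅a, z₁⁆ = z₂ ∧ ⁅a, b₁⁆ = z₂ := by
  have h := k.toBWn
  have a := conj_mem k.nR hr
  rcases h.memK.1 (k.cmZ hr h.z1Z) with e | e <;> rcases h.memK.1 (k.cmZ hr h.b1Z) with f | f
  · exact absurd (h.memC.2 ⟨mul_inv_eq_one.1 e, mul_inv_eq_one.1 f⟩) h1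
  · exact ⟨_, conj_mem k.nR a, by rw [k.φz a, k.φz hr, k.φb hr, e, f, one_mul, mul_one], by
      rw [k.φb a, k.φz hr, e, f, one_mul]⟩
  · exact ⟨_, a, by rw [k.φz hr, e, f, mul_one], by rw [k.φb hr, e]⟩
  · exact ⟨r, hr, e, f⟩

theorem exists_ga (hr : r ∈ R) (h1 : r ∉ Cs (F4 z₁ b₁)) : ∃ a ∈ R, ⁅a, z₁⁆ = 1 ∧ ⁅a, b₁⁆ = z₂ ∧
    ⁅a, n * a * n⁻¹⁆ ∈ zpowers z₂ := by
  have h := k.toBWn
  obtain ⟨a, ha, a1, a2⟩ := k.exists_cls hr h1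
  have hb := conj_mem k.nR ha
  have hc := conj_mem k.nR hb
  have hd := conj_mem k.nR hc
  have he := conj_mem k.nR hd
  have cm : ∀ x y, n * (x * y) * n⁻¹ = n * x * n⁻¹ * (n * y * n⁻¹) := fun x y => conj_mul.symm
  have b1 := k.φz ha
  have b2 := k.φb ha
  have c1 := k.φz hb
  have c2 := k.φb hb
  have d1 := k.φz hc
  have d2 := k.φb hc
  rw [a1, a2, k.z22] at b1
  rw [b1, b2, a1, one_mul] at c1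
  rw [c1, c2, b1, mul_one] at d1
  have y0 : a⁻¹ * (n * (n * (n * a * n⁻¹) * n⁻¹) * n⁻¹) ∈ Y := k.inY (mul_mem (inv_mem ha) hd)
    (by rw [k.mulZ (inv_mem ha) hd h.z1Z, k.invZ ha h.z1Z, d1, a1, k.z22])
    (by rw [k.mulZ (inv_mem ha) hd h.b1Z, k.invZ ha h.b1Z, d2, c1, a2, k.z22])
  have y1 : _ ∈ F8 z₁ b₁ z₂ := mem_sup_left (h.cm _ y0)
  rw [commutatorElement_def, ← k.act _ y0, ← conj_mul, ← conj_inv] at y1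
  refine ⟨_, mul_mem hc ha, by rw [k.mulZ hc ha h.z1Z, a1, c1, k.z22], by
    rw [k.mulZ hc ha h.b1Z, a2, c2, b1, mul_one], h.fixZ (k.cmR (mul_mem hc ha)
      (conj_mem k.nR (mul_mem hc ha))) ?_⟩
  rw [commutatorElement_def δ, ← k.act _ (h.ZY (k.cmR (mul_mem hc ha)
    (conj_mem k.nR (mul_mem hc ha)))), conjugate_commutatorElement,
    cm (n * (n * a * n⁻¹) * n⁻¹) a, cm _ (n * a * n⁻¹)]
  generalize n * (n * (n * (n * a * n⁻¹) * n⁻¹) * n⁻¹) * n⁻¹ = e at *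
  generalize n * (n * (n * a * n⁻¹) * n⁻¹) * n⁻¹ = d at *
  generalize n * (n * a * n⁻¹) * n⁻¹ = c at *
  generalize n * a * n⁻¹ = b at *
  have u1 := mul_mem (mul_mem (mul_mem (h.nZ (k.RY (mul_mem (inv_mem hb) he))
    (k.cmR (inv_mem he) (mul_mem (inv_mem hd) (inv_mem ha)))) y1) (inv_mem (k.sqR ha)))
    (k.cmR (inv_mem he) (inv_mem hc))
  have u2 := h.nk (k.RY (mul_mem (mul_mem hc ha) (mul_mem hd hb))) (k.cmZ (mul_mem hd hb) u1)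
  have u3 := k.cmR (mul_mem hc ha) (mul_mem hd hb)
  have u4 := k.cmZ (mul_mem hd hb) u1
  generalize hu : b⁻¹ * e * ⁅e⁻¹, d⁻¹ * a⁻¹⁆ * (b⁻¹ * e)⁻¹ * (b⁻¹ * e * (a⁻¹ * d)⁻¹) * (a * a)⁻¹ *
    ⁅e⁻¹, c⁻¹⁆ = u at u1 u2 u4
  rw [show e * c = c * a * (d * b) * u by rw [← hu]; group, show ⁅d * b, c * a * (d * b) * u⁆ =
    ⁅c * a, d * b⁆⁻¹ * (c * a * (d * b) * ⁅d * b, u⁆ * (c * a * (d * b))⁻¹) by group, u2,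
    ← inv_inv ⁅d * b, u⁆, ← mul_inv_rev, ← mul_inv_rev, ← mul_assoc,
    h.cz (mem_sup_right (inv_mem u4)) (h.ZY u3) |> mul_inv_eq_iff_eq_mul.1, mul_assoc, h.sqZ u3,
    mul_one, inv_inv]
  exact u4

theorem sq_ga {a b : G} (ha : a ∈ R) (hb : b ∈ R) (a1 : ⁅a, z₁⁆ = 1) (a2 : ⁅a, b₁⁆ = z₂)
    (b1 : ⁅b, z₁⁆ = z₂) (c : ⁅a, b⁆ ∈ zpowers z₂) : a * a ∈ zpowers z₂ := by
  have h := k.toBWn
  have c1 : ⁅b, a * a⁆ = 1 := commutatorElement_eq_one_iff_mul_comm.2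
    (sq_comm (mul_inv_eq_iff_eq_mul.1 (h.nk (k.RY ha) c)) (h.sqZ (mem_sup_right c)))
  have c2 : ⁅a, a * a⁆ = 1 := by group
  obtain ⟨v, hv, w, hw, e⟩ := h.memZ (k.sqR ha)
  have c3 : ∀ r ∈ R, ⁅r, w * v⁆ = ⁅r, v⁆ := fun r hr => by
    rw [k.hom hr (h.ZY (mem_sup_right hw)) (h.ZY (mem_sup_left hv)), commutatorElement_def,
      h.nk (k.RY hr) hw, mul_inv_cancel, one_mul]
  rw [e, c3 _ hb] at c1
  rw [e, c3 _ ha] at c2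
  rcases h.memV.1 hv with f | f | f | f <;> rw [f] at c1 c2
  · simpa [e, f] using hw
  · exact absurd (b1 ▸ c1) h.z2ne
  · exact absurd (a2 ▸ c2) h.z2ne
  · rw [k.homzb ha, a1, a2, one_mul] at c2
    exact absurd c2 h.z2ne

theorem exists_y {a : G} (ha : a ∈ R) (a1 : ⁅a, z₁⁆ = 1) : ∃ y ∈ Y, y ∉ F8 z₁ b₁ z₂ ∧
    y * y ∈ zpowers z₂ ∧ n * y * n⁻¹ = y ∧ ⁅a, y⁆ ∈ zpowers z₂ := by
  have h := k.toBWn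
  have hb := h.TY h.b2T
  have b1 : τ * b₂ ≠ b₂ * τ := fun e => h.z2ne (by
    have := h.τb'
    rwa [e, mul_inv_cancel_right, right_eq_mul] at this)
  have b2 : τ * τ ∈ F8 z₁ b₁ z₂ := by
    have c1 : ⁅τ, b₂⁆ = z₂ := by rw [commutatorElement_def, h.τb', mul_inv_cancel_right]
    have c2 := h.cen _ (mul_mem h.τS h.τS) (h.YC (mul_mem h.τY h.τY)) (by
      rw [commutatorElement_def, h.cz h.z2Z (mul_mem h.τY h.τY), mul_inv_cancel]; exact one_mem _) (by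
      rw [commutatorElement_eq_one_iff_mul_comm.2 (sq_comm (c1 ▸ h.τz') (c1 ▸ k.z22)).symm]
      exact one_mem _)
    refine ((mem_adj h.adjZ (h.sq _ h.b2T ▸ one_mem _)).1 (h.eT ▸ c2)).resolve_right fun e => b1 ?_
    have := h.cz e h.τY
    rw [show τ * (b₂⁻¹ * (τ * τ)) * τ⁻¹ = (τ * b₂ * τ⁻¹)⁻¹ * (τ * τ) by group, mul_left_inj,
      inv_inj] at this
    exact mul_inv_eq_iff_eq_mul.1 this
  obtain ⟨y, y1, y2, y3, y4⟩ : ∃ y ∈ Y, y ∉ F8 z₁ b₁ z₂ ∧ y * y ∈ F8 z₁ b₁ z₂ ∧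
      ⁅a, y⁆ ∈ zpowers z₂ := by
    rcases k.cls0 ha a1 hb with e | e
    · exact ⟨b₂, hb, fun f => b1 (mul_inv_eq_iff_eq_mul.1 (h.cz f h.τY)),
        h.sq _ h.b2T ▸ one_mem _, e⟩
    rcases k.cls0 ha a1 h.τY with e' | e'
    · exact ⟨τ, h.τY, fun f => b1 (mul_inv_eq_iff_eq_mul.1 (h.cz f hb)).symm, b2, e'⟩
    refine ⟨b₂ * τ, mul_mem hb h.τY, fun f => b1 ?_, ?_, ?_⟩
    · have := mul_inv_eq_iff_eq_mul.1 (h.cz f h.τY)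
      rwa [← mul_assoc, mul_left_inj] at this
    · rw [show b₂ * τ * (b₂ * τ) = b₂ * (τ * b₂ * τ⁻¹) * (τ * τ) by group, h.τb', ← mul_assoc b₂,
        mul_inv_eq_iff_eq_mul.1 (h.cz h.z2Z hb), mul_assoc z₂, h.sq _ h.b2T, mul_one]
      exact mul_mem h.z2Z b2
    · rw [k.hom ha hb h.τY]
      have := mul_mem e e'
      rwa [mul_assoc, ← mul_assoc z₁, ← mul_inv_eq_iff_eq_mul.1 (h.cz h.z1Z (h.ZY (k.cmY ha h.τY))),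
        mul_assoc, h.sqZ h.z1Z, mul_one] at this
  obtain ⟨v, hv, e⟩ := h.dec y1
  have hv' : v ∈ F8 z₁ b₁ z₂ := mem_sup_left hv
  refine ⟨y * v, mul_mem y1 (h.ZY hv'), fun f => y2 ((mul_mem_cancel_right hv').1 f), ?_, ?_, ?_⟩
  · rw [h.sqv y1 hv']
    exact h.phiZ y3 (sq_mem_Phi y1)
  · rw [k.act _ (mul_mem y1 (h.ZY hv')), mul_inv_eq_one.1 e]
  · rw [k.hom ha y1 (h.ZY hv')]
    exact mul_mem y4 (k.cmZ ha hv')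

end BR

theorem BW.norm (h4 : SectionalPRankLE 2 4 G) (h0 : BW H Y δ σ τ z₁ b₁ z₂ b₂) :
    Ns Y ≤ Ns (F4 z₁ b₁) := by
  by_contra hn
  replace h0 := BWn.mk h0
  obtain ⟨R, n, k, β, b1, b2⟩ := h0.exists_R hn
  obtain ⟨a, ha, a1, a2, a3⟩ := k.exists_ga b1 b2
  obtain ⟨y, y1, y2, y3, y4, y5⟩ := k.exists_y ha a1
  have hb := conj_mem k.nR ha
  have c1 := k.φz ha
  rw [a1, a2, one_mul] at c1
  have c2 := k.sq_ga ha hb a1 a2 c1 a3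
  have e0 : EA (zpowers z₂) (F8 z₁ b₁ z₂) := ⟨le_sup_right, fun x hx => h0.sqZ hx ▸ one_mem _,
    fun x hx w hw => conj_mem (h0.nsK (le_normalizer (h0.ZY hx))) hw⟩
  have e1 : ∀ u ∈ F8 z₁ b₁ z₂, ⁅y, u⁆ ∈ zpowers z₂ := fun u hu => by
    rw [commutatorElement_def, h0.cz hu y1, mul_inv_cancel]; exact one_mem _
  have e2 : F8 z₁ b₁ z₂ ⊔ zpowers y ≤ Cs (F4 z₁ b₁) := (sup_le h0.ZY (zpowers_le.2 y1)).trans h0.YC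
  have e3 : ∀ {r}, ⁅r, z₁⁆ = z₂ → r ∉ F8 z₁ b₁ z₂ ⊔ zpowers y := fun e f =>
    h0.z2ne (e ▸ mul_inv_eq_one.2 (h0.memC.1 (e2 f)).1)
  have := (e0.adj e1 y3).card_le2 h4 (e0.comm_adj e1 y3 (fun _ => k.cmZ hb) (by
      rw [← y4, ← conjugate_commutatorElement]; exact conj_mem (h0.nsK k.nY) y5))
    (by rw [conj_mul]; exact conj_mem (h0.nsK k.nY) c2) (e0.comm_adj e1 y3 (fun _ => k.cmZ ha) y5) c2 a3 (e3 c1)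
    (fun f => h0.z2ne (a2 ▸ mul_inv_eq_one.2 (h0.memC.1 (e2 f)).2))
    (e3 (by rw [k.mulZ (inv_mem hb) ha h0.z1Z, a1, k.invZ hb h0.z1Z, c1, one_mul]))
  rw [card_adj (fun u hu => (h0.cz hu y1).symm ▸ hu) (mem_sup_right y3) y2, Nat.card_zpowers] at this
  have := orderOf_le_of_pow_eq_one two_pos ((pow_two _).trans k.z22)
  have := h0.cards.2.2
  unfold F8 at *
  omega

end Cfsg.Lib.GHM
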