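import Cfsg.Agent.GHM.UT4

/-!
# A group of order 64 with a homocyclic subgroup of order sixteen
-/

set_option autoImplicit false

namespace Cfsg.Lib.GHM

open Subgroup Cfsg.Lib.Trans Cfsg.Lib.Gold Cfsg.Lib.Rank2
open scoped commutatorElement

universe u

variable {G : Type u} [Group G]

namespace G64

open GHB G2T

variable {T P A B : Subgroup G} {d s z v w x a : G}

/-- The elements of exponent `n`. -/
def Om (h : ∀ a ∈ A, ∀ b ∈ A, a * b = b * a) (n : ℕ) : Subgroup G where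
  carrier := {a | a ∈ A ∧ a ^ n = 1}
  one_mem' := ⟨one_mem A, one_pow n⟩
  mul_mem' ha hb := ⟨mul_mem ha.1 hb.1, by
    rw [Commute.mul_pow (h _ ha.1 _ hb.1), ha.2, hb.2, mul_one]⟩
  inv_mem' ha := ⟨inv_mem ha.1, by rw [inv_pow, ha.2, inv_one]⟩

theorem pow_add4 (h : a ^ 4 = 1) (r r' : ZMod (2 ^ (0 + 2))) :
    a ^ (r + r').val = a ^ r.val * a ^ r'.val := by
  rw [ZMod.val_add, ← pow_add, ← pow_eq_pow_mod _ (show a ^ 2 ^ (0 + 2) = 1 from h)]

theorem model [Finite G] {S : Sylow 2 G} (h5 : Nat.card (S : Subgroup G) = 64)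
    (ha : a ∈ (S : Subgroup G)) (hs : s ∈ (S : Subgroup G)) (hw : w ∈ (S : Subgroup G))
    (a4 : a ^ 4 = 1) (s2 : s * s = 1) (w2 : w * w = 1) (ws : w * s = s * w)
    (wa : w * a * w⁻¹ = a⁻¹) (ab : Commute (s * a * s⁻¹) a)
    (hn : a ^ 2 * (s * a * s⁻¹) ^ 2 ≠ 1) : Out S := by
  have b4 : (s * a * s⁻¹) ^ 4 = 1 := by rw [conj_pow, a4, mul_one, mul_inv_cancel]
  have h : GM.Rel (fun i : ZMod (2 ^ (0 + 2)) => a ^ i.val) (fun i => (s * a * s⁻¹) ^ i.val) s w :=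
    ⟨pow_add4 a4, pow_add4 b4, fun _ _ => ab.pow_pow _ _, fun r => by rw [conj_pow]; group,
      fun r => by
        rw [← mul_inv_eq_iff_eq_mul, ← conj_pow, wa, inv_pow]
        exact inv_eq_of_mul_eq_one_right (by
          rw [← pow_add4 a4, add_neg_cancel, ZMod.val_zero, pow_zero]), s2, w2, ws⟩
  refine Or.inl ⟨0, UT4.emb_of h.hom ((Par.zmod 0).injective (isPGroup_GM 0) _ ?_) (fun x => ?_)
    (by rw [GM.card, Nat.card_zmod, h5]; rfl)⟩
  · rw [h.hom_apply, cond_false, cond_false, mul_one, mul_one]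
    exact hn
  · exact mul_mem (mul_mem (mul_mem (pow_mem ha _) (pow_mem (mul_mem (mul_mem hs ha) (inv_mem hs)) _))
      (UT4.cond_mem hs _)) (UT4.cond_mem hw _)

theorem sd (h : Tri T P d s) (hx : x ∈ P) :
    s * (d * x * d⁻¹) * s⁻¹ = d⁻¹ * (s * x * s⁻¹) * d := by
  have h1 := h.inv _ ((mem_normalizer_iff.1 (inv_mem h.dN) _).1 ((mem_normalizer_iff.1 h.sN _).1 hx))
  calc _ = s * d * s⁻¹ * d * (d⁻¹ * (s * x * s⁻¹) * d⁻¹⁻¹) * (s * d * s⁻¹ * d)⁻¹ := by group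
    _ = _ := by rw [← h1]; group

end G64

open G64 GHB in
theorem VV.g64 [Finite G] {S : Sylow 2 G} {P A : Subgroup G} {d s z v : G}
    (h : VV (S : Subgroup G) P d s z v) (h1 : Nat.card P = 32) (h2 : A ≤ P)
    (h3 : Nat.card A = 16) (h4 : ∀ a ∈ A, ∀ b ∈ A, a * b = b * a) (h5 : ∃ a ∈ A, a * a ≠ 1)
    (h6 : d ∈ Ns A) (h7 : s ∈ Ns A) (h8 : ∀ a ∈ A, d * a = a * d → a = 1)
    (h9 : ∀ x ∈ (S : Subgroup G), x * x ∈ A) (h10 : ¬ P ≤ Cs A) : Out S := by
  have : Fact (Nat.Prime 3) := ⟨Nat.prime_three⟩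
  have nr : ∀ {H : Subgroup G} {g x : G}, g ∈ Ns H → x ∈ H → g * x * g⁻¹ ∈ H := fun hg hx =>
    (mem_normalizer_iff.1 hg _).1 hx
  have i2 : ∀ p ∈ P, ∀ q ∈ P, p ∉ A → q ∉ A → p * q ∈ A := by
    have e : (A.subgroupOf P).index = 2 := by
      have := Solv.relIndex_mul_card_of_le h2
      rw [h1, h3] at this
      change A.relIndex P = 2
      omega
    intro p hp q hq e1 e2
    exact (mul_mem_iff_of_index_two e (a := ⟨p, hp⟩) (b := ⟨q, hq⟩)).2 (iff_of_false e1 e2)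
  have cnt3 : ∀ B ≤ P, (∀ b ∈ B, d * b * d⁻¹ ∈ B) → Nat.card B % 3 = Nat.card (Cm ⊥ B d) % 3 :=
    fun B hB h' => by
      have := cnt (K := ⊥) 3 h' fun b hb =>
        commutatorElement_eq_one_iff_mul_comm.2 (h.d3 b (hB hb)).symm
      rwa [relIndex_bot_left, relIndex_bot_left] at this
  have tri : ∀ B ≤ A, (∀ b ∈ B, d * b * d⁻¹ ∈ B) → B = ⊥ ∨ Nat.card B = 4 ∨ B = A := fun B hB h' => by
    have e := cnt3 B (hB.trans h2) h'
    rw [show Cm ⊥ B d = ⊥ from eq_bot_iff.2 fun b hb =>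
      h8 b (hB hb.1) (mem_Cm_bot.1 hb).2, card_bot] at e
    have e2 := h3 ▸ card_dvd_of_le hB
    have e3 := Nat.le_of_dvd (by norm_num) e2
    rw [← card_eq_one, show B = A ↔ Nat.card B = 16 from
      ⟨fun e => e ▸ h3, fun e => eq_of_le_of_card_ge hB (by omega)⟩]
    generalize Nat.card B = n at e e2 e3
    interval_cases n <;> omega
  -- the four-group
  have zc : z ∈ Cs P := fun p hp => h.zc p (h.le hp)
  have zP : z ∈ P := h.cent z h.zS zc
  have vP : v ∈ P := h.dz ▸ nr h.dN zP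
  have z2 := h.z2
  have v2 : v * v = 1 := by rw [← h.dz, conj_mul, z2, mul_one, mul_inv_cancel]
  have zv : v * z = z * v := zc v vP
  have vc : v ∈ Cs P := fun p hp => by
    have := zc _ (nr (inv_mem h.dN) hp)
    rw [← h.dz]
    calc _ = d * (d⁻¹ * p * d⁻¹⁻¹ * z) * d⁻¹ := by group
      _ = _ := by rw [this]; group
  have dzv : d * (z * v) * d⁻¹ = z := by
    rw [← conj_mul, h.dz, h.dv, ← mul_assoc, zv, mul_assoc, v2, mul_one]
  have zA : z ∈ A := by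
    by_contra e
    refine e (dzv ▸ nr h6 (i2 z zP v vP e fun e' => e ?_))
    exact (mem_normalizer_iff.1 h6 z).2 (h.dz ▸ e')
  have vA : v ∈ A := h.dz ▸ nr h6 zA
  have v1 : v ≠ 1 := fun e => h.z1 (by rw [← h.dz] at e; simpa using e)
  have vz : v ≠ z := fun e => h.z1 (h8 z zA (mul_inv_eq_iff_eq_mul.1 (h.dz.trans e)))
  have sz : s * z * s⁻¹ = z := by rw [h.zc s h.sS, mul_inv_cancel_right]
  have sv : s * v * s⁻¹ = z * v := by
    rw [← h.dz, sd h.toTri zP, sz, h.dz]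
    nth_rewrite 1 [← dzv]
    group
  have om : ∀ n, ∀ b ∈ Om h4 n, d * b * d⁻¹ ∈ Om h4 n := fun n b hb =>
    ⟨nr h6 hb.1, by rw [conj_pow, hb.2, mul_one, mul_inv_cancel]⟩
  obtain ⟨a, ha, a2⟩ := h5
  have c4 : Nat.card (Om h4 2) = 4 := by
    rcases tri (Om h4 2) (fun _ h => h.1) (om 2) with e | e | e
    · exact absurd (e.le (show z ∈ Om h4 2 from ⟨zA, (pow_two z).trans z2⟩)) h.z1
    · exact e
    · exact absurd ((pow_two a).symm.trans (e.ge ha).2) a2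
  have mV : ∀ x ∈ A, x * x = 1 → x = 1 ∨ x = z ∨ x = v ∨ x = z * v := fun x hx e => by
    have e1 : ({1, z, v, z * v} : Set G) = Om h4 2 := by
      refine Set.eq_of_subset_of_ncard_le ?_ (le_of_eq (c4.trans ?_)) (Set.toFinite _)
      · have a1 : z ∈ Om h4 2 := ⟨zA, (pow_two z).trans z2⟩
        have a2 : v ∈ Om h4 2 := ⟨vA, (pow_two v).trans v2⟩
        rintro _ (rfl | rfl | rfl | rfl)
        exacts [one_mem _, a1, a2, mul_mem a1 a2]
      · have : z * v ≠ 1 := fun e => vz (mul_left_cancel (e.trans z2.symm))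
        rw [Set.ncard_insert_of_notMem (by simp [h.z1.symm, v1.symm, this.symm]),
          Set.ncard_insert_of_notMem (by simp [vz.symm, v1]), Set.ncard_pair (by simp [h.z1])]
    exact e1.ge (show x ∈ Om h4 2 from ⟨hx, (pow_two x).trans e⟩)
  have big : ∀ B ≤ A, (∀ b ∈ B, d * b * d⁻¹ ∈ B) → z ∈ B → v ∈ B →
      (∀ b ∈ B, b * b = 1) ∨ B = A := fun B hB h' hz hv => by
    rcases tri B hB h' with e | e | e
    · exact absurd (e.le hz) h.z1
    · have : Om h4 2 = B := eq_of_le_of_card_ge (fun x hx => by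
        rcases mV x hx.1 ((pow_two x).symm.trans hx.2) with rfl | rfl | rfl | rfl
        exacts [one_mem _, hz, hv, mul_mem hz hv]) (by omega)
      exact Or.inl fun b hb => (pow_two b).symm.trans (this.ge hb).2
    · exact Or.inr e
  have e4 : ∀ x ∈ A, x ^ 4 = 1 := by
    rcases big (Om h4 4) (fun _ h => h.1) (om 4) ⟨zA, by rw [show 4 = 2 * 2 from rfl, pow_mul, pow_two z, z2,
      one_pow]⟩ ⟨vA, by rw [show 4 = 2 * 2 from rfl, pow_mul, pow_two v, v2, one_pow]⟩ with e | e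
    · have k : ∀ n, a ^ (4 * n) = 1 → a ^ (2 * n) = 1 := fun n h' => by
        rw [two_mul, pow_add]
        exact e _ ⟨pow_mem ha n, by rw [← pow_mul, mul_comm, h']⟩
      refine absurd ((pow_two a).symm.trans (k 1 (k 2 (k 4 ?_)))) a2
      exact congrArg Subtype.val (h3 ▸ pow_card_eq_one' (x := (⟨a, ha⟩ : A)))
    · exact fun x hx => (e.ge hx).2
  obtain ⟨a, ha, a2⟩ : ∃ a ∈ A, a * a = z := by
    rcases mV _ (mul_mem ha ha) (by rw [← e4 a ha]; simp only [pow_succ, pow_zero, one_mul, mul_assoc]) with e | e | e | e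
    · exact absurd e a2
    · exact ⟨a, ha, e⟩
    · exact ⟨_, nr h6 (nr h6 ha), by rw [conj_mul, conj_mul, e, h.dv, dzv]⟩
    · exact ⟨_, nr h6 ha, by rw [conj_mul, e, dzv]⟩
  -- the inversion
  obtain ⟨w, hw, w1⟩ := (bot_or_exists_ne_one (Cm ⊥ P d)).resolve_left fun e => by
    have := cnt3 P le_rfl fun _ => nr h.dN
    rw [e, card_bot, h1] at this
    omega
  obtain ⟨wP, dw⟩ := mem_Cm_bot.1 hw
  have wA : w ∉ A := fun e => w1 (h8 w e dw)
  have uq : ∀ x ∈ P, x ∉ A → d * x = x * d → x * w = 1 := fun x hx e1 e2 =>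
    h8 _ (i2 x hx w wP e1 wA) (by rw [← mul_assoc, e2, mul_assoc, dw, mul_assoc])
  have w2 := uq w wP wA dw
  have ws : w * s = s * w := by
    have e := sd h.toTri wP
    rw [dw, mul_inv_cancel_right] at e
    have := uq _ (nr h.sN wP) (fun e => wA ((mem_normalizer_iff.1 h7 w).2 e)) (by
      nth_rewrite 1 [e]; group)
    rw [← mul_inv_eq_iff_eq_mul.1 (mul_right_cancel (this.trans w2.symm))]
  have nw : ∀ x ∈ A, w * x * w⁻¹ ∈ A := fun x hx =>
    i2 _ (mul_mem wP (h2 hx)) _ (inv_mem wP) (fun e => wA ((mul_mem_cancel_right hx).1 e))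
      fun e => wA (inv_mem_iff.1 e)
  have cw : ∀ x ∈ A, w * x = x * w → x * x = 1 := by
    rcases big (Cm ⊥ A w) Cm_le (fun b hb => mem_Cm_bot.2 ⟨nr h6 hb.1, by
      rw [← mul_assoc, ← mul_assoc, ← dw, mul_assoc d, (mem_Cm_bot.1 hb).2, mul_assoc _ d⁻¹,
        (show Commute d w from dw).inv_left.eq]; group⟩)
      (mem_Cm_bot.2 ⟨zA, zc w wP⟩) (mem_Cm_bot.2 ⟨vA, vc w wP⟩) with e | e
    · exact fun x hx e' => e x (mem_Cm_bot.2 ⟨hx, e'⟩)
    · refine absurd (fun p hp => ?_) h10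
      have wc : w ∈ Cs A := fun x hx => (mem_Cm_bot.1 (e.ge hx)).2.symm
      by_cases e' : p ∈ A
      · exact fun x hx => h4 x hx p e'
      · exact (mul_mem_cancel_right wc).1 fun x hx => h4 x hx _ (i2 p hp w wP e' wA)
  have Vw : ∀ x ∈ A, x * x = 1 → x ∈ Cs P := fun x hx e => by
    rcases mV x hx e with rfl | rfl | rfl | rfl
    exacts [one_mem _, zc, vc, mul_mem zc vc]
  have fx : ∀ x ∈ A, x * x = 1 → s * x * s⁻¹ = x → x = 1 ∨ x = z := fun x hx e e' => by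
    rcases mV x hx e with rfl | rfl | rfl | rfl
    · exact Or.inl rfl
    · exact Or.inr rfl
    · exact absurd (mul_eq_right.1 (sv.symm.trans e')) h.z1
    · rw [← conj_mul, sz, sv] at e'
      exact absurd (mul_eq_right.1 e') h.z1
  have sq : ∀ x ∈ A, ∀ y ∈ A, x * x = y * y → x * y⁻¹ * (x * y⁻¹) = 1 := fun x hx y hy e => by
    rw [mul_assoc, ← mul_assoc y⁻¹, h4 _ (inv_mem hy) _ hx, mul_assoc, ← mul_assoc, e]; group
  have wa : w * a * w⁻¹ = a⁻¹ := by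
    have e1 := Vw _ (mul_mem (nr h7 ha) (inv_mem ha)) (sq _ (nr h7 ha) _ ha (by
      rw [conj_mul, a2, sz])) w wP
    rcases fx _ (mul_mem (nw a ha) (inv_mem ha)) (sq _ (nw a ha) _ ha (by
      rw [conj_mul, a2, zc w wP, mul_inv_cancel_right])) (by
        calc _ = s * w * a * (s * w)⁻¹ * (s * a * s⁻¹)⁻¹ := by group
          _ = w * (s * a * s⁻¹ * a⁻¹) * a * w⁻¹ * (s * a * s⁻¹)⁻¹ := by rw [← ws]; group
          _ = s * a * s⁻¹ * a⁻¹ * (w * a * w⁻¹) * (s * a * s⁻¹)⁻¹ := by rw [e1]; group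
          _ = _ := by
            rw [h4 _ (mul_mem (nr h7 ha) (inv_mem ha)) _ (nw a ha), h4 _ (nr h7 ha) _ (inv_mem ha)]
            group) with e | e
    · exact absurd (a2.symm.trans (cw a ha (mul_inv_eq_iff_eq_mul.1 (mul_inv_eq_one.1 e)))) h.z1
    · rw [mul_inv_eq_iff_eq_mul.1 e, ← a2]
      exact eq_inv_of_mul_eq_one_left (by
        rw [← e4 a ha]; simp only [pow_succ, pow_zero, one_mul, mul_assoc])
  -- the swap
  have y2 : s * s * (s * s) = 1 := by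
    have hy := h9 s h.sS
    have c : ∀ {g x : G}, g ∈ Ns P → x ∈ Cs P → g * x * g⁻¹ ∈ Cs P := fun {g x} hg hx p hp => by
      have := hx _ (nr (inv_mem hg) hp)
      calc _ = g * (g⁻¹ * p * g⁻¹⁻¹ * x) * g⁻¹ := by group
        _ = _ := by rw [this]; group
    have e1 := mul_mem (c h.sN h.inv) (c h.dN (inv_mem h.inv))
    rw [show s * (s * d * s⁻¹ * d) * s⁻¹ * (d * (s * d * s⁻¹ * d)⁻¹ * d⁻¹) =
      s * s * (d * (s * s) * d⁻¹)⁻¹ by group] at e1
    generalize s * s = y at hy e1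
    have e2 := cw _ (mul_mem hy (inv_mem (nr h6 hy))) (e1 w wP)
    rw [mul_assoc, ← mul_assoc _⁻¹, h4 _ (inv_mem (nr h6 hy)) _ hy, mul_assoc, ← mul_assoc,
      ← mul_inv_rev, conj_mul, mul_inv_eq_one] at e2
    exact h8 _ (mul_mem hy hy) (mul_inv_eq_iff_eq_mul.1 e2.symm)
  obtain ⟨s', s1, s2, s3, s4, s5⟩ : ∃ s' ∈ (S : Subgroup G), s' * s' = 1 ∧ w * s' = s' * w ∧
      (∀ x ∈ A, s' * x * s'⁻¹ ∈ A) ∧ s' * v * s'⁻¹ = z * v := by
    rcases fx _ (h9 s h.sS) y2 (by group) with e | e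
    · exact ⟨s, h.sS, e, ws, fun _ => nr h7, sv⟩
    · refine ⟨v * s, mul_mem (h.le vP) h.sS, ?_, by rw [← mul_assoc, vc w wP, mul_assoc, ws, mul_assoc],
        fun x hx => ?_, ?_⟩
      · calc _ = v * (s * v * s⁻¹) * (s * s) := by group
          _ = 1 := by rw [sv, e, ← mul_assoc, zv, mul_assoc z, v2, mul_one, z2]
      · simpa [mul_assoc] using mul_mem (mul_mem vA (nr h7 hx)) (inv_mem vA)
      · calc _ = v * (s * v * s⁻¹) * v⁻¹ := by group
          _ = _ := by rw [sv, ← mul_assoc, zv, mul_inv_cancel_right]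
  have hb := nr h6 ha
  have cS : Nat.card (S : Subgroup G) = 64 := by
    have e : P ⊔ zpowers s = S := le_antisymm (sup_le h.le (zpowers_le.2 h.sS)) fun x hx => by
      rcases h.idx x hx (h.nS hx) with e | e
      · exact mem_sup_left e
      · exact (mul_mem_cancel_right (mem_sup_right (mem_zpowers s))).1 (mem_sup_left e)
    rw [← e, card_adj (fun _ => nr h.sN) (h2 (h9 s h.sS)) h.sP, h1]
  refine model cS (h.le (h2 hb)) s1 (h.le wP) (e4 _ hb) s2 w2 s3 ?_ (h4 _ (s4 _ hb) _ hb) ?_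
  · calc _ = w * d * a * (w * d)⁻¹ := by group
      _ = d * (w * a * w⁻¹) * d⁻¹ := by rw [← dw]; group
      _ = _ := by rw [wa]; group
  · rw [pow_two, pow_two, conj_mul (a := d * a * d⁻¹), conj_mul (a := a), a2, h.dz, s5,
      ← mul_assoc, zv, mul_assoc, v2, mul_one]
    exact h.z1

end Cfsg.Lib.GHM
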