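import Cfsg.Agent.GHM.Tp
import Cfsg.Agent.GHM.Api

/-!
# The case `C_S(W) = W` of the frame `W8`: the subgroup of order sixteen
-/

set_option autoImplicit false

namespace Cfsg.Lib.GHM.C0

open Subgroup Cfsg.Lib.Trans Cfsg.Lib.Gold Cfsg.Lib.GHB
open scoped commutatorElement

universe u

variable {G : Type u} [Group G] [Finite G] {S : Sylow 2 G} {T P P₁ P₂ : Subgroup G}
  {d s z v w a x y d₁ s₁ d₂ s₂ : G}

theorem Vc (h : VV T P d s z v) : ∀ u ∈ F4 z v, ∀ p ∈ P, p * u = u * p := fun _ hu p hp =>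
  mem_Cs.1 (h.le4 hu).2 p hp

omit [Finite G] in
theorem zc (h : VV T P d s z v) (hx : x ∈ T) : x * z = z * x := mem_Cs.1 h.zc x hx

theorem V2 (h : VV T P d s z v) : ∀ u ∈ F4 z v, u * u = 1 := fun u hu => by
  rcases h.mem4.1 hu with e | e | e | e <;> rw [e]
  · simp
  · exact h.z2
  · exact h.v2
  · calc z * v * (z * v) = z * (v * z) * v := by group
      _ = (z * z) * (v * v) := by rw [← h.zv]; group
      _ = 1 := by rw [h.z2, h.v2, mul_one]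

theorem tp (h : VV T P d s z v) (h1 : a ∈ P) (h2 : a ∉ F4 z v) (h3 : a * a ∈ F4 z v)
    (h4 : ∀ p ∈ P, ⁅p, a⁆ ∈ F4 z v)
    (h5 : a * (d * a * d⁻¹) * (d * (d * a * d⁻¹) * d⁻¹) ∈ F4 z v) : Tp P (F4 z v) d a :=
  ⟨h.le4.trans inf_le_left, Vc h, V2 h, h.dN, h.d4, fun _ hx => h.toTri.ddd hx,
    fun _ hu e => h.fix4 hu e, h1, h2, h3, h4, h5⟩

omit [Finite G] in
theorem zV (z v : G) : z ∈ F4 z v := mem_sup_left (mem_zpowers z)

omit [Finite G] in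
theorem vV (z v : G) : v ∈ F4 z v := mem_sup_right (mem_zpowers v)

omit [Finite G] in
theorem wW (z v w : G) : w ∈ F8 z v w := mem_sup_right (mem_zpowers w)

/-- Rewriting rules for words in `z, v, w`. -/
theorem nf (h : W8 T P₁ P₂ d₁ s₁ d₂ s₂ z v w) :
    v * z = z * v ∧ w * z = z * w ∧ w * v = v * w ∧ z * z = 1 ∧ v * v = 1 ∧ w * w = 1 ∧
      z⁻¹ = z ∧ v⁻¹ = v ∧ w⁻¹ = w ∧ ∀ x, v * (z * x) = z * (v * x) ∧ w * (z * x) = z * (w * x) ∧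
        w * (v * x) = v * (w * x) ∧ z * (z * x) = x ∧ v * (v * x) = x ∧ w * (w * x) = x := by
  refine ⟨h.vv.zv.symm, h.zw.symm, h.vw.symm, h.vv.z2, h.vv.v2, h.w2,
    inv_eq_of_mul_eq_one_right h.vv.z2, inv_eq_of_mul_eq_one_right h.vv.v2,
    inv_eq_of_mul_eq_one_right h.w2, fun x => ?_⟩
  simp only [← mul_assoc, h.vv.zv, h.zw, h.vw, h.vv.z2, h.vv.v2, h.w2, one_mul, and_self]

theorem W_le (h : W8 T P₁ P₂ d₁ s₁ d₂ s₂ z v w) : F8 z v w ≤ T ⊓ Cs (F8 z v w) := fun _ hx =>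
  ⟨h.vv.le (h.le8 hx).1, mem_Cs.2 fun _ hu => comm_of_sq h.sq8 hu hx⟩

theorem memC₁ (h : W8 T P₁ P₂ d₁ s₁ d₂ s₂ z v w) (hx : x ∈ P₁) (e : x * w = w * x) :
    x ∈ T ⊓ Cs (F8 z v w) :=
  ⟨h.vv.le hx, h.memC.2 ⟨Vc h.vv _ (zV z v) x hx, Vc h.vv _ (vV z v) x hx, e⟩⟩

theorem sq_memC (h : W8 T P₁ P₂ d₁ s₁ d₂ s₂ z v w) (hx : x ∈ P₁) :
    x * x ∈ T ⊓ Cs (F8 z v w) := by
  refine memC₁ h (mul_mem hx hx) ?_
  have h1 := h.act (h.vv.le hx)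
  have h2 : x * w = ⁅x, w⁆ * w * x := by rw [commutatorElement_def]; group
  calc x * x * w = x * (x * w) := by group
    _ = (x * ⁅x, w⁆) * w * x := by conv_lhs => rw [h2]
                                   group
    _ = ⁅x, w⁆ * (x * w) * x := by rw [Vc h.vv _ h1 x hx]; group
    _ = (⁅x, w⁆ * ⁅x, w⁆) * (w * (x * x)) := by conv_lhs => rw [h2]
                                                group
    _ = _ := by rw [V2 h.vv _ h1, one_mul]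

theorem sqP (h : W8 T P₁ P₂ d₁ s₁ d₂ s₂ z v w) (h2 : T ⊓ Cs (F8 z v w) ≤ F8 z v w) (hx : x ∈ P₁) :
    x * x ∈ F4 z v := by
  rcases h.mem8.1 (h2 (sq_memC h hx)) with e | e
  · exact e
  · have h3 := Vc h.vv _ e x hx
    rw [h.sq8 x (h2 (memC₁ h hx (mul_right_cancel (b := x * x) (by
      rw [mul_assoc, h3]; group))))]
    exact one_mem _

omit [Finite G] in
theorem dw' (h : W8 T P₁ P₂ d₁ s₁ d₂ s₂ z v w) :
    ∃ ε, (ε = 1 ∨ ε = z) ∧ d₂ * w * d₂⁻¹ = ε * (v * w) := by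
  rcases h.dw with e | e
  exacts [⟨1, .inl rfl, by rw [e, one_mul]⟩, ⟨z, .inr rfl, e⟩]

theorem third (h : W8 T P₁ P₂ d₁ s₁ d₂ s₂ z v w) (m2 : x ∈ P₂) (c2 : x ∉ Cs (F8 z v w))
    (e2 : x * (d₂ * w * d₂⁻¹) = d₂ * w * d₂⁻¹ * x) : x ∉ P₁ ∧ x * w * x⁻¹ = z * w := by
  replace e2 : x * (v * w) = v * w * x := by
    rcases h.dw with e | e <;> rw [e] at e2
    · exact e2
    · rw [← mul_assoc, zc h.vv (h.tri.le m2), mul_assoc, mul_assoc] at e2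
      exact mul_left_cancel e2
  have p2 : x ∉ P₁ := fun e => c2 (memC₁ h e (mul_left_cancel (a := v) (by
    rw [← mul_assoc, ← Vc h.vv _ (vV z v) _ e, mul_assoc, e2, mul_assoc]))).2
  refine ⟨p2, ?_⟩
  rcases (h.memP₂ (h.tri.le m2)).1 m2 with e | e
  · refine absurd ((h.vv.memP (h.tri.le m2)).2 (mul_right_cancel (b := w) ?_)) p2
    rw [mul_assoc, e2, mul_assoc, mul_assoc, commutatorElement_eq_one_iff_mul_comm.1 e]
  · rw [← e, commutatorElement_def]; group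

omit [Finite G] in
theorem cj_comm (d : G) (e : x * y = y * x) :
    d * x * d⁻¹ * (d * y * d⁻¹) = d * y * d⁻¹ * (d * x * d⁻¹) := by
  calc _ = d * (x * y) * d⁻¹ := by group
    _ = _ := by rw [e]; group

omit [Finite G] in
theorem cj_not {H : Subgroup G} (h : d ∈ Ns H) (hx : x ∉ H) : d * x * d⁻¹ ∉ H := fun e =>
  hx (by simpa [mul_assoc] using mem_normalizer_conj' h e)

theorem exists_f (h : W8 T P₁ P₂ d₁ s₁ d₂ s₂ z v w) (h2 : T ⊓ Cs (F8 z v w) ≤ F8 z v w) :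
    ∃ f ∈ T, f ∉ P₁ ∧ f * f ∈ F4 z v := by
  obtain ⟨f₀, m0, e0, e0'⟩ := h.ex
  obtain ⟨ε, hε, dw⟩ := dw' h
  have N := nf h
  have p0 : f₀ ∈ P₁ := (h.vv.memP (h.tri.le m0)).2 e0
  have dC := mem_Ns_Cs h.d8
  have c0 : f₀ ∉ Cs (F8 z v w) := fun e => h.vv.z1 (by
    rw [(h.memC.1 e).2.2, mul_inv_cancel_right] at e0'
    exact mul_eq_right.1 e0'.symm)
  have cq : ∀ x δ y, (δ = 1 ∨ δ = z) → x * x = δ * y →
      d₂ * x * d₂⁻¹ * (d₂ * x * d₂⁻¹) = δ * (d₂ * y * d₂⁻¹) := fun x δ y hδ e => by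
    calc _ = d₂ * (x * x) * d₂⁻¹ := by group
      _ = d₂ * δ * d₂⁻¹ * (d₂ * y * d₂⁻¹) := by rw [e]; group
      _ = _ := by rcases hδ with e | e <;> simp [e, h.dz]
  have m1 := mem_normalizer_conj h.tri.dN m0
  have c1 := cj_not dC c0
  have e1 := cj_comm d₂ e0
  have q1 := cq f₀
  rw [h.dv] at e1
  generalize d₂ * f₀ * d₂⁻¹ = f₁ at m1 c1 e1 q1
  have p1 : f₁ ∉ P₁ := fun e => c1 (memC₁ h e e1).2
  refine ⟨f₁, h.tri.le m1, p1, ?_⟩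
  by_contra hn
  obtain ⟨ε₀, hε₀, q0⟩ : ∃ ε₀, (ε₀ = 1 ∨ ε₀ = z) ∧ f₀ * f₀ = ε₀ * v := by
    rcases h.vv.mem4.1 (sqP h h2 p0) with e | e | e | e
    · exact absurd (by rw [q1 1 1 (.inl rfl) (by simp [e])]; simp) hn
    · exact absurd (by rw [q1 z 1 (.inr rfl) (by simp [e])]; simpa using zV z v) hn
    · exact ⟨1, .inl rfl, by simp [e]⟩
    · exact ⟨z, .inr rfl, e⟩
  replace q1 := q1 _ _ hε₀ q0
  rw [h.dv] at q1
  have m2 := mem_normalizer_conj h.tri.dN m1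
  obtain ⟨p2, w2⟩ := third h m2 (cj_not dC c1) (cj_comm d₂ e1)
  have q2 := cq f₁ _ _ hε₀ q1
  rw [dw] at q2
  generalize d₂ * f₁ * d₂⁻¹ = f₂ at m2 p2 w2 q2
  have zT : ∀ δ, (δ = 1 ∨ δ = z) → ∀ x ∈ T, x * δ = δ * x := fun δ hδ x hx => by
    rcases hδ with e | e <;> simp [e, zc h.vv hx]
  have yW : f₂⁻¹ * (f₀ * f₁) ∈ F8 z v w := by
    refine h2 (memC₁ h (h.vv.idx2 _ (inv_mem (h.tri.le m2)) _ (h.tri.le (mul_mem m0 m1))
      (by rwa [inv_mem_iff]) (by rwa [mul_mem_cancel_left p0])) ?_)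
    calc f₂⁻¹ * (f₀ * f₁) * w = f₂⁻¹ * f₀ * (f₁ * w) := by group
      _ = f₂⁻¹ * (f₀ * w * f₀⁻¹) * (f₀ * f₁) := by rw [e1]; group
      _ = _ := by rw [e0', ← w2]; group
  generalize hy : f₂⁻¹ * (f₀ * f₁) = y at yW
  have hδ := h.actP₂ m2 yW
  have uW : ε₀ * (ε * (v * w)) ∈ F8 z v w := by
    have : ∀ δ, (δ = 1 ∨ δ = z) → δ ∈ F8 z v w := fun δ hδ => by
      rcases hδ with e | e <;> rw [e]
      exacts [one_mem _, mem_sup_left (zV z v)]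
    exact mul_mem (this _ hε₀) (mul_mem (this _ hε) (mul_mem (mem_sup_left (vV z v)) (wW z v w)))
  have hk : f₀⁻¹ * f₁ * f₀ * f₁⁻¹ =
      (ε₀ * v)⁻¹ * (⁅f₂, y⁆ * (ε₀ * (ε * (v * w)))) * (ε₀ * w)⁻¹ := by
    calc _ = (f₀ * f₀)⁻¹ * (⁅f₂, y⁆ * (y * (f₂ * f₂)) * y) * (f₁ * f₁)⁻¹ := by
          rw [← hy, commutatorElement_def]; group
      _ = _ := by rw [q0, q1, q2, comm_of_sq h.sq8 yW uW, mul_assoc ⁅f₂, y⁆, mul_assoc _ y,
          h.sq8 y yW, mul_one]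
  have hκ : f₀⁻¹ * f₁ * f₀ * f₁⁻¹ = 1 ∨ f₀⁻¹ * f₁ * f₀ * f₁⁻¹ = z := by
    rw [hk]
    rcases hδ with e1 | e1 <;> rcases hε with e2 | e2 <;> rcases hε₀ with e3 | e3 <;>
      simp only [e1, e2, e3, mul_assoc, mul_inv_rev, N, one_mul, mul_one, true_or, or_true]
  generalize hκ' : f₀⁻¹ * f₁ * f₀ * f₁⁻¹ = κ at hκ
  have k2 : κ * κ = 1 := by rcases hκ with e | e <;> simp [e, h.vv.z2]
  have k3 : f₁ * (f₀ * f₀) * f₁⁻¹ = f₀ * f₀ := by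
    calc _ = f₀ * (κ * f₀) * κ := by rw [← hκ']; group
      _ = f₀ * f₀ * (κ * κ) := by rw [← zT κ hκ _ (h.tri.le m0)]; group
      _ = _ := by rw [k2, mul_one]
  rw [q0, ← mul_assoc, zT ε₀ hε₀ _ (h.tri.le m1), mul_assoc, mul_assoc, mul_right_inj,
    ← mul_assoc, h.vv.out (h.tri.le m1) p1] at k3
  exact h.vv.z1 (mul_eq_right.1 k3)

omit [Finite G] in
theorem nrm_of (h : VV T P d s z v) {A : Subgroup G} (h1 : P ≤ Ns A) (h2 : s ∈ Ns A) :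
    T ≤ Ns A := fun x hx => by
  rcases h.idx x hx (h.nS hx) with e | e
  · exact h1 e
  · simpa using mul_mem (h1 e) (inv_mem h2)

/-- The abelian subgroup of order sixteen when `C_S(W) = W`. -/
theorem c0w_core (h0 : ¬ GV T) (h : W8 T P₁ P₂ d₁ s₁ d₂ s₂ z v w)
    (h2 : T ⊓ Cs (F8 z v w) ≤ F8 z v w) :
    ∃ A, TA P₁ (F4 z v) A d₁ ∧ Nat.card A = 16 ∧ Nat.card P₁ = 32 ∧ Nat.card T = 64 ∧ T ≤ Ns A ∧
      (∀ x ∈ T, x * x ∈ A) ∧ ¬ P₁ ≤ Cs A ∧ ∀ a ∈ A, a ∈ Cs T → a = 1 ∨ a = z := by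
  have k := h.vv
  have c1 : Nat.card P₁ = 32 := by rw [h.cardP₁, le_antisymm h2 (W_le h), h.card8]
  have ea : EA (F4 z v) P₁ := ⟨k.le4.trans inf_le_left, fun x hx => sqP h h2 hx,
    fun x hx u hu => mem_normalizer_conj (k.n4 (k.le hx)) hu⟩
  obtain ⟨p, hp, hpV⟩ : ∃ p ∈ P₁, d₁ * p * d₁⁻¹ * p⁻¹ ∉ F4 z v := by
    by_contra hn
    push Not at hn
    exact h0 ⟨_, _, _, _, k.toTri, ⟨ea.le, k.d4, hn⟩, k.card4⟩
  have m1 := mem_normalizer_conj k.dN hp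
  have m2 := mem_normalizer_conj k.dN m1
  have ma := mul_mem m1 (inv_mem hp)
  obtain ⟨A, aA, hA⟩ := (tp k ma hpV (ea.sq _ ma) (fun q hq => ea.comm hq ma) (by
    have := mul_mem (ea.comm m1 (mul_mem (inv_mem hp) m2)) (ea.comm (inv_mem hp) m2)
    have e : d₁ * (d₁ * (d₁ * p * d₁⁻¹ * p⁻¹) * d₁⁻¹) * d₁⁻¹ =
        d₁ * (d₁ * (d₁ * p * d₁⁻¹) * d₁⁻¹) * d₁⁻¹ * (d₁ * (d₁ * p * d₁⁻¹) * d₁⁻¹)⁻¹ := by group
    rw [e, k.toTri.ddd hp]
    convert this using 1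
    simp only [commutatorElement_def]; group)).exists_A
  have c2 : Nat.card A = 16 := by rw [hA.card, k.card4]
  have i2 := idx_of_card hA.AP (by rw [c1, c2])
  have nA : T ≤ Ns A := by
    refine nrm_of k hA.nrm (mem_normalizer_fintype fun x hx => (hA.irr
      (P₁ ⊓ A.comap (MulAut.conj s₁).toMonoidHom) (fun u hu => ⟨ea.le hu,
        hA.VA (mem_normalizer_conj (k.n4 k.sS) hu)⟩) (fun y hy => ⟨mem_normalizer_conj k.dN hy.1, ?_⟩)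
      _ aA hpV ⟨ma, ?_⟩ hx).2)
    · change s₁ * (d₁ * y * d₁⁻¹) * s₁⁻¹ ∈ A
      rw [k.toTri.sd hy.1]
      exact mem_normalizer_conj' hA.dA hy.2
    · change s₁ * (d₁ * p * d₁⁻¹ * p⁻¹) * s₁⁻¹ ∈ A
      have := comm_of_idx i2 (inv_mem hA.dA) (inv_mem k.dN) _ (mem_normalizer_conj k.sN hp)
      rw [commutatorElement_def, inv_inv, ← k.toTri.sd hp] at this
      convert this using 1
      group
  have nc : ¬ P₁ ≤ Cs A := fun hc => by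
    obtain ⟨q, hq, e⟩ := h.onto (zV z v)
    refine k.z1 (e ▸ commutatorElement_eq_one_iff_mul_comm.2 ?_)
    by_cases h3 : w ∈ A
    · exact (mem_Cs.1 (hc hq) w h3).symm
    by_cases h4 : q ∈ A
    · exact mem_Cs.1 (hc h.wP₁) q h4
    have := mem_Cs.1 (hc h.wP₁) _ (i2 q hq w h.wP₁ h4 h3)
    exact mul_right_cancel (this.trans (mul_assoc _ _ _).symm)
  refine ⟨A, hA, c2, c1, by rw [k.card, c1], nA, fun x hx => ?_, nc, fun a ha hc => ?_⟩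
  · by_cases hP : x ∈ P₁
    · exact hA.VA (ea.sq x hP)
    obtain ⟨f, hf, fP, f2⟩ := exists_f h h2
    have m := k.idx2 x hx _ (inv_mem hf) hP (by rwa [inv_mem_iff])
    have := mul_mem (mul_mem (mem_normalizer_conj (hA.nrm m)
      (comm_of_idx i2 (nA hf) (k.nS hf) _ m)) (hA.VA (ea.sq _ m))) (hA.VA f2)
    convert this using 1
    simp only [commutatorElement_def]; group
  · by_cases hV : a ∈ F4 z v
    · exact h.cen (mem_sup_left hV) hc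
    refine absurd (fun q hq => mem_Cs.2 fun b hb => ?_) nc
    exact (mem_Cs.1 (hA.irr (Cs P₁) (k.le4.trans inf_le_right)
      (fun y hy => mem_normalizer_conj (mem_Ns_Cs k.dN) hy) a ha hV
      (mem_Cs.2 fun y hy => mem_Cs.1 hc y (k.le hy)) hb) q hq).symm

end Cfsg.Lib.GHM.C0
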