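import Cfsg.Agent.GHM.Basic
import Cfsg.Agent.GHB.Invol
import Cfsg.Agent.CIT.Basic

/-!
# Simple groups of sectional 2-rank at most four: an essential subgroup with `P / Φ(P)` of order
sixteen is normal in the Sylow 2-subgroup
-/

set_option autoImplicit false

namespace Cfsg.Lib.GHM

open Subgroup Cfsg.Lib.Trans Cfsg.Lib.Gold Cfsg.Lib.Rank2 Cfsg.Lib.Local
open scoped commutatorElement

universe u

variable {G : Type u} [Group G] {S : Sylow 2 G} {T P M Z U E P' E' : Subgroup G}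
  {a g p t e u x z : G}

namespace PzN

/-- The elements normalising `Z` and centralising `x` modulo `Z`. -/
def Cg (Z : Subgroup G) (x : G) : Subgroup G where
  carrier := {g | g ∈ Ns Z ∧ ⁅g, x⁆ ∈ Z}
  one_mem' := ⟨one_mem _, by simp⟩
  mul_mem' := fun {a b} ha hb => ⟨mul_mem ha.1 hb.1, by
    rw [show ⁅a * b, x⁆ = a * ⁅b, x⁆ * a⁻¹ * ⁅a, x⁆ by simp only [commutatorElement_def]; group]
    exact mul_mem (mem_normalizer_conj ha.1 hb.2) ha.2⟩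
  inv_mem' := fun {a} ha => ⟨inv_mem ha.1, by
    rw [show ⁅a⁻¹, x⁆ = a⁻¹ * ⁅a, x⁆⁻¹ * a by simp only [commutatorElement_def]; group]
    exact mem_normalizer_conj' ha.1 (inv_mem ha.2)⟩

theorem Cg_symm (h : g ∈ Cg Z x) (hx : x ∈ Ns Z) : x ∈ Cg Z g :=
  ⟨hx, by rw [← commutatorElement_inv]; exact inv_mem h.2⟩

theorem conj_comm (g a b : G) : ⁅g * a * g⁻¹, b⁆ = g * ⁅a, g⁻¹ * b * g⁆ * g⁻¹ := by
  simp only [commutatorElement_def]; group

theorem card_idx (h : IdxLeTwo M T) : Nat.card T ≤ 2 * Nat.card ↥(M ⊓ T) := by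
  rw [← card_mul_relIndex (inf_le_right : M ⊓ T ≤ T), inf_relIndex_right, mul_comm]
  rcases h.le_or_relIndex with h | h
  · rw [relIndex_eq_one.2 h]; omega
  · rw [h]

theorem idx_cj (h : IdxLeTwo M T) (x : G) : IdxLeTwo (cj x M) (cj x T) := fun a ha b hb h1 h2 => by
  rw [mem_cj] at *
  simpa [mul_assoc] using h _ ha _ hb h1 h2

theorem idx_sup (hP : P ≤ U) (hsq : ∀ p ∈ P, p * p ∈ Z) (hZ : Z ≤ P) (i1 : IdxLeTwo E' U)
    (i2 : IdxLeTwo P' E') (i3 : ∀ g ∈ U, g ∉ E' → g * g ∉ P') : IdxLeTwo (P ⊓ P' ⊔ Z) P := by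
  have key : ∀ p ∈ P, p ∉ E' → ∀ q ∈ P, q ∈ E' → q ∈ P ⊓ P' ⊔ Z := fun p hp h1 q hq h2 => by
    by_cases h3 : q ∈ P'
    · exact mem_sup_left ⟨hq, h3⟩
    · have := mul_mem_sup (S := P ⊓ P') ⟨mul_mem hq (mul_mem hp hp),
        i2 _ h2 _ (i1.mul_self_mem (hP hp)) h3 (i3 _ (hP hp) h1)⟩ (inv_mem (hsq p hp))
      rwa [mul_inv_cancel_right] at this
  intro p hp q hq h1 h2
  by_cases h3 : p ∈ E' <;> by_cases h4 : q ∈ E'
  · exact mem_sup_left ⟨mul_mem hp hq, i2 _ h3 _ h4 (fun h => h1 (mem_sup_left ⟨hp, h⟩))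
      fun h => h2 (mem_sup_left ⟨hq, h⟩)⟩
  · exact (h1 (key q hq h4 p hp h3)).elim
  · exact (h2 (key p hp h3 q hq h4)).elim
  · exact key p hp h3 _ (mul_mem hp hq) (i1 _ (hP hp) _ (hP hq) h3 h4)

variable (h : Pz T P M Z t e)
include h

theorem PM : P ≤ M := le_sup_left.trans h.KM

theorem ZP : Z ≤ P := h.eq ▸ GHB.Phi_le

theorem sq (hp : p ∈ P) : p * p ∈ Z := h.eq ▸ GHB.sq_mem_Phi hp

theorem NZ : Ns P ≤ Ns Z := fun g hg => by
  rw [mem_Ns_iff, h.eq, ← cj_def, GHB.map_Phi, cj_def, mem_Ns_iff.1 hg]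

theorem cZ (hp : p ∈ P) (hz : z ∈ Z) : z * p = p * z := mem_Cs.1 (h.MZ (PM h hp)) z hz

theorem comm (hp : p ∈ P) (hx : x ∈ P) : ⁅p, x⁆ ∈ Z :=
  GHB.EA.comm ⟨ZP h, fun _ => sq h, fun _ hx _ hk => mem_normalizer_conj (NZ h (le_normalizer hx)) hk⟩
    hp hx

theorem KC (hp : p ∈ P) : Kn P ≤ Cg Z p :=
  sup_le (fun _ hq => ⟨NZ h (le_normalizer hq), comm h hq hp⟩) fun c hc =>
    ⟨NZ h (centralizer_le_normalizer _ hc), by
      rw [commutatorElement_eq_one_iff_mul_comm.2 (mem_Cs.1 hc p hp).symm]; exact one_mem _⟩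

theorem e15 : e ^ 15 ∈ Kn P := by
  rcases h.idx with h1 | ⟨-, h1⟩
  · have : ((Kn P).subgroupOf M).Normal := normal_subgroupOf_of_le_normalizer fun g hg =>
      mem_Ns_sup (h.MN hg) (mem_Ns_Cs (h.MN hg))
    have h2 : e ^ 5 ∈ Kn P := by
      have := pow_index_mem ((Kn P).subgroupOf M) ⟨e, h.eM⟩
      rwa [show ((Kn P).subgroupOf M).index = 5 from h1] at this
    exact (pow_mul e 5 3).symm ▸ pow_mem h2 3
  · exact (pow_mul e 3 5).symm ▸ pow_mem (h1 e h.eM) 5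

theorem memE : x ∈ P ⊔ zpowers t ↔ x ∈ P ∨ x * t ∈ P := by
  rw [GHB.mem_adj (fun _ => mem_normalizer_conj h.tN) h.t2]
  refine or_congr_right ⟨fun h1 => ?_, fun h1 => ?_⟩
  · simpa [mul_assoc] using mul_mem (mem_normalizer_conj h.tN h1) h.t2
  · simpa [mul_assoc] using mul_mem (mem_normalizer_conj' h.tN h1) (inv_mem h.t2)

theorem idxE : IdxLeTwo P (P ⊔ zpowers t) := fun a ha b hb h1 h2 => by
  simpa [mul_assoc] using mul_mem (mul_mem (((memE h).1 ha).resolve_left h1)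
    (mem_normalizer_conj' h.tN (((memE h).1 hb).resolve_left h2))) (inv_mem h.t2)

variable [Finite G]

theorem card_C (ha : a ∈ Ns P) (h1 : a * t ∈ P) :
    Nat.card ↥(P ⊓ Cg Z a) ≤ 4 * Nat.card Z := by
  have he := h.MN h.eM
  have h2 : P ⊓ Cg Z a ≤ P ⊓ Cg Z t := fun p hp => ⟨hp.1, Cg_symm (by
    simpa using mul_mem (inv_mem (Cg_symm hp.2 (NZ h ha))) (KC h hp.1 (mem_sup_left h1))) hp.2.1⟩
  have h3 : P ⊓ Cg Z t ⊓ cj e (P ⊓ Cg Z t) ≤ Z := fun p ⟨hp, hp'⟩ => by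
    have h4 := Cg_symm hp.2 (NZ h h.tN)
    have h5 : e * t * e⁻¹ ∈ Cg Z p := ⟨mul_mem (mul_mem (NZ h he) h4.1) (inv_mem (NZ h he)), by
      rw [conj_comm]
      exact mem_normalizer_conj (NZ h he) (Cg_symm (mem_cj.1 hp').2 h4.1).2⟩
    have h6 := mul_mem (mul_mem h5 (inv_mem h4)) (KC h hp.1 (h.inv e h.eM))
    rw [show e * t * e⁻¹ * t⁻¹ * (t * e * t⁻¹ * e) = e ^ 2 by rw [pow_two]; group] at h6
    have h7 := mul_mem (pow_mem h6 8) (inv_mem (KC h hp.1 (e15 h)))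
    rw [show (e ^ 2) ^ 8 * (e ^ 15)⁻¹ = e by group] at h7
    exact h.fpf p hp.1 h7.2
  have h4 := GHB.card_mul_le (B := P) (C₁ := P ⊓ Cg Z t) (C₂ := cj e (P ⊓ Cg Z t)) inf_le_left
    ((cj_mono e inf_le_left).trans (mem_Ns_iff.1 he).le)
  rw [card_cj, h.card] at h4
  refine (Trans.card_le_of_le h2).trans (Nat.mul_self_le_mul_self_iff.1 (h4.trans ?_))
  have := Trans.card_le_of_le h3
  nlinarith

theorem tP : t ∉ P := fun h1 => by
  have h2 := card_C h h.tN h.t2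
  rw [inf_eq_left.2 fun p hp => KC h h1 (mem_sup_left hp), h.card] at h2
  have : 0 < Nat.card Z := Nat.card_pos
  omega

theorem cyc (h2 : R2 T P t ∨ ∃ y, R4 T P t y) : IdxLeTwo (P ⊔ zpowers t) (T ⊓ Ns P) ∧
    ∀ g ∈ T ⊓ Ns P, g ∉ P ⊔ zpowers t → g * g ∉ P := by
  rcases h2 with h2 | ⟨y, h2⟩
  · exact ⟨fun a ha _ _ h1 => (h1 ((memE h).2 (h2 a ha.1 ha.2))).elim,
      fun a ha h1 => (h1 ((memE h).2 (h2 a ha.1 ha.2))).elim⟩
  have key : ∀ g ∈ T ⊓ Ns P, g ∉ P ⊔ zpowers t → g * y ∈ P ∨ g * y⁻¹ ∈ P := fun g hg h1 =>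
    ((h2.cases g hg.1 hg.2).resolve_left fun h3 => h1 ((memE h).2 (.inl h3))).resolve_left
      fun h3 => h1 ((memE h).2 (.inr h3))
  have ht : t ∈ P ⊔ zpowers t := mem_sup_right (mem_zpowers t)
  have hy : y ∈ Ns (P ⊔ zpowers t) := mem_Ns_sup h2.yN (by
    rw [mem_Ns_iff, cj_zpowers, ← h2.y2, mul_assoc y, mul_inv_cancel_right])
  have key' : ∀ g ∈ T ⊓ Ns P, g ∉ P ⊔ zpowers t → g * y ∈ P ⊔ zpowers t := fun g hg h1 =>
    (key g hg h1).elim mem_sup_left fun h3 => by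
      simpa [← h2.y2, mul_assoc] using mul_mem_sup h3 (mem_zpowers t)
  refine ⟨fun a ha b hb h3 h4 => ?_, fun g hg h1 h3 => tP h ?_⟩
  · simpa [← h2.y2, mul_assoc] using mul_mem (mul_mem (key' a ha h3)
      (mem_normalizer_conj' hy (key' b hb h4))) (inv_mem ht)
  · rcases key g hg h1 with h4 | h4
    · simpa [← h2.y2, mul_assoc] using
        mul_mem (inv_mem h3) (mul_mem h4 (mem_normalizer_conj' h2.yN h4))
    · simpa [← h2.y2, mul_assoc] using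
        mul_mem (inv_mem (mul_mem h4 (mem_normalizer_conj h2.yN h4))) h3

theorem le_zpowers (hz : z ∈ Z) (hU : T ⊓ Ns P ≤ C1 z) (hu : u ∈ P) (huZ : u ∉ Z)
    (h1 : ∀ p ∈ P, ⁅u, p⁆ ∈ zpowers z) : Z ≤ zpowers z := by
  have hM : M ≤ C1 z := fun m hm => mem_C1.2 (mem_Cs.1 (h.MZ hm) z hz).symm
  have hW : C1 z ≤ Ns (zpowers z) := fun g hg => by
    rw [mem_Ns_iff, cj_zpowers, mem_C1.1 hg, mul_inv_cancel_right]
  have irr : ∀ H, Z ≤ H → H ≤ P → (∀ g ∈ Ns P, g ∈ C1 z → ∀ p ∈ H, g * p * g⁻¹ ∈ H) →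
      ∀ p ∈ H, p ∉ Z → H = P := fun H h2 h3 h4 p hp hpZ =>
    (h.irr H h2 h3 (fun g hg => mem_normalizer_of_cj_le (cj_le_iff.2 (h4 g (h.MN hg) (hM hg))))
      fun g hg => mem_normalizer_of_cj_le (cj_le_iff.2 (h4 g hg.2 (hU hg)))).resolve_left
        fun e => hpZ (e ▸ hp)
  have mI : ∀ {p}, p ∈ P ⊓ ⨅ q ∈ P, Cg (zpowers z) q ↔ p ∈ P ∧ ∀ q ∈ P, ⁅p, q⁆ ∈ zpowers z :=
    ⟨fun hp => ⟨hp.1, fun q hq => (mem_iInf.1 (mem_iInf.1 hp.2 q) hq).2⟩, fun hp => ⟨hp.1,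
      mem_iInf.2 fun q => mem_iInf.2 fun hq => ⟨hW (hM (PM h hp.1)), hp.2 q hq⟩⟩⟩
  have hI := irr (P ⊓ ⨅ q ∈ P, Cg (zpowers z) q) (fun c hc => mI.2 ⟨ZP h hc, fun q hq => by
      rw [commutatorElement_eq_one_iff_mul_comm.2 (cZ h hq hc)]; exact one_mem _⟩) inf_le_left
    (fun g hg hg' p hp => mI.2 ⟨mem_normalizer_conj hg hp.1, fun q hq => by
      rw [conj_comm]
      exact mem_normalizer_conj (hW hg') ((mI.1 hp).2 _ (mem_normalizer_conj' hg hq))⟩)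
    u (mI.2 ⟨hu, h1⟩) huZ
  let J : Subgroup G :=
    { carrier := {p | p ∈ P ∧ p * p ∈ zpowers z}
      one_mem' := ⟨one_mem _, by simp⟩
      mul_mem' := fun {a b} ha hb => ⟨mul_mem ha.1 hb.1, by
        rw [show a * b * (a * b) = a * a * ⁅a⁻¹, b⁆ * (b * b) by
          simp only [commutatorElement_def]; group]
        exact mul_mem (mul_mem ha.2 ((mI.1 (hI.ge (inv_mem ha.1))).2 b hb.1)) hb.2⟩
      inv_mem' := fun {a} ha => ⟨inv_mem ha.1, by simpa using inv_mem ha.2⟩ }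
  have he := h.MN h.eM
  have hJ := irr J (fun c hc => ⟨ZP h hc, by rw [h.Z2 c hc]; exact one_mem _⟩) (fun _ hp => hp.1)
    (fun g hg hg' p hp => ⟨mem_normalizer_conj hg hp.1, by
      simpa [mul_assoc] using mem_normalizer_conj (hW hg') hp.2⟩) ⁅e, u⁆
    ⟨mul_mem (mem_normalizer_conj he hu) (inv_mem hu), by
      have h2 := (mI.1 (hI.ge (inv_mem (mem_normalizer_conj he hu)))).2 _ (inv_mem hu)
      have h3 := mem_Cs.1 (h.MZ h.eM) _ (sq h hu)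
      have h4 : ⁅e, u⁆ * ⁅e, u⁆ = u * u * ⁅(e * u * e⁻¹)⁻¹, u⁻¹⁆ * (u * u)⁻¹ := by
        calc _ = e * (u * u) * e⁻¹ * ⁅(e * u * e⁻¹)⁻¹, u⁻¹⁆ * (u * u)⁻¹ := by
              simp only [commutatorElement_def]; group
          _ = _ := by rw [← h3, mul_inv_cancel_right]
      rw [h4]
      exact mem_normalizer_conj (hW (hM (PM h (mul_mem hu hu)))) h2⟩
    fun h2 => huZ (h.fpf u hu h2)
  exact h.eq.le.trans (GHB.Phi_le_iff.2 fun p hp => (hJ.ge hp).2)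

end PzN

open PzN

variable [Finite G]

theorem Pz.normal (h1 : Pz (S : Subgroup G) P M Z t e)
    (h2 : R2 (S : Subgroup G) P t ∨ ∃ y, R4 (S : Subgroup G) P t y) :
    (S : Subgroup G) ≤ Ns P := by
  by_contra hn
  obtain ⟨i1, i3⟩ := cyc h1 h2
  set U := (S : Subgroup G) ⊓ Ns P
  have pU : IsPGroup 2 U := S.isPGroup'.to_le inf_le_left
  obtain ⟨x, ⟨hxS, hxN⟩, hxU⟩ := SetLike.exists_of_lt (lt_inf_normalizer S.isPGroup'
    (lt_of_le_of_ne (inf_le_left : U ≤ S) fun e => hn (e.ge.trans inf_le_right)))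
  have hx : cj x U = U := mem_Ns_iff.1 hxN
  have hPU : P ≤ U := le_inf h1.le le_normalizer
  have hP'U : cj x P ≤ U := (cj_mono x hPU).trans hx.le
  have hUZ : U ≤ Ns Z := inf_le_right.trans (NZ h1)
  have hUZ' : U ≤ Ns (cj x Z) := by rw [← cj_Ns, ← hx]; exact cj_mono x hUZ
  obtain ⟨t', ht', ht⟩ : ∃ t' ∈ cj x P, t' * t ∈ P := by
    obtain ⟨a, ha, haP⟩ := SetLike.not_le_iff_exists.1
      fun h : cj x P ≤ P => hxU ⟨hxS, mem_normalizer_of_cj_le h⟩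
    by_cases h3 : a ∈ P ⊔ zpowers t
    · exact ⟨a, ha, ((memE h1).1 h3).resolve_left haP⟩
    · exact ⟨_, mul_mem ha ha, ((memE h1).1 (i1.mul_self_mem (hP'U ha))).resolve_left
        (i3 a (hP'U ha) h3)⟩
  have hidx : IdxLeTwo (P ⊓ cj x P ⊔ Z) P := idx_sup hPU (fun _ => sq h1) (ZP h1)
    (hx ▸ idx_cj i1 x) (idx_cj (idxE h1) x) fun g hg h3 h4 => by
      rw [mem_cj] at h3 h4
      exact i3 _ (mem_normalizer_conj' hxN hg) h3 (by simpa [mul_assoc] using h4)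
  have hA : ¬ cj x Z ⊓ P ≤ Z := fun hle => by
    have h3 : P ⊓ cj x P ⊔ Z ≤ P ⊓ Cg Z t' := sup_le (fun p hp => ⟨hp.1, hUZ (hPU hp.1), hle
      ⟨mem_cj.2 (by
        have := comm h1 (mem_cj.1 hp.2) (mem_cj.1 ht')
        simpa [commutatorElement_def, mul_assoc] using this), by
        rw [commutatorElement_def, mul_assoc, mul_assoc, ← mul_assoc t']
        exact mul_mem hp.1 (mem_normalizer_conj (hP'U ht').2 (inv_mem hp.1))⟩⟩)
      fun c hc => ⟨ZP h1 hc, le_normalizer hc, by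
        rw [commutatorElement_def, mul_assoc, mul_assoc, ← mul_assoc t']
        exact mul_mem hc (mem_normalizer_conj (hUZ (hP'U ht')) (inv_mem hc))⟩
    have c1 := card_idx hidx
    have c2 := Trans.card_le_of_le ((inf_le_left : _ ⊓ P ≤ _).trans h3)
    have c3 := card_C h1 (hP'U ht').2 ht
    have c4 := h1.card
    have : 0 < Nat.card Z := Nat.card_pos
    omega
  have hUA : U ≤ Ns (cj x Z ⊓ P) := fun g hg => mem_Ns_inf (hUZ' hg) hg.2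
  obtain ⟨u, hu, huZ, -, -, huc⟩ := Solv.PG.exists_step_elt (M := cj x Z ⊓ P ⊓ Z) pU
    (pU.to_le (inf_le_right.trans hPU)) (fun g hg => mem_Ns_inf (hUA hg) (hUZ hg)) hUA
    (inf_lt_left.2 hA)
  replace huZ : u ∉ Z := fun h => huZ ⟨hu, h⟩
  replace huc : ∀ g ∈ U, ⁅g, u⁆ ∈ Z := fun g hg => by
    rw [← commutatorElement_inv]; exact inv_mem (huc g (mem_sup_left hg)).2
  have hcu : P ⊓ cj x P ⊔ Z ≤ C1 u := sup_le (fun p hp => mem_C1.2 (by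
    simpa [← mul_assoc] using congrArg (x * ·) (cZ h1 (mem_cj.1 hp.2) (mem_cj.1 hu.1)).symm))
    fun c hc => mem_C1.2 (cZ h1 hu.2 hc)
  obtain ⟨z, hz, hz1, hz2⟩ : ∃ z ∈ Z, (∀ p ∈ P, ⁅p, u⁆ = 1 ∨ ⁅p, u⁆ = z) ∧
      (z = 1 ∨ ∃ p ∈ P, ⁅p, u⁆ = z) := by
    by_cases h3 : ∀ p ∈ P, ⁅p, u⁆ = 1
    · exact ⟨1, one_mem _, fun p hp => .inl (h3 p hp), .inl rfl⟩
    push Not at h3
    obtain ⟨q, hq, h3⟩ := h3
    refine ⟨_, huc q (hPU hq), fun p hp => or_iff_not_imp_left.2 fun h4 => ?_, .inr ⟨q, hq, rfl⟩⟩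
    have h5 := commutatorElement_eq_one_iff_mul_comm.2 (mem_C1.1 (hcu (hidx p hp q hq
      (fun h => h4 (commutatorElement_eq_one_iff_mul_comm.2 (mem_C1.1 (hcu h))))
      fun h => h3 (commutatorElement_eq_one_iff_mul_comm.2 (mem_C1.1 (hcu h))))))
    rw [show ⁅p * q, u⁆ = p * ⁅q, u⁆ * p⁻¹ * ⁅p, u⁆ by simp only [commutatorElement_def]; group,
      ← cZ h1 hp (huc q (hPU hq)), mul_inv_cancel_right] at h5
    exact mul_left_cancel (h5.trans (h1.Z2 _ (huc q (hPU hq))).symm)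
  have hUz : U ≤ C1 z := fun g hg => mem_C1.2 (by
    rcases hz2 with rfl | ⟨q, hq, rfl⟩
    · simp
    have h3 := mem_normalizer_conj hg.2 hq
    have h4 : g * ⁅q, u⁆ * g⁻¹ = ⁅g * q * g⁻¹, u⁆ := by
      have h5 := cZ h1 h3 (huc g hg)
      have h6 := cZ h1 (comm h1 h3 hu.2 |> ZP h1) (huc g hg)
      calc _ = g * q * g⁻¹ * ⁅g, u⁆ * u * (g * q * g⁻¹)⁻¹ * u⁻¹ * ⁅g, u⁆⁻¹ := by
            simp only [commutatorElement_def]; group
        _ = ⁅g, u⁆ * ⁅g * q * g⁻¹, u⁆ * ⁅g, u⁆⁻¹ := by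
            rw [← h5, commutatorElement_def (g * q * g⁻¹)]; simp only [mul_assoc]
        _ = _ := by rw [h6, mul_inv_cancel_right]
    rcases hz1 _ h3 with h5 | h5
    · rw [← h4, conj_eq_one_iff] at h5
      rw [h5, mul_one, one_mul]
    · exact mul_inv_eq_iff_eq_mul.1 (h4.trans h5))
  have hZ := le_zpowers h1 hz hUz hu.2 huZ fun p hp => by
    rw [← commutatorElement_inv]
    rcases hz1 p hp with h3 | h3 <;> simp [h3]
  have hu1 : u ≠ 1 := fun h => huZ (h ▸ one_mem _)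
  rcases Tl.mem_zpowers_of_sq (h1.Z2 z hz) (hZ (mem_cj.1 hu.1)) with h3 | h3
  · exact hu1 (by simpa [mul_assoc, mul_eq_one_iff_eq_inv] using h3)
  · refine hu1 ?_
    have h4 : z = 1 := hz2.elim id fun ⟨q, hq, e⟩ => by
      have h5 := mem_C1.1 (hUz (mem_normalizer_conj' hxN (hPU hq)))
      rw [← h3] at h5
      rw [← e, commutatorElement_eq_one_iff_mul_comm]
      simpa [← mul_assoc] using congrArg (x * ·) h5
    simpa [h4, mul_assoc, mul_eq_one_iff_eq_inv] using h3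

theorem Pz.one (h : Ctx S) (h1 : Pz (S : Subgroup G) P M ⊥ t e)
    (h2 : R2 (S : Subgroup G) P t ∨ ∃ y, R4 (S : Subgroup G) P t y) : False := by
  have hn := h1.normal h2
  obtain ⟨i1, i3⟩ := cyc h1 h2
  rw [inf_eq_left.2 hn] at i1 i3
  have sq1 : ∀ p ∈ P, p * p = 1 := fun p hp => sq h1 hp
  have ab : ∀ p ∈ P, ∀ q ∈ P, p * q = q * p := fun p hp q hq =>
    commutatorElement_eq_one_iff_mul_comm.1 (comm h1 hp hq)
  have cP : Nat.card P = 16 := by simpa using h1.card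
  have i4 : IdxLeTwo P S := by
    have hE := h.foc i1 (alp (· ∈ P ⊔ zpowers t) fun Q hQ x hx a ha haE => by
      by_contra h3
      have h4 := mem_normalizer_conj hx ha
      have key : ∀ p ∈ P, x * p * x⁻¹ ∈ (S : Subgroup G) → x * p * x⁻¹ ∈ P ⊔ zpowers t :=
        fun p hp hS => by_contra fun h5 => i3 _ hS h5 (by simp [mul_assoc, ← mul_assoc p, sq1 p hp])
      by_cases h5 : a ∈ P
      · exact h3 (key a h5 (hQ h4))
      have h6 := key _ (idxE h1 _ haE _ (i1.mul_self_mem (hQ h4)) h5 (i3 _ (hQ h4) h3))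
        (hQ (mem_normalizer_conj hx (mul_mem ha (mul_mem h4 h4))))
      have h7 := mul_mem h6 (inv_mem (i1.mul_self_mem (hQ (mem_normalizer_conj hx h4))))
      exact h3 (by simpa [mul_assoc] using h7))
    exact fun a ha b hb => idxE h1 a (hE ha) b (hE hb)
  have cC : ∀ a ∈ (S : Subgroup G), a ∉ P → Nat.card ↥(C1 a ⊓ P) ≤ 4 := fun a ha haP => by
    have := card_C h1 (hn ha) (i4 a ha t h1.tS haP (tP h1))
    rw [card_bot] at this
    exact (Trans.card_le_of_le (T := C1 a ⊓ P) (U := P ⊓ Cg ⊥ a) fun p hp =>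
      ⟨hp.2, (normalizer_eq_top _).ge trivial,
      commutatorElement_eq_one_iff_mul_comm.2 (mem_C1.1 hp.1)⟩).trans this
  obtain ⟨b, hb, s2⟩ := (GHB.EA.bot sq1).adjust (fun _ => mem_normalizer_conj h1.tN) h1.t2 h1.card
    ((Trans.card_le_of_le (U := C1 t ⊓ P) fun p hp =>
      ⟨mem_C1.2 (GHB.mem_Cm_bot.1 hp).2.symm, hp.1⟩).trans
      ((cC t h1.tS (tP h1)).trans (by rw [card_bot])))
  have sS : b * t ∈ (S : Subgroup G) := mul_mem (h1.le hb) h1.tS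
  have sP : b * t ∉ P := fun h3 => tP h1 (by simpa using mul_mem (inv_mem hb) h3)
  replace s2 : b * t * (b * t) = 1 := s2
  generalize b * t = s at s2 sS sP
  have si : s⁻¹ = s := inv_eq_of_mul_eq_one_right s2
  have k1 : ∀ x ∈ (S : Subgroup G), x ∉ P → x * x = 1 → x * s = s * x := fun x hx h3 h4 => by
    rw [eq_inv_of_mul_eq_one_left (sq1 _ (i4 x hx s sS h3 sP)), mul_inv_rev, si,
      inv_eq_of_mul_eq_one_right h4]
  have k2 : ∀ x ∈ (S : Subgroup G), x ∉ P → ∀ y ∈ (S : Subgroup G), y ∉ P → ∀ p ∈ P,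
      p * x = x * p → p * y = y * p := fun x hx h3 y hy h4 p hp h5 => by
    have := ab p hp _ (i4 x hx y hy h3 h4)
    rw [← mul_assoc, h5, mul_assoc, mul_assoc] at this
    exact mul_left_cancel this
  have cm : ∀ p ∈ P, ⁅p, s⁆ ∈ C1 s ⊓ P := fun p hp => by
    have h3 := mem_normalizer_conj (hn sS) (inv_mem hp)
    refine ⟨mem_C1.2 ?_, by simpa [commutatorElement_def, mul_assoc] using mul_mem hp h3⟩
    calc ⁅p, s⁆ * s = s * (s * p * s⁻¹ * p⁻¹) := by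
          rw [commutatorElement_def, inv_mul_cancel_right, ← mul_assoc, ← mul_assoc, ← mul_assoc,
            s2, one_mul, si]
      _ = s * ⁅p, s⁆ := by
          rw [ab _ (mem_normalizer_conj (hn sS) hp) _ (inv_mem hp), commutatorElement_def,
            inv_eq_of_mul_eq_one_right (sq1 p hp)]
          simp only [mul_assoc]
  have on : ∀ c ∈ C1 s ⊓ P, ∃ p ∈ P, ⁅p, s⁆ = c := fun c hc =>
    Solv.PG.exists_commutator_eq cm (by have := cC s sS sP; rw [cP]; nlinarith) hc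
  set E := (S : Subgroup G) ⊓ C1 s
  have sE : s ∈ E := ⟨sS, mem_C1.2 rfl⟩
  have mE : C1 s ⊓ P ≤ E := fun p hp => ⟨h1.le hp.2, hp.1⟩
  have e1 : ∀ x ∈ E, x ∉ P → x * s ∈ C1 s ⊓ P := fun x hx h3 =>
    ⟨mul_mem hx.2 sE.2, i4 x hx.1 s sS h3 sP⟩
  have e2 : ∀ x ∈ E, x * x = 1 := fun x hx => by
    by_cases h3 : x ∈ P
    · exact sq1 x h3
    · have := sq1 _ (e1 x hx h3).2
      rwa [mul_assoc, ← mul_assoc s, ← mem_C1.1 hx.2, mul_assoc, s2, mul_one] at this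
  have cen : ∀ p ∈ C1 s ⊓ P, ∀ g ∈ (S : Subgroup G), p * g = g * p := fun p hp g hg => by
    by_cases h3 : g ∈ P
    · exact ab p hp.2 g h3
    · exact k2 s sS sP g hg h3 p hp.2 (mem_C1.1 hp.1)
  have nE : (S : Subgroup G) ≤ Ns E := fun g hg => mem_normalizer_of_cj_le (cj_le_iff.2
    fun x hx => by
      by_cases h3 : x ∈ P
      · rwa [← cen x ⟨hx.2, h3⟩ g hg, mul_inv_cancel_right]
      · have h4 := mul_mem (mul_mem hg hx.1) (inv_mem hg)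
        exact ⟨h4, mem_C1.2 (k1 _ h4 (fun h5 => h3 (by
          simpa [mul_assoc] using mem_normalizer_conj' (hn hg) h5))
            (by simp [mul_assoc, ← mul_assoc x, e2 x hx]))⟩)
  have cE : Nat.card E ≤ 8 := (card_idx (M := P) (T := E) fun a ha b hb => i4 a ha.1 b hb.1).trans (by
    have := (Trans.card_le_of_le (fun p hp => ⟨hp.2.2, hp.1⟩ : P ⊓ E ≤ C1 s ⊓ P)).trans (cC s sS sP)
    omega)
  have sy := isSylowIn_of_le S nE
  obtain ⟨g, -, hg, hgS⟩ := h.tr (M := P) (fun x hx y hy => by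
      rw [commutatorElement_def, mul_assoc, ← mul_inv_rev,
        i4.mul_mem_iff (mul_mem hx hy) (inv_mem (mul_mem hy hx)), inv_mem_iff,
        i4.mul_mem_iff hx hy, i4.mul_mem_iff hy hx]
      exact Iff.comm) s2 fun a ha b hb _ _ => i4 a ha b hb
  replace hgS : cj g E ≤ S := cj_le_iff.2 fun x hx => hgS x hx.1 (mem_C1.1 hx.2)
  by_cases h3 : cj g E ≤ P
  · have h4 := (sy.inf_normal_of_le (le_Ns_Cs le_rfl) (centralizer_le_normalizer _)).card_le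
      (isPGroup_cj (S.isPGroup'.to_le h1.le) g⁻¹) (cj_le_iff.2 fun p hp => mem_Cs.2 fun x hx => by
        simpa [← mul_assoc] using congrArg (g⁻¹ * · * g) (ab _ (cj_le_iff.1 h3 x hx) p hp))
    have h5 := Trans.card_le_of_le (T := (S : Subgroup G) ⊓ Cs E) (U := E)
      fun x hx => ⟨hx.1, mem_C1.2 (mem_Cs.1 hx.2 s sE).symm⟩
    rw [card_cj] at h4
    omega
  have gN : g ∈ Ns E := mem_normalizer_of_cj_le fun x hx => by
    have sq' : ∀ y ∈ cj g E, y * y = 1 := fun y hy => by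
      simpa [← mul_assoc, mul_inv_eq_iff_eq_mul] using congrArg (g * · * g⁻¹) (e2 _ (mem_cj.1 hy))
    refine ⟨hgS hx, mem_C1.2 ?_⟩
    by_cases h4 : x ∈ P
    · obtain ⟨y, hy, h5⟩ := SetLike.not_le_iff_exists.1 h3
      exact k2 y (hgS hy) h5 s sS sP x h4 (mem_Cs.1 (le_Cs_of_sq sq' le_rfl hy) x hx)
    · exact k1 x (hgS hx) h4 (sq' x hx)
  have c4 : 4 ≤ Nat.card ↥(C1 s ⊓ P) :=
    Nat.mul_self_le_mul_self_iff.1 (cP.ge.trans (Solv.PG.card_le_mul_card_centralizer cm))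
  have gE : ∀ x ∈ E, g * x * g⁻¹ ∈ E := fun x => mem_normalizer_conj gN
  obtain ⟨m, ⟨mg, hm⟩, m1⟩ : ∃ m ∈ cj g⁻¹ P ⊓ (C1 s ⊓ P), m ≠ 1 := by
    have := card_idx (M := cj g⁻¹ P) (T := C1 s ⊓ P) fun a ha b hb h4 h5 => by
      rw [mem_cj_inv] at h4 h5 ⊢
      simpa [mul_assoc] using i4 _ (gE a (mE ha)).1 _ (gE b (mE hb)).1 h4 h5
    by_contra h4
    push Not at h4
    rw [(eq_bot_iff_forall _).2 h4, card_bot] at this
    omega
  obtain ⟨c, hc, cg⟩ : ∃ c ∈ C1 s ⊓ P, g * c * g⁻¹ ∉ P := by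
    by_contra h4
    push Not at h4
    refine h3 (cj_le_iff.2 fun x hx => ?_)
    by_cases h5 : x ∈ P
    · exact h4 x ⟨hx.2, h5⟩
    · simpa [mul_assoc] using mul_mem (h4 _ (e1 x hx h5)) (inv_mem hg)
  obtain ⟨a, ha, ea⟩ := on c hc
  obtain ⟨a₀, ha₀, eb⟩ := on _ ⟨(gE m (mE hm)).2, mem_cj_inv.1 mg⟩
  have A1 : ∀ x, g * x * g⁻¹ ∈ P → g⁻¹ * a₀ * g * x * (g⁻¹ * a₀ * g)⁻¹ = x := fun x hx => by
    calc _ = g⁻¹ * (a₀ * (g * x * g⁻¹)) * a₀⁻¹ * g := by group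
      _ = x := by rw [ab _ ha₀ _ hx]; group
  have A2 : ∀ x ∈ E, g * x * g⁻¹ ∉ P → g⁻¹ * a₀ * g * x * (g⁻¹ * a₀ * g)⁻¹ = m * x :=
    fun x hx h4 => by
      have h5 := (e1 _ (gE x hx) h4).2
      calc _ = g⁻¹ * (a₀ * (g * x * g⁻¹ * s) * s * a₀⁻¹) * g := by
            rw [mul_assoc a₀, mul_assoc _ s s, s2]; group
        _ = g⁻¹ * (g * x * g⁻¹ * s * ⁅a₀, s⁆ * s) * g := by
            rw [ab _ ha₀ _ h5, commutatorElement_def]; group
        _ = m * x := by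
            rw [← ab _ (cm _ ha₀).2 _ h5, eb, mul_assoc _ _ s, mul_assoc _ s s, s2]; group
  have hn' : a * (g⁻¹ * a₀ * g) ∈ Ns E := mul_mem (nE (h1.le ha))
    (mul_mem (mul_mem (inv_mem gN) (nE (h1.le ha₀))) gN)
  have B0 : ∀ x, a * (g⁻¹ * a₀ * g) * x * (a * (g⁻¹ * a₀ * g))⁻¹ =
      a * (g⁻¹ * a₀ * g * x * (g⁻¹ * a₀ * g)⁻¹) * a⁻¹ := fun x => by group
  have B1 : ∀ p ∈ P, a * p * a⁻¹ = p := fun p hp => by rw [ab a ha p hp, mul_inv_cancel_right]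
  generalize a * (g⁻¹ * a₀ * g) = n at hn' B0
  have n1 : n * m * n⁻¹ = m := by rw [B0, A1 m (mem_cj_inv.1 mg), B1 m hm.2]
  have n2 : n * s * n⁻¹ = c * s := by rw [B0, A1 s hg, ← ea, commutatorElement_def]; group
  have n3 : n * c * n⁻¹ = m * c := by rw [B0, A2 c (mE hc) cg, B1 _ (mul_mem hm.2 hc.2)]
  have n4 : ∀ x ∈ E, n * x * n⁻¹ = a * x * a⁻¹ ∨ n * x * n⁻¹ = m * (a * x * a⁻¹) := fun x hx => by
    rw [B0]
    by_cases h4 : g * x * g⁻¹ ∈ P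
    · exact .inl (by rw [A1 x h4])
    · exact .inr (by rw [A2 x hx h4, ← mul_assoc, ab a ha m hm.2]; group)
  have n5 : ∀ x y, n * (x * y) * n⁻¹ = n * x * n⁻¹ * (n * y * n⁻¹) := fun x y => by group
  have n6 : ∀ x, a * (a * x * a⁻¹) * a⁻¹ = x := fun x => by
    rw [← mul_assoc, ← mul_assoc, sq1 a ha, one_mul, mul_assoc, ← mul_inv_rev, sq1 a ha, inv_one,
      mul_one]
  have n7 : ∀ x ∈ E, n * (n * x * n⁻¹) * n⁻¹ = x ∨ n * (n * x * n⁻¹) * n⁻¹ = m * x := fun x hx => by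
    rcases n4 x hx with h4 | h4 <;>
      rcases n4 _ (mem_normalizer_conj (nE (h1.le ha)) hx) with h5 | h5
    · exact .inl (by rw [h4, h5, n6])
    · exact .inr (by rw [h4, h5, n6])
    · exact .inr (by rw [h4, n5 m, n1, h5, n6])
    · exact .inl (by rw [h4, n5 m, n1, h5, n6, ← mul_assoc, sq1 m hm.2, one_mul])
  have n8 : n ^ 4 ∈ Cs E := mem_Cs.2 fun x hx => by
    have : n * (n * (n * (n * x * n⁻¹) * n⁻¹) * n⁻¹) * n⁻¹ = x := by
      rcases n7 x hx with h4 | h4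
      · rw [h4, h4]
      · rw [h4, n5 m, n1, n5 m, n1, h4, ← mul_assoc, sq1 m hm.2, one_mul]
    nth_rw 1 [← this]
    simp [pow_succ, mul_assoc]
  obtain ⟨_, j, ⟨k, rfl⟩, hj⟩ := CIT.exists_odd_pow_two_elt n
  obtain ⟨ν, hν, h4⟩ := sy.exists_cj_le (Solv.PG.isPGroup_zpowers hj) (zpowers_le.2 (pow_mem hn' _))
  have h5 := cj_le_iff.1 h4 _ (mem_zpowers _)
  have h6 : ∀ σ ∈ (S : Subgroup G), σ * σ ∈ Cs E := fun σ hσ => by
    by_cases h6 : σ ∈ P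
    · rw [sq1 σ h6]; exact one_mem _
    · have := i4.mul_self_mem hσ
      exact le_Cs_of_sq e2 le_rfl (mE ⟨mem_C1.2 (k2 σ hσ h6 s sS sP _ this (mul_assoc ..)), this⟩)
  have h7 := mul_mem (inv_mem (pow_mem n8 k)) (mem_normalizer_conj' (mem_Ns_Cs hν) (h6 _ h5))
  rw [show (n ^ 4) ^ k = n ^ (4 * k) from (pow_mul ..).symm,
    show (n ^ (4 * k))⁻¹ * (ν⁻¹ * (ν * n ^ (2 * k + 1) * ν⁻¹ * (ν * n ^ (2 * k + 1) * ν⁻¹)) * ν) =
      n ^ 2 by group, pow_two] at h7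
  have h8 : n * (n * s * n⁻¹) * n⁻¹ = s := by
    rw [show n * (n * s * n⁻¹) * n⁻¹ = n * n * s * (n * n)⁻¹ by group, ← mem_Cs.1 h7 s sE,
      mul_inv_cancel_right]
  rw [n2, n5, n3, n2, mul_assoc, ← mul_assoc c, sq1 c hc.2, one_mul] at h8
  exact m1 (mul_eq_right.1 h8)

end Cfsg.Lib.GHM
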