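import Cfsg.Agent.GHB.A8
import Cfsg.Agent.GHC.A5
import Cfsg.Agent.Gold.Cm

/-!
# Nonsolvable subgroups of `A₈` in whose Sylow 2-subgroups the involutions commute
-/

set_option autoImplicit false

namespace Cfsg.Lib.GHM.ClsN

open Subgroup Cfsg.Lib.Trans Cfsg.Lib.Gold Equiv

universe u

/-- There is no dihedral subgroup of order eight. -/
def D8F (Y : Type*) [Group Y] : Prop :=
  ∀ a b : Y, a * a = 1 → b * b = 1 → (a * b) ^ 4 = 1 → a * b = b * a

variable {Γ : Type u} {Y : Type*} [Group Γ] [Group Y] {R : Subgroup Γ}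

theorem d8f [Finite Γ] (τ : Γ →* Y) (hτ : Function.Surjective τ) (ho : Odd (Nat.card τ.ker))
    (hR : IsSylowIn 2 R ⊤) (h : ∀ a ∈ R, ∀ b ∈ R, a * a = 1 → b * b = 1 → a * b = b * a) : D8F Y := by
  intro a b ha hb hab
  have := Fact.mk Nat.prime_two
  have := Finite.of_surjective τ hτ
  have h1 : IsPGroup 2 (zpowers a ⊔ zpowers (a * b) : Subgroup Y) :=
    (Solv.PG.isPGroup_zpowers (k := 1) (by rwa [pow_one, sq])).to_sup_of_normal_right'
      (Solv.PG.isPGroup_zpowers (k := 2) hab) (zpowers_le.2 (mem_normalizer_of_cj_le (cj_le_iff.2 (by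
        rintro _ ⟨n, rfl⟩
        rw [← conj_zpow, show a * (a * b) * a⁻¹ = (a * b)⁻¹ by
          rw [← mul_assoc, ha, one_mul, mul_inv_rev, inv_eq_of_sq hb]]
        exact zpow_mem (inv_mem (mem_zpowers _)) n))))
  obtain ⟨g, -, e⟩ := (map_top_of_surjective τ hτ ▸ hR.map τ).exists_cj_le h1 le_top
  have k : ∀ x ∈ zpowers a ⊔ zpowers (a * b), x * x = 1 → ∃ u ∈ R, u * u = 1 ∧ τ u = g * x * g⁻¹ :=
    fun x hx x2 => by
      obtain ⟨u, hu, e1⟩ := e (conj_mem_cj.2 hx)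
      refine ⟨u, hu, mem_bot.1 (inf_eq_bot_of_odd hR.isPGroup ho ▸ mem_inf.2 ⟨mul_mem hu hu, ?_⟩), e1⟩
      rw [MonoidHom.mem_ker, map_mul, e1, conj_mul', x2, mul_one, mul_inv_cancel]
  obtain ⟨u, hu, u2, e1⟩ := k a (mem_sup_left (mem_zpowers a)) ha
  obtain ⟨w, hw, w2, e2⟩ := k b (by
    simpa [← mul_assoc, ha] using mul_mem (mem_sup_left (mem_zpowers a))
      (mem_sup_right (mem_zpowers (a * b)))) hb
  have := congrArg τ (h u hu w hw u2 w2)
  rwa [map_mul, map_mul, e1, e2, conj_mul', conj_mul', mul_left_inj, mul_right_inj] at this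

theorem not_psl : ¬ D8F (Matrix.ProjectiveSpecialLinearGroup (Fin 3) (ZMod 2)) := fun h => by
  let a : Matrix.SpecialLinearGroup (Fin 3) (ZMod 2) := ⟨!![1, 1, 0; 0, 1, 0; 0, 0, 1], by decide⟩
  let b : Matrix.SpecialLinearGroup (Fin 3) (ZMod 2) := ⟨!![1, 0, 0; 0, 1, 1; 0, 0, 1], by decide⟩
  let c : Matrix.SpecialLinearGroup (Fin 3) (ZMod 2) := ⟨!![1, 0, 1; 0, 1, 0; 0, 0, 1], by decide⟩
  let d : Matrix.SpecialLinearGroup (Fin 3) (ZMod 2) := ⟨!![1, 0, 0; 1, 1, 0; 0, 0, 1], by decide⟩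
  let π := QuotientGroup.mk' (center (Matrix.SpecialLinearGroup (Fin 3) (ZMod 2)))
  have h1 := h (π a) (π b) (by rw [← map_mul, show a * a = 1 by decide, map_one])
    (by rw [← map_mul, show b * b = 1 by decide, map_one])
    (by rw [← map_mul, ← map_pow, show (a * b) ^ 4 = 1 by decide +kernel, map_one])
  rw [← map_mul, ← map_mul, show b * a = a * b * c by decide +kernel, map_mul π _ c, left_eq_mul] at h1
  exact absurd (mem_center_iff.1 ((QuotientGroup.eq_one_iff c).1 h1) d) (by decide +kernel)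

theorem not_alt {n : ℕ} (h1 : 6 ≤ n) (h2 : n ≤ 8) : ¬ D8F (alternatingGroup (Fin n)) := fun h => by
  interval_cases n <;>
  exact absurd (h ⟨swap 0 2 * swap 4 5, Perm.mem_alternatingGroup.2 (by decide)⟩
    ⟨swap 0 1 * swap 2 3, Perm.mem_alternatingGroup.2 (by decide)⟩ (by decide) (by decide) (by decide))
    (by decide)

theorem not_perm {n : ℕ} (h : n = 5 ∨ n = 6) : ¬ D8F (Perm (Fin n)) := fun k => by
  rcases h with rfl | rfl <;>
  exact absurd (k (swap 0 2) (swap 0 1 * swap 2 3) (by decide) (by decide) (by decide)) (by decide)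

/-- The facts on a Sylow 2-subgroup of `A₅`. -/
structure AF (R : Subgroup Y) (ρ r v : Y) : Prop where
  card : Nat.card R = 4
  sq : ∀ x ∈ R, x * x = 1
  inv5 : ∀ x ∈ R, x ≠ 1 → ∃ e, e ^ 5 = 1 ∧ e ≠ 1 ∧ x * e * x⁻¹ * e = 1
  ρ3 : ρ ^ 3 = 1
  ρ1 : ρ ≠ 1
  ρR : ∀ x ∈ R, ρ * x * ρ⁻¹ ∈ R
  rρ : r * ρ * r⁻¹ * ρ = 1
  vR : v ∈ R
  e5 : (v * r) ^ 5 = 1
  e1 : v * r ≠ 1

theorem AF.map {R : Subgroup Y} {ρ r v : Y} (h : AF R ρ r v) (f : Y →* Γ) (hf : Function.Injective f) :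
    AF (R.map f) (f ρ) (f r) (f v) := by
  have i : ∀ {x}, f x = 1 ↔ x = 1 := map_eq_one_iff f hf
  refine ⟨(card_map_of_injective hf).trans h.card, ?_, ?_, by rw [← map_pow, i, h.ρ3], mt i.1 h.ρ1, ?_,
    by simpa only [map_mul, map_inv] using i.2 h.rρ, mem_map_of_mem f h.vR,
    by rw [← map_mul, ← map_pow, i, h.e5], by rw [← map_mul]; exact mt i.1 h.e1⟩
  · rintro _ ⟨x, hx, rfl⟩
    rw [← map_mul, i, h.sq x hx]
  · rintro _ ⟨x, hx, rfl⟩ x1
    obtain ⟨e, h1, h2, h3⟩ := h.inv5 x hx (mt i.2 x1)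
    exact ⟨f e, by rw [← map_pow, i, h1], mt i.1 h2, by simpa only [map_mul, map_inv] using i.2 h3⟩
  · rintro _ ⟨x, hx, rfl⟩
    simpa only [map_mul, map_inv] using mem_map_of_mem f (h.ρR x hx)

/-- A product of two transpositions. -/
def dt (a b c d : Fin 5) (h : a ≠ b ∧ c ≠ d := by decide) : alternatingGroup (Fin 5) :=
  ⟨swap a b * swap c d, Perm.mem_alternatingGroup.2 (by simp [h.1, h.2])⟩

/-- The four-group fixing the last point. -/
def V4 : Subgroup (alternatingGroup (Fin 5)) where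
  carrier := {1, dt 0 1 2 3, dt 0 2 1 3, dt 0 3 1 2}
  one_mem' := .inl rfl
  mul_mem' := by rintro _ _ (rfl | rfl | rfl | rfl) (rfl | rfl | rfl | rfl) <;> decide
  inv_mem' := by rintro _ (rfl | rfl | rfl | rfl) <;> decide

theorem af_V4 : AF V4 (dt 0 1 1 2) (dt 0 1 3 4) (dt 0 2 1 3) := by
  refine ⟨Set.ncard_eq_four.2 ⟨_, _, _, _, ?_, ?_, ?_, ?_, ?_, ?_, rfl⟩, ?_, ?_, by decide, by decide, ?_,
    by decide, .inr (.inr (.inl rfl)), by decide, by decide⟩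
  any_goals decide
  · rintro _ (rfl | rfl | rfl | rfl) <;> decide
  · rintro _ (rfl | rfl | rfl | rfl) h
    exacts [absurd rfl h, ⟨dt 0 1 2 3 * dt 0 2 1 4, by decide, by decide, by decide⟩,
      ⟨dt 0 2 1 3 * dt 0 1 3 4, by decide, by decide, by decide⟩,
      ⟨dt 0 3 1 2 * dt 0 1 2 4, by decide, by decide, by decide⟩]
  · rintro _ (rfl | rfl | rfl | rfl) <;> (change _ ∈ ({_, _, _, _} : Set _); decide)

theorem exists_af [Finite Γ] (φ : Γ →* alternatingGroup (Fin 8)) (hφ : Function.Injective φ)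
    (hns : ¬ Group.IsSolvable Γ) (h2 : pCore 2 Γ = ⊥) (hR : IsSylowIn 2 R ⊤)
    (h : ∀ a ∈ R, ∀ b ∈ R, a * a = 1 → b * b = 1 → a * b = b * a) :
    (∃ A : Subgroup Γ, Nonempty (A ≃* alternatingGroup (Fin 5))) ∧ ∃ ρ r v, AF R ρ r v := by
  have := Fact.mk Nat.prime_two
  have k : ∀ {L : Type} [Group L], (Γ ≃* L) → D8F L := fun e =>
    d8f e.toMonoidHom e.surjective (by
      rw [(MonoidHom.ker_eq_bot_iff e.toMonoidHom).2 e.injective, card_bot]; exact odd_one) hR h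
  have c5 : Nat.card (alternatingGroup (Fin 5)) = 60 := by
    rw [nat_card_alternatingGroup]; simp; rfl
  obtain ⟨⟨A, ⟨e⟩⟩, hc⟩ : (∃ A : Subgroup Γ, Nonempty (A ≃* alternatingGroup (Fin 5))) ∧
      Nat.card Γ ∣ 180 := by
    rcases GHB.classify φ hφ hns h2 with ⟨⟨e⟩⟩ | ⟨n, h1, h3, ⟨e⟩⟩ | (⟨⟨e⟩⟩ | ⟨⟨e⟩⟩) | ⟨h3, ⟨⟨e⟩⟩ | ⟨⟨e⟩⟩⟩
    · exact absurd (k e) not_psl
    · refine ⟨GHC.exists_A5 (.inl ⟨n, h1, h3, ⟨e⟩⟩), ?_⟩
      obtain rfl : n = 5 := by_contra fun n5 => not_alt (by omega) h3 (k e)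
      rw [Nat.card_congr e.toEquiv, c5]; decide
    · exact absurd (k e) (not_perm (.inl rfl))
    · exact absurd (k e) (not_perm (.inr rfl))
    · refine ⟨GHC.exists_A5 (.inr (.inr ⟨h3, .inl ⟨e⟩⟩)), ?_⟩
      rw [card_eq_card_quotient_mul_card_subgroup (pCore 3 Γ), Nat.card_congr e.toEquiv, c5, h3]
    · refine absurd (d8f (e.toMonoidHom.comp (QuotientGroup.mk' _))
        (e.surjective.comp (QuotientGroup.mk'_surjective _)) ?_ hR h) (not_perm (.inl rfl))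
      rw [show (e.toMonoidHom.comp (QuotientGroup.mk' (pCore 3 Γ))).ker = pCore 3 Γ from
        Subgroup.ext fun x => e.map_eq_one_iff.trans (QuotientGroup.eq_one_iff x), h3]
      decide
  have h1 := af_V4.map (A.subtype.comp e.symm.toMonoidHom) (A.subtype_injective.comp e.symm.injective)
  obtain ⟨g, -, h3⟩ := hR.exists_cj_le (isPGroup_of_sq h1.sq) le_top
  have h4 : AF (cj g _) _ _ _ := h1.map (MulAut.conj g).toMonoidHom (MulAut.conj g).injective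
  refine ⟨⟨A, ⟨e⟩⟩, _, _, _, eq_of_le_of_card_ge h3 (le_of_le_of_eq ?_ h4.card.symm) ▸ h4⟩
  obtain ⟨n, hn⟩ := hR.isPGroup.exists_card_eq
  have h5 := (card_subgroup_dvd_card R).trans hc
  rw [hn] at h5 ⊢
  exact Nat.pow_le_pow_right two_pos (show n ≤ 2 from by_contra fun n2 =>
    absurd ((pow_dvd_pow 2 (show 3 ≤ n by omega)).trans h5) (by decide))

end Cfsg.Lib.GHM.ClsN
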