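import Cfsg.Agent.GHM.D16
import Cfsg.Agent.GHM.ClsNa
import Cfsg.Agent.GHB.A5c
import Cfsg.Agent.S0205
import Cfsg.Agent.S3103
import Cfsg.Agent.SylT.NO
import Cfsg.Agent.Trans.StrongAlperin

/-!
# Simple groups of sectional 2-rank at most four: essential subgroups with nonsolvable normaliser
-/

set_option autoImplicit false

namespace Cfsg.Lib.GHM

open Subgroup Cfsg.Lib.Trans Cfsg.Lib.Gold
open scoped commutatorElement

universe u

namespace ClsN

theorem es_sq {Y : Type*} [Group Y] {z p q r s : Y} (h : GHB.ES z p q r s) (g : Y) :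
    g * g = 1 ∨ g * g = z := by
  let π := QuotientGroup.mk' (center Y)
  have π1 : ∀ {x}, π x = 1 ↔ x = 1 ∨ x = z := fun {x} =>
    (QuotientGroup.eq_one_iff x).trans (mem_center_iff.trans (h.cen x))
  have c : ∀ {a b}, ⁅a, b⁆ = z → π a * π b = π b * π a := fun e =>
    commutatorElement_eq_one_iff_mul_comm.1 (by rw [← map_commutatorElement, e, π1]; exact .inr rfl)
  have k1 : ∀ a, π p * π a = π a * π p → π q * π a = π a * π q → π r * π a = π a * π r →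
      π s * π a = π a * π s → a ∈ (center _).comap π := fun a h1 h2 h3 h4 => mem_center_iff.2 fun y => by
    obtain ⟨y, rfl⟩ := QuotientGroup.mk'_surjective _ y
    exact mem_C1.1 ((h.gen ((C1 (π a)).comap π) (mem_C1.2 (by simp [π1.2 (.inr rfl)])) (mem_C1.2 h1)
      (mem_C1.2 h2) (mem_C1.2 h3) (mem_C1.2 h4)).ge (mem_top y))
  have k2 := h.gen ((center _).comap π) (by rw [mem_comap, π1.2 (.inr rfl)]; exact one_mem _)
    (k1 p rfl (c h.pq).symm (c h.pr).symm (c h.ps).symm) (k1 q (c h.pq) rfl (c h.qr).symm (c h.qs).symm)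
    (k1 r (c h.pr) (c h.qr) rfl (c h.rs).symm) (k1 s (c h.ps) (c h.qs) (c h.rs) rfl)
  let H : Subgroup Y :=
    { carrier := {g | π (g * g) = 1}
      one_mem' := by simp
      mul_mem' := fun {a b} ha hb => by
        simp only [Set.mem_setOf_eq, map_mul] at *
        rw [mul_assoc, ← mul_assoc (π b), mem_center_iff.1 (k2.ge (mem_top a)) (π b), mul_assoc, hb, mul_one, ha]
      inv_mem' := fun {a} ha => by rwa [Set.mem_setOf_eq, ← mul_inv_rev, map_inv, inv_eq_one] }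
  have m : ∀ {a}, a * a = 1 → a ∈ H := fun e => π1.2 (.inl e)
  exact π1.1 ((h.gen H (m h.zz) (m h.pp) (m h.qq) (m h.rr) (m h.ss)).ge (mem_top g))

variable {G : Type u} [Group G] [Finite G] {S P : Subgroup G} {x : G}

omit [Finite G] in
theorem inP (h : Ess S P) (h1 : x ∈ S) (h2 : x ∈ Kn P) : x ∈ P := by
  obtain ⟨p, hp, c, hc, rfl⟩ := (Solv.Coprime.mem_sup_iff Cs_le_Ns).1 h2
  exact mul_mem hp (h.cent c ((mul_mem_cancel_left (h.le hp)).1 h1) hc)

/-- The map onto the outer automiser. -/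
structure Lf (S P : Subgroup G) {Γ : Type u} [Group Γ] (π : Ns P →* Γ) (ρ r v : Γ) : Prop
    extends Ess S P, AF (((S ⊓ Ns P).subgroupOf (Ns P)).map π) ρ r v where
  sur : Function.Surjective π
  ker : ∀ x, π x = 1 ↔ (x : G) ∈ Kn P

theorem setup {S : Sylow 2 G} (h : Ctx S) {X : Subgroup G}
    (h1 : StrongAG.Cond 2 (S : Subgroup G) (P, X) x) (h2 : ¬ Group.IsSolvable (Ns P)) :
    (∃ (Γ : Type u) (_ : Group Γ) (π : Ns P →* Γ) (ρ r v : Γ), Lf (S : Subgroup G) P π ρ r v) ∧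
      (((∀ p ∈ P, p * p = 1) ∧ Nat.card P = 16) ∨ Nat.card P = 32 ∧ ∃ z p q r s : P, GHB.ES z p q r s) := by
  have := Fact.mk Nat.prime_two
  obtain ⟨c1, c2, c3, c4, ⟨M, c5⟩, -⟩ := h1
  dsimp only at c1 c2 c3 c4 c5
  have E : Ess (S : Subgroup G) P := ⟨c1, fun x a b => c3 ⟨a, b⟩, by simpa only [FullyNorm, top_inf_eq] using c2⟩
  have pP := S.isPGroup'.to_le c1
  let ψ := QuotientGroup.mk' (oddCore (Ns P))
  have ψs : Function.Surjective ψ := QuotientGroup.mk'_surjective _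
  have mK : ∀ x, ψ x ∈ pCore 2 _ ↔ (x : G) ∈ Kn P := fun x =>
    (mem_map_iff_mem (K := pPrimePCore 2 (Ns P)) (subtype_injective _)).symm.trans (by rw [c4]; rfl)
  have inj : ∀ x : Ns P, (x : G) ∈ P → ψ x = 1 → x = 1 := fun x hx e => mem_bot.1
    (inf_eq_bot_of_odd (isPGroup_subgroupOf pP (Ns P)) (Solv.odd_card_oddCore _) ▸
      mem_inf.2 ⟨hx, (QuotientGroup.eq_one_iff x).1 e⟩)
  have hU := E.syl.subgroupOf_top
  have eP : pCore 2 _ = (P.subgroupOf (Ns P)).map ψ := le_antisymm (fun y hy => by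
    obtain ⟨u, hu, rfl⟩ := (map_top_of_surjective ψ ψs ▸ hU.map ψ).le_of_normal
      (Solv.pCore_isPGroup 2 _) le_top le_normalizer_of_normal hy
    exact mem_map_of_mem ψ (mem_subgroupOf.2 (inP E hu.1 ((mK u).1 hy)))) (by
    rintro _ ⟨u, hu, rfl⟩
    exact (mK u).2 (mem_sup_left hu))
  have hc : Cs (pCore 2 (Ns P ⧸ oddCore (Ns P))) ≤ pCore 2 _ := fun y hy => by
    obtain ⟨y, rfl⟩ := ψs y
    refine (mK y).2 (mem_sup_right fun p hp => commutatorElement_eq_one_iff_mul_comm.1 (congrArg Subtype.val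
      (inj ⁅(⟨p, le_normalizer hp⟩ : Ns P), y⁆ ?_ ?_)))
    · simpa only [commutatorElement_def, mul_assoc, coe_mul, coe_inv] using
        mul_mem hp (mem_normalizer_conj y.2 (inv_mem hp))
    · rw [map_commutatorElement, commutatorElement_eq_one_iff_mul_comm]
      exact hy _ ((mK _).2 (mem_sup_left hp))
  have hO := Solv.pPrimeCore_quotient_pPrimeCore 2 (Ns P)
  have r4 := Solv.PG.secRank_quotient (Solv.PG.secRank_subgroup h.r4 (Ns P)) (oddCore (Ns P))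
  obtain ⟨φ, hφ⟩ := Agent.S3103.result ((Solv.isPConstrained_iff_of_pPrimeCore_eq_bot hO).2 hc) hO
    (Solv.PG.secRank_subgroup r4 _)
  let π := (QuotientGroup.mk' (pCore 2 _)).comp ψ
  have πs : Function.Surjective π := (QuotientGroup.mk'_surjective _).comp ψs
  have πk : ∀ x, π x = 1 ↔ (x : G) ∈ Kn P := fun x => (QuotientGroup.eq_one_iff _).trans (mK x)
  obtain ⟨Y, hY⟩ := Solv.not_isSylowChainConnected_iff_se.1 c5.not_conn
  obtain ⟨⟨A, ⟨e⟩⟩, ρ, r, v, af⟩ := exists_af φ hφ (fun _ => h2 (by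
      have := Agent.S0205.result (Solv.odd_card_oddCore (Ns P))
      have := Solv.Coprime.isSolvable_of_isPGroup (Solv.pCore_isPGroup 2 (Ns P ⧸ oddCore (Ns P)))
      have := Group.isSolvable_of_ker_le_range (pCore 2 (Ns P ⧸ oddCore (Ns P))).subtype
        (QuotientGroup.mk' (pCore 2 _)) (by simp)
      exact Group.isSolvable_of_ker_le_range (oddCore (Ns P)).subtype ψ (by simp [ψ])))
    (Solv.pCore_quotient_pCore 2 _) (map_top_of_surjective π πs ▸ hU.map π) (by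
      rintro _ ⟨a, ha, rfl⟩ _ ⟨b, hb, rfl⟩ a2 b2
      let χ := QuotientGroup.mk' (P.subgroupOf (Ns P))
      have k : ∀ a ∈ (S ⊓ Ns P : Subgroup G).subgroupOf (Ns P), π a * π a = 1 → χ a * χ a = 1 :=
        fun a ha e => (QuotientGroup.eq_one_iff (a * a)).2 (mem_subgroupOf.2
          (inP E (mul_mem ha ha).1 ((πk (a * a)).1 ((map_mul π a a).trans e))))
      have := L34.comm_of_se hY (hU.isPGroup.map χ) (mem_map_of_mem χ ha) (mem_map_of_mem χ hb)
        (k a ha a2) (k b hb b2)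
      rw [← commutatorElement_eq_one_iff_mul_comm, ← map_commutatorElement] at this ⊢
      exact (πk _).2 (mem_sup_left (mem_subgroupOf.1 ((QuotientGroup.eq_one_iff _).1 this))))
  refine ⟨⟨_, _, π, ρ, r, v, E, af, πs, πk⟩, ?_⟩
  let f : P →* pCore 2 (Ns P ⧸ oddCore (Ns P)) := (ψ.comp (inclusion le_normalizer)).codRestrict _
    fun p => (mK _).2 (mem_sup_left p.2)
  let i := MulEquiv.ofBijective f ⟨(injective_iff_map_eq_one f).2 fun p e =>
    Subtype.ext (congrArg (Ns P).subtype (inj _ p.2 (congrArg Subtype.val e))), fun ⟨y, hy⟩ => by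
      obtain ⟨p, hp, rfl⟩ := eP.le hy
      exact ⟨⟨p, hp⟩, rfl⟩⟩
  rw [Nat.card_congr i.toEquiv]
  refine (GHB.struct_A5 hc r4 A e).imp (fun k => ⟨fun p hp => ?_, k.2⟩)
    fun ⟨k, _, _, _, _, _, k'⟩ => ⟨k, _, _, _, _, _, k'.map i.symm⟩
  exact congrArg Subtype.val (i.map_eq_one_iff.1 ((map_mul i ⟨p, hp⟩ ⟨p, hp⟩).trans
    (Subtype.ext (k.1 _ (i ⟨p, hp⟩).2))))

namespace Lf

variable {Γ : Type u} [Group Γ] {π : Ns P →* Γ} {ρ r v : Γ} (h : Lf S P π ρ r v)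
include h

theorem cardU : Nat.card (S ⊓ Ns P : Subgroup G) = 4 * Nat.card P := by
  have e : P.relIndex (S ⊓ Ns P) = 4 := by
    rw [← h.card, ← relIndex_ker, ← relIndex_subgroupOf (inf_le_right : S ⊓ Ns P ≤ Ns P),
      ← inf_relIndex_left, ← inf_relIndex_left _ π.ker]
    congr 1
    ext y
    exact and_congr_right fun hy => ⟨fun k => (h.ker y).2 (mem_sup_left k),
      fun k => mem_subgroupOf.2 (inP h.toEss hy.1 ((h.ker y).1 k))⟩
  rw [← card_mul_relIndex (le_inf h.le le_normalizer), e, mul_comm]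

omit [Finite G] in
theorem sqN (h1 : x ∈ S) (h2 : x ∈ Ns P) : x * x ∈ P :=
  inP h.toEss (mul_mem h1 h1) ((h.ker (⟨x, h2⟩ * ⟨x, h2⟩)).1
    ((map_mul π _ _).trans (h.sq _ (mem_map_of_mem π ⟨h1, h2⟩))))

omit [Finite G] in
theorem inv5' (h4 : ∀ p ∈ P, p ^ 16 = 1) : Inv5 S P := fun t h1 h2 h3 _ => by
  obtain ⟨e, e5, e1, e2⟩ := h.inv5 _ (mem_map_of_mem π (x := ⟨t, h2⟩) ⟨h1, h2⟩)
    fun k => h3 (inP h.toEss h1 ((h.ker _).1 k))
  obtain ⟨e, rfl⟩ := h.sur e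
  have e3 : π (e ^ 16) = π e := by rw [map_pow, pow_succ, show 15 = 5 * 3 from rfl, pow_mul, e5, one_pow, one_mul]
  obtain ⟨p, hp, c, hc, e4⟩ := (Solv.Coprime.mem_sup_iff Cs_le_Ns).1
    ((h.ker (e ^ 5)).1 ((map_pow π e 5).trans e5))
  refine ⟨e ^ 16, pow_mem e.2 _, ?_, fun k => e1 (e3 ▸ (h.ker (e ^ 16)).2 (mem_sup_right k)),
    (h.ker (⟨t, h2⟩ * e ^ 16 * ⟨t, h2⟩⁻¹ * e ^ 16)).1 (by simpa only [map_mul, map_inv, e3] using e2)⟩
  rw [← pow_mul, mul_comm, pow_mul, ← coe_pow, ← e4, Commute.mul_pow (mem_Cs.1 hc p hp), h4 p hp, one_mul]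
  exact pow_mem hc _

theorem a5e (h1 : ∀ p ∈ P, p * p = 1) (h2 : Nat.card P = 16) : ∃ ρ r e, A5E S P ρ r e := by
  have := Fact.mk Nat.prime_two
  have k : ∀ x, π x = 1 ↔ (x : G) ∈ Cs P := fun x =>
    (h.ker x).trans (by rw [Kn, sup_eq_right.2 (le_Cs_of_sq h1 le_rfl)])
  have := Finite.of_surjective π h.sur
  obtain ⟨ρ₀, rfl⟩ := h.sur ρ
  obtain ⟨r, rfl⟩ := h.sur r
  obtain ⟨u, hu, e⟩ := h.vR
  have l := le_comap_map π ((S ⊓ Ns P).subgroupOf (Ns P))
  obtain ⟨n, hn, y, hy, e1⟩ := (h.syl.subgroupOf_top.mono l le_top).frattini' (g := ρ₀)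
    (le_normalizer_comap π (mem_normalizer_of_cj_le (cj_le_iff.2 h.ρR)))
  obtain ⟨w, hw, e2⟩ := hy
  have e3 : π (n * w) = π ρ₀ := by rw [e1, map_mul, map_mul, e2]
  refine ⟨↑(n * w), r, ↑(u * r), h.toEss, h2, h1, by rw [h.cardU, h2], fun _ => h.sqN,
    h.inv5' fun p hp => by rw [show 16 = 2 * 8 from rfl, pow_mul, sq, h1 p hp, one_pow], (n * w).2,
    (k (_ ^ 3)).1 (by rw [map_pow, e3, h.ρ3]), fun c => h.ρ1 (e3 ▸ (k _).2 c), ?_, r.2,
    (k (r * (n * w) * r⁻¹ * (n * w))).1 (by rw [map_mul, map_mul, map_mul, map_inv, e3, h.rρ]),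
    (k (_ ^ 5)).1 (by rw [map_pow, map_mul, e, h.e5]), fun c => h.e1 (by rw [← e, ← map_mul, k]; exact c),
    mul_mem (mem_sup_left (mem_sup_left hu)) (mem_sup_right (subset_closure (.inr rfl)))⟩
  have := le_normalizer_map (Ns P).subtype (mem_map_of_mem _ (mul_mem hn (le_normalizer hw)))
  rwa [map_subgroupOf_eq_of_le inf_le_right] at this

theorem xm (h2 : Nat.card P = 32) {z p q a b : P} (h1 : GHB.ES z p q a b) : Xm S P z := by
  have k : ∀ g ∈ P, g * g = 1 ∨ g * g = z := fun g hg =>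
    (es_sq h1 ⟨g, hg⟩).imp (congrArg Subtype.val) (congrArg Subtype.val)
  refine ⟨h.toEss, h2, fun e => h1.ne (Subtype.ext e), fun g hg => congrArg Subtype.val
    ((h1.cen z).2 (.inr rfl) ⟨g, hg⟩), k, ⟨_, (p * q).2, congrArg Subtype.val (?_ : p * q * (p * q) = z)⟩,
    h.inv5' fun g hg => ?_, fun e => ?_, by rw [h.cardU, h2]⟩
  · rw [← h1.pq, commutatorElement_def, inv_eq_of_sq h1.pp, inv_eq_of_sq h1.qq, mul_assoc (p * q)]
  · rw [show 16 = 2 * (2 * 4) from rfl, pow_mul, pow_mul, sq g]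
    rcases k g hg with e | e
    · simp [e]
    · rw [e, sq, ← coe_mul, h1.zz, coe_one, one_pow]
  · have := Subgroup.card_le_of_le e
    rw [h.cardU] at this
    omega

end Lf

end ClsN

variable {G : Type u} [Group G] [Finite G] {S : Sylow 2 G} {P : Subgroup G} {x : G}

theorem Ctx.cls_ns (h : Ctx S) {X : Subgroup G} (h1 : StrongAG.Cond 2 (S : Subgroup G) (P, X) x)
    (h2 : ¬ Group.IsSolvable (Ns P)) :
    (∃ z, Xm (S : Subgroup G) P z) ∨ ∃ ρ r e, A5E (S : Subgroup G) P ρ r e := by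
  obtain ⟨⟨_, _, _, _, _, _, k⟩, ⟨a, b⟩ | ⟨a, _, _, _, _, _, b⟩⟩ := ClsN.setup h h1 h2
  exacts [.inr (k.a5e a b), .inl ⟨_, k.xm a b⟩]

end Cfsg.Lib.GHM
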