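import Cfsg.Agent.GHM.Com
import Cfsg.Agent.GHM.A8b
import Cfsg.Agent.S3057
import Cfsg.Agent.Solv.PSolvable

/-!
# Essential subgroups with solvable normaliser
-/

set_option autoImplicit false

namespace Cfsg.Lib.GHM

open Subgroup Equiv Cfsg.Lib.Trans Cfsg.Lib.Gold Cfsg.Lib.Solv
open scoped commutatorElement

universe u

variable {G : Type u} [Group G] {S : Sylow 2 G} {T P M : Subgroup G} {d s t x n : G}

/-- the case of a `Tri` -/
def TriStep (S P : Subgroup G) (x : G) : Prop :=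
  (∃ d s, Tri S P d s) ∧ ∃ p ∈ P, ∃ d, x = p * d ∧ (d ∈ Cs P ∨ ∃ s, Tri S P d s)

theorem TriStep_eq_1' : type_of% @TriStep.eq_1 := @TriStep.eq_1

theorem conj3 {Q : Type*} [Group Q] [Finite Q] {A : Subgroup Q} [hn : A.Normal]
    (hA : IsPGroup 2 A) {a b : Q} (ha : a ^ 3 = 1) (hb : b ^ 3 = 1) (h : a * b ∈ A) :
    ∃ p ∈ A, p * a * p⁻¹ * b = 1 := by
  have : Fact (Nat.Prime 3) := ⟨by decide⟩
  have h1 := GHB.card_fix (fun p => b * p * a) 3 (A : Set Q) (fun p hp => by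
    have := hn.conj_mem _ (mul_mem hp h) b
    rwa [show b * (p * (a * b)) * b⁻¹ = b * p * a by group] at this) (fun p _ => by
    rw [show (fun p => b * p * a)^[3] p = b ^ 3 * p * a ^ 3 by
      simp only [Function.iterate_succ, Function.comp, Function.iterate_zero, id, pow_succ,
        pow_zero, one_mul, mul_assoc], ha, hb, one_mul, mul_one])
  obtain ⟨k, hk⟩ := IsPGroup.iff_card.1 hA
  have h2 : Nat.card {x | x ∈ (A : Set Q) ∧ b * x * a = x} ≠ 0 := fun h0 => by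
    rw [h0, show Nat.card (A : Set Q) = 2 ^ k from hk, Nat.modEq_zero_iff_dvd] at h1
    exact absurd (Nat.prime_three.dvd_of_dvd_pow h1) (by norm_num)
  obtain ⟨p, hp, h3⟩ := (Nat.card_ne_zero.1 h2).1
  refine ⟨p, hp, ?_⟩
  rw [show p * a * p⁻¹ * b = b⁻¹ * (b * p * a) * p⁻¹ * b by group, h3]
  group

theorem split3 (hP : IsPGroup 2 P) (hn : n ∈ Ns P) (h3 : n ^ 3 ∈ Kn P) :
    ∃ p ∈ P, ∃ d, n = p * d ∧ d ^ 3 ∈ Cs P := by
  obtain ⟨p, hp, c, hc, h⟩ := mem_Kn.1 h3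
  obtain ⟨k, hk⟩ := hP ⟨p, hp⟩
  replace hk : p ^ 2 ^ k = 1 := congrArg Subtype.val hk
  obtain ⟨m, hm⟩ : ∃ m, 2 ^ k * 2 ^ k = 3 * m + 1 := ⟨2 ^ k * 2 ^ k / 3, by
    have : 2 ^ k * 2 ^ k % 3 = 1 := by rw [← mul_pow, Nat.pow_mod]; simp
    omega⟩
  have h1 : (n ^ (3 * m + 1)) ^ 3 ∈ Cs P := by
    rw [← pow_mul, mul_comm, pow_mul, h, ← hm, Commute.mul_pow (cs_comm hc hp).symm, pow_mul, hk,
      one_pow, one_mul]
    exact pow_mem hc _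
  obtain ⟨q, hq, e, he, h2⟩ := mem_Kn.1 (inv_mem (pow_mem h3 m))
  refine ⟨q, hq, e * n ^ (3 * m + 1), by rw [← mul_assoc, ← h2]; group, ?_⟩
  have h4 := pow_mem hn (3 * m + 1)
  generalize n ^ (3 * m + 1) = a at h1 h4
  rw [show (e * a) ^ 3 = e * (a * e * a⁻¹) * (a * (a * e * a⁻¹) * a⁻¹) * a ^ 3 by
    simp only [pow_succ, pow_zero]; group]
  exact mul_mem (mul_mem (mul_mem he (cs_ns he h4)) (cs_ns (cs_ns he h4) h4)) h1

variable [Finite G]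

theorem Ess.tri (h : Ess T P) (hR : R2 T P t) (tT : t ∈ T) (tN : t ∈ Ns P) (tP : t ∉ P)
    (hn : n ∈ Ns P) (h3 : n ^ 3 ∈ Kn P) (hi : t * n * t⁻¹ * n ∈ Kn P) :
    ∃ p ∈ P, ∃ d, n = p * d ∧ (d ∈ Cs P ∨ ∃ s, Tri T P d s) := by
  have hP : IsPGroup 2 P := h.syl.isPGroup.to_le (le_inf h.le le_normalizer)
  obtain ⟨p, hp, d, rfl, hd⟩ := split3 hP hn h3
  refine ⟨p, hp, d, rfl, or_iff_not_imp_left.2 fun dC => ?_⟩
  have dN : d ∈ Ns P := (mul_mem_cancel_left (le_normalizer hp)).1 hn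
  have h1 : t * d * t⁻¹ * d ∈ Kn P := by
    have a1 : p ∈ Kn P := mem_sup_left hp
    have := mul_mem (mul_mem (Kn_conj (inv_mem a1) tN) hi)
      (Kn_conj (inv_mem a1) (inv_mem dN))
    rwa [show t * p⁻¹ * t⁻¹ * (t * (p * d) * t⁻¹ * (p * d)) * (d⁻¹ * p⁻¹ * d⁻¹⁻¹) =
      t * d * t⁻¹ * (p * (d * d⁻¹) * p⁻¹) * d by group, mul_inv_cancel, mul_one, mul_inv_cancel,
      mul_one] at this
  have hC : ((Cs P).subgroupOf (Ns P)).Normal := ⟨fun _ hx n => cs_ns hx n.2⟩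
  have hA : ((P.subgroupOf (Ns P)).map (QuotientGroup.mk' ((Cs P).subgroupOf (Ns P)))).Normal :=
    Normal.map inferInstance _ (QuotientGroup.mk'_surjective _)
  have h2 : QuotientGroup.mk' ((Cs P).subgroupOf (Ns P)) ⟨d, dN⟩ ^ 3 = 1 := by
    rw [← map_pow]
    exact (QuotientGroup.eq_one_iff _).2 hd
  obtain ⟨_, ⟨q, hq, rfl⟩, h4⟩ := conj3 ((isPGroup_subgroupOf hP (Ns P)).map _)
    (a := QuotientGroup.mk' ((Cs P).subgroupOf (Ns P)) (⟨t, tN⟩ * ⟨d, dN⟩ * ⟨t, tN⟩⁻¹))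
    (by rw [map_mul, map_mul, map_inv, conj_pow, h2, mul_one, mul_inv_cancel]) h2 (by
      obtain ⟨q, hq, c, hc, e⟩ := mem_Kn.1 h1
      refine ⟨⟨q, le_normalizer hq⟩, hq, ?_⟩
      rw [← map_mul, QuotientGroup.mk'_apply, QuotientGroup.mk'_apply, QuotientGroup.eq]
      change q⁻¹ * (t * d * t⁻¹ * d) ∈ Cs P
      rwa [e, inv_mul_cancel_left])
  rw [← map_inv, ← map_mul, ← map_mul, ← map_mul] at h4
  replace h4 : q.1 * (t * d * t⁻¹) * q.1⁻¹ * d ∈ Cs P :=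
    (QuotientGroup.eq_one_iff (N := (Cs P).subgroupOf (Ns P)) _).1 h4
  replace hq : q.1 ∈ P := hq
  refine ⟨q * t, h.le, dN, hd, dC, mul_mem (h.le hq) tT, mul_mem q.2 tN,
    fun h5 => tP ((mul_mem_cancel_left hq).1 h5), ?_, h.cent,
    fun x hx hxN => (hR x hx hxN).imp id fun h5 => ?_, h.syl⟩
  · rwa [show q.1 * t * d * (q.1 * t)⁻¹ = q.1 * (t * d * t⁻¹) * q.1⁻¹ by group]
  · rw [show x * (q.1 * t) = x * q.1 * x⁻¹ * (x * t) by group]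
    exact mul_mem ((mem_normalizer_iff.1 hxN _).1 hq) h5

theorem le_Kn_of_rad (h : (pPrimePCore 2 (Ns P)).map (Ns P).subtype = Kn P) (L : Subgroup (Ns P))
    [hL : L.Normal] (h1 : ∀ n ∈ L, ∃ k, n.1 ^ 2 ^ k ∈ Kn P) : ∀ n ∈ L, n.1 ∈ Kn P := by
  have h2 : L.map (QuotientGroup.mk' (pPrimeCore 2 (Ns P))) ≤ pCore 2 _ := by
    refine le_pCore (hL.map _ (QuotientGroup.mk'_surjective _)) ?_
    rintro ⟨_, n, hn, rfl⟩
    obtain ⟨k, hk⟩ := h1 n hn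
    rw [← h] at hk
    have h3 : n ^ 2 ^ k ∈ pPrimePCore 2 (Ns P) := (mem_map_iff_mem (subtype_injective _)).1 hk
    obtain ⟨j, hj⟩ := pCore_isPGroup 2 _ ⟨_, mem_comap.1 h3⟩
    refine ⟨k + j, Subtype.ext ?_⟩
    have h4 : QuotientGroup.mk' (pPrimeCore 2 (Ns P)) (n ^ 2 ^ k) ^ 2 ^ j = 1 :=
      congrArg Subtype.val hj
    rw [map_pow, ← pow_mul, ← pow_add] at h4
    exact h4
  exact fun n hn => h ▸ mem_map_of_mem _ (h2 (mem_map_of_mem _ hn))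

theorem Ess.uniq (h : Ess T P) (h1 : StrongAG.SEOver 2 P M) (h2 : Group.IsSolvable (Ns P)) :
    ∃ t ∈ T, t ∈ Ns P ∧ t ∉ P ∧ t * t ∈ P ∧
      ∀ r ∈ T, r ∈ Ns P → r * r ∈ P → r ∈ P ∨ r * t ∈ P := by
  obtain ⟨R, hR⟩ := IsSylowIn.exists_sylow_eq
    (T := ((T ⊓ Ns P).subgroupOf (Ns P)).map (QuotientGroup.mk' (P.subgroupOf (Ns P))))
    (by simpa only [map_top_of_surjective _ (QuotientGroup.mk'_surjective _)] using
      h.syl.subgroupOf_top.map (QuotientGroup.mk' (P.subgroupOf (Ns P))))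
  have hd : 2 ∣ Nat.card (Ns P ⧸ P.subgroupOf (Ns P)) :=
    h1.2.2.1.trans (Dvd.intro _ (relIndex_mul_relIndex _ _ _ h1.1 h1.2.1.le))
  have h3 := ((Cfsg.Agent.S3057.result 2 hd (IsPSolvable.of_isSolvable 2 _) R).1 h1.not_conn).2
  have key : ∀ x y : (R : Subgroup (Ns P ⧸ P.subgroupOf (Ns P))), orderOf x = 2 → y ^ 2 = 1 →
      y ∈ zpowers x := fun x y hx hy => by
    rcases h3 with h3 | ⟨-, n, ⟨e⟩⟩
    · exact Cfsg.Agent.S2777.cyc two_pos hx hy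
    · obtain ⟨k, hk⟩ := Cfsg.Agent.S2777.quat Nat.prime_two (x := e x) (y := e y)
        (by rw [MulEquiv.orderOf_eq, hx]) (by rw [← map_pow, hy, map_one])
      exact ⟨k, e.injective (by simpa using hk)⟩
  obtain ⟨x, hx⟩ := exists_prime_orderOf_dvd_card' (G := R) 2 (R.dvd_card_of_dvd_card hd)
  obtain ⟨t, ht, e⟩ := hR.le x.2
  have x2 : x * x = 1 := by rw [← sq, orderOf_dvd_iff_pow_eq_one.1 hx.dvd]
  have one : ∀ n : Ns P, QuotientGroup.mk' (P.subgroupOf (Ns P)) n = 1 ↔ n.1 ∈ P :=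
    fun n => QuotientGroup.eq_one_iff n
  refine ⟨t, ht.1, t.2, fun h4 => ?_, (one (t * t)).1 ?_, fun r hr hrN h4 => ?_⟩
  · rw [show x = 1 from Subtype.ext (e.symm.trans ((one t).2 h4)), orderOf_one] at hx
    omega
  · rw [map_mul, e]
    exact congrArg Subtype.val x2
  · have h5 := (mem_zp x2).1 (key x ⟨QuotientGroup.mk' _ ⟨r, hrN⟩,
      hR.ge (mem_map_of_mem _ ⟨hr, hrN⟩)⟩ hx
      (Subtype.ext (by rw [sq]; exact (one (⟨r, hrN⟩ * ⟨r, hrN⟩)).2 h4)))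
    refine h5.imp (fun h6 => (one ⟨r, hrN⟩).1 (congrArg Subtype.val h6)) fun h6 =>
      (one (⟨r, hrN⟩ * t)).1 ?_
    rw [map_mul, e, show QuotientGroup.mk' _ ⟨r, hrN⟩ = x.1 from congrArg Subtype.val h6]
    exact congrArg Subtype.val x2

section
variable {Γ : Type*} [Group Γ] (φ : Ns P →* Γ) {D : Subgroup Γ}

/-- The preimage in `G`. -/
def pre (D : Subgroup Γ) : Subgroup G := (D.comap φ).map (Ns P).subtype

theorem pre_eq_1' : type_of% @pre.eq_1 := @pre.eq_1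

omit [Finite G]

theorem pre_le : pre φ D ≤ Ns P := map_subtype_le _

theorem mem_pre (hn : n ∈ Ns P) : n ∈ pre φ D ↔ φ ⟨n, hn⟩ ∈ D :=
  mem_map_iff_mem (x := (⟨n, hn⟩ : Ns P)) (subtype_injective _)

theorem pre_norm [hD : D.Normal] : Ns P ≤ Ns (pre φ D) := by
  have := ((D.comap φ).le_normalizer_map (Ns P).subtype)
  rwa [normalizer_eq_top, ← MonoidHom.range_eq_map, range_subtype] at this

variable (hφ : Function.Surjective φ) (hk : ∀ n, φ n = 1 ↔ n.1 ∈ Kn P)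

include hk in
theorem pre_bot : pre φ ⊥ = Kn P := Subgroup.ext fun x =>
  ⟨fun h => (hk ⟨x, pre_le φ h⟩).1 ((mem_pre φ _).1 h),
    fun h => (mem_pre φ (Kn_le h)).2 ((hk _).2 h)⟩

include hk in
theorem Kn_le_pre : Kn P ≤ pre φ D := pre_bot φ hk ▸ map_mono (comap_mono bot_le)

include hφ hk in
theorem rel_pre : (Kn P).relIndex (pre φ D) = Nat.card D := by
  rw [← pre_bot φ hk, pre, pre, relIndex_map_map_of_injective _ _ (subtype_injective _),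
    relIndex_comap, map_comap_eq_self_of_surjective hφ, relIndex_bot_left]

include hk in
theorem pre_map (h1 : Kn P ≤ M) (h2 : M ≤ Ns P) : pre φ ((M.subgroupOf (Ns P)).map φ) = M := by
  rw [pre, comap_map_eq, sup_eq_left.2 fun n hn => h1 ((hk n).1 hn), map_subgroupOf_eq_of_le h2]

end

theorem Ctx.cls_solv (h : Ctx S) {X : Subgroup G} (h1 : StrongAG.Cond 2 (S : Subgroup G) (P, X) x)
    (h2 : Group.IsSolvable (Ns P)) : TriStep (S : Subgroup G) P x ∨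
      ∃ M t, Ph (S : Subgroup G) P M t ∧
        (R2 (S : Subgroup G) P t ∨ ∃ y, R4 (S : Subgroup G) P t y) := by
  obtain ⟨c1, c2, c3, c4, ⟨M₀, c5⟩, c6, c7⟩ := h1
  have hE : Ess (S : Subgroup G) P := ⟨c1, fun x a b => c3 ⟨a, b⟩, by simpa only [FullyNorm, top_inf_eq] using c2⟩
  obtain ⟨t, tS, tN, tP, t2, tu⟩ := hE.uniq c5 h2
  obtain ⟨π, a1, a2, a3⟩ := exists_rep h.r4 (pS c1)
  have hφ := π.rangeRestrict_surjective
  have hk : ∀ n, π.rangeRestrict n = 1 ↔ n.1 ∈ Kn P := fun n =>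
    ⟨fun hn => le_Kn_of_rad c4 π.ker (fun m hm => (a3 m hm).imp fun _ => mem_sup_right) n
      (congrArg Subtype.val hn), fun hn => Subtype.ext (a2 n hn)⟩
  have hs : ∀ g, Perm.sign (π.range.subtype g) = 1 := by rintro ⟨_, n, rfl⟩; exact a1 n
  generalize π.rangeRestrict = φ at hφ hk
  have hP : ∀ n : Ns P, n.1 ∈ (S : Subgroup G) → φ n = 1 → n.1 ∈ P :=
    fun n hn h3 => mem_of_Kn c1 hE.cent hn ((hk n).1 h3)
  have hR : IsSylowIn 2 ((((S : Subgroup G) ⊓ Ns P).subgroupOf (Ns P)).map φ) ⊤ := by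
    simpa only [map_top_of_surjective φ hφ] using hE.syl.subgroupOf_top.map φ
  have hm : ∀ r (a : r ∈ (S : Subgroup G)) (b : r ∈ Ns P),
      φ ⟨r, b⟩ ∈ (((S : Subgroup G) ⊓ Ns P).subgroupOf (Ns P)).map φ :=
    fun r a b => mem_map_of_mem φ ⟨a, b⟩
  have b1 : φ ⟨t, tN⟩ ≠ 1 := fun h3 => tP (hP _ tS h3)
  have b2 : φ ⟨t, tN⟩ * φ ⟨t, tN⟩ = 1 := by
    rw [← map_mul]; exact (hk _).2 (mem_sup_left t2)
  have hu : ∀ r ∈ (((S : Subgroup G) ⊓ Ns P).subgroupOf (Ns P)).map φ, r * r = 1 →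
      r = 1 ∨ r = φ ⟨t, tN⟩ := by
    rintro _ ⟨r, hr, rfl⟩ h3
    refine (tu r hr.1 r.2 (hP (r * r) (mul_mem hr.1 hr.1) (by rwa [map_mul]))).imp
      (fun h4 => (hk _).2 (mem_sup_left h4)) fun h4 => ?_
    have := (hk (r * ⟨t, tN⟩)).2 (mem_sup_left h4)
    rw [map_mul, ← b2] at this
    exact mul_right_cancel this
  have nc : ∃ g, g * φ ⟨t, tN⟩ * g⁻¹ ≠ φ ⟨t, tN⟩ := by
    by_contra h3
    push Not at h3
    have : (zpowers (φ ⟨t, tN⟩)).Normal := ⟨fun a ha g => by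
      rcases (mem_zp b2).1 ha with rfl | rfl
      · simp
      · rw [h3]; exact ha⟩
    refine b1 ((hk _).2 (le_Kn_of_rad c4 ((zpowers (φ ⟨t, tN⟩)).comap φ)
      (fun m hm => ⟨1, (hk (m ^ 2 ^ 1)).1 ?_⟩) _ (mem_zpowers _)))
    rw [map_pow, pow_one, sq]
    rcases (mem_zp b2).1 hm with h4 | h4 <;> rw [h4]
    exacts [one_mul _, b2]
  have hR2 : ∀ {s} (sS : s ∈ (S : Subgroup G)) (sN : s ∈ Ns P),
      (∀ r ∈ (((S : Subgroup G) ⊓ Ns P).subgroupOf (Ns P)).map φ, r = 1 ∨ r * φ ⟨s, sN⟩ = 1) →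
      R2 (S : Subgroup G) P s := fun sS sN h3 r a b =>
    (h3 _ (hm r a b)).imp (hP _ a) fun h4 => hP (⟨r, b⟩ * ⟨_, sN⟩) (mul_mem a sS) (by rwa [map_mul])
  obtain ⟨D, hD, d1, ⟨d2, d3, d4⟩ | ⟨d2, d3, d4, d5⟩⟩ :=
    A8.main π.range.subtype (subtype_injective _) hs hR (hm t tS tN) b2 b1 hu nc
  · have key : ∀ {s} (sS : s ∈ (S : Subgroup G)) (sN : s ∈ Ns P), φ ⟨s, sN⟩ = φ ⟨t, tN⟩ →
        Ph (S : Subgroup G) P (pre φ D) s := fun {s} sS sN e =>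
      { hE with
        KM := Kn_le_pre φ hk
        MN := pre_le φ
        nM := inf_le_right.trans (pre_norm φ)
        min := fun N n1 n2 n3 => by
          have n4 := n2.trans (pre_le φ)
          rw [← pre_map φ hk n1 n4, ← pre_bot φ hk]
          refine (d4 _ ?_ ?_).imp (congrArg _) (congrArg _)
          · rintro _ ⟨a, ha, rfl⟩
            exact (mem_pre φ a.2).1 (n2 ha)
          · refine le_trans (map_mono fun a ha => ?_) (le_normalizer_map φ)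
            exact mem_normalizer_iff.2 fun b => mem_normalizer_iff.1 (n3 ha) b
        idx := by
          rw [rel_pre φ hφ hk]
          refine d2.imp id (And.imp id fun h3 m hm => (hk (⟨m, pre_le φ hm⟩ ^ 3)).1 ?_)
          rw [map_pow]
          exact h3 _ ((mem_pre φ _).1 hm)
        tS := sS
        tN := sN
        t2 := hP (⟨s, sN⟩ * ⟨s, sN⟩) (mul_mem sS sS) (by rw [map_mul, e, b2])
        inv := fun m hm => (hk (⟨s, sN⟩ * ⟨m, pre_le φ hm⟩ * ⟨s, sN⟩⁻¹ * ⟨m, pre_le φ hm⟩)).1 (by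
          rw [map_mul, map_mul, map_mul, map_inv, e]
          exact d1 _ ((mem_pre φ _).1 hm)) }
    rcases A8.shape hR.isPGroup b2 hu d3 with h3 | ⟨_, ⟨y, hy, rfl⟩, h3, h4⟩
    · exact Or.inr ⟨_, t, key tS tN rfl, Or.inl (hR2 tS tN h3)⟩
    · have e : φ ⟨y.1 * y.1, mul_mem y.2 y.2⟩ = φ ⟨t, tN⟩ := (map_mul φ y y).trans h3
      refine Or.inr ⟨_, _, key (mul_mem hy.1 hy.1) _ e, Or.inr ⟨y, hy.1, y.2, rfl, fun r a b =>
        (h4 _ (hm r a b)).imp (hP _ a) (Or.imp (fun h5 => ?_) (Or.imp (fun h5 => ?_)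
          fun h5 => ?_))⟩⟩
      · exact hP (⟨r, b⟩ * (y * y)) (mul_mem a (mul_mem hy.1 hy.1)) (by
          rwa [map_mul, map_mul, h3])
      · exact hP (⟨r, b⟩ * y) (mul_mem a hy.1) (by rwa [map_mul])
      · exact hP (⟨r, b⟩ * y⁻¹) (mul_mem a (inv_mem hy.1)) (by rwa [map_mul, map_inv])
  · have key : ∀ n ∈ pre φ D, ∃ p ∈ P, ∃ d, n = p * d ∧
        (d ∈ Cs P ∨ ∃ s, Tri (S : Subgroup G) P d s) := fun n hn =>
      hE.tri (hR2 tS tN d2) tS tN tP (pre_le φ hn) ((hk (⟨n, pre_le φ hn⟩ ^ 3)).1 (by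
        rw [map_pow]; exact d4 _ ((mem_pre φ _).1 hn)))
        ((hk (⟨t, tN⟩ * ⟨n, pre_le φ hn⟩ * ⟨t, tN⟩⁻¹ * ⟨n, pre_le φ hn⟩)).1 (by
          rw [map_mul, map_mul, map_mul, map_inv]
          exact d1 _ ((mem_pre φ _).1 hn)))
    have adj : ∀ a, a ∈ D ⊔ zpowers (φ ⟨t, tN⟩) ↔ a ∈ D ∨ (φ ⟨t, tN⟩)⁻¹ * a ∈ D :=
      fun a => GHB.mem_adj (fun b hb => hD.conj_mem b hb _) (b2 ▸ one_mem _)
    have hY : (D ⊔ zpowers (φ ⟨t, tN⟩)).Normal := ⟨fun a ha g => by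
      rw [adj] at ha ⊢
      refine ha.imp (fun h3 => hD.conj_mem a h3 g) fun h3 => ?_
      have := mul_mem (hD.conj_mem _ (d5 g) (φ ⟨t, tN⟩)⁻¹) (hD.conj_mem _ h3 g)
      generalize φ ⟨t, tN⟩ = b at this
      rwa [show b⁻¹ * (g * b * g⁻¹ * b⁻¹) * b⁻¹⁻¹ * (g * (b⁻¹ * a) * g⁻¹) =
        b⁻¹ * (g * a * g⁻¹) by group] at this⟩
    have hPY : P ≤ pre φ (D ⊔ zpowers (φ ⟨t, tN⟩)) := le_sup_left.trans (Kn_le_pre φ hk)
    have hX := c6.2.2.2.2 _ hPY (pre_le φ) (pre_norm φ) (by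
      by_contra h3
      exact tP ((IsSylowIn.eq_of_le ⟨hPY, pS c1, h3⟩ (pS (sup_le c1 (zpowers_le.2 tS)))
        le_sup_left (sup_le hPY (zpowers_le.2 ((mem_pre φ tN).2
          (mem_sup_right (mem_zpowers _)))))).le (mem_sup_right (mem_zpowers t))))
    refine Or.inl ⟨?_, key x ?_⟩
    · obtain ⟨a, ha, ha1⟩ := (bot_or_exists_ne_one D).resolve_left d3
      obtain ⟨n, rfl⟩ := hφ a
      obtain ⟨p, hp, d, e, h3 | h3⟩ := key n ((mem_pre φ n.2).2 ha)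
      · exact absurd ((hk n).2 (mem_Kn.2 ⟨p, hp, d, h3, e⟩)) ha1
      · exact ⟨d, h3⟩
    · rw [Local.resOf_eq_closure] at c7
      refine (closure_le _).2 (fun g hg => ?_) c7
      have gN := pre_le φ (hX hg.1)
      refine (mem_pre φ gN).2 (((adj _).1 ((mem_pre φ gN).1 (hX hg.1))).elim id fun h3 => ?_)
      have h4 : φ ⟨g, gN⟩ ^ 2 ∈ D := by
        have := mul_mem (hD.conj_mem _ h3 (φ ⟨t, tN⟩)⁻¹) h3
        generalize φ ⟨t, tN⟩ = b at this b2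
        generalize φ ⟨g, gN⟩ = a at this
        rwa [show b⁻¹ * (b⁻¹ * a) * b⁻¹⁻¹ * (b⁻¹ * a) = (b * b)⁻¹ * a ^ 2 by rw [sq]; group, b2, inv_one,
          one_mul] at this
      obtain ⟨m, hm⟩ := Nat.coprime_two_right.1 hg.2
      have h5 : φ ⟨g, gN⟩ ^ (2 * m + 1) = 1 := by
        rw [← map_pow, ← hm, show (⟨g, gN⟩ : Ns P) ^ orderOf g = 1 from
          Subtype.ext (pow_orderOf_eq_one g), map_one]
      rw [pow_succ, pow_mul] at h5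
      exact (mul_mem_cancel_left (pow_mem h4 m)).1 (h5 ▸ one_mem _)

end Cfsg.Lib.GHM
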