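import Cfsg.Agent.GHM.DhA
import Cfsg.Agent.GHM.VF
import Cfsg.Agent.GHM.L0g

/-!
# Simple groups of sectional 2-rank at most four: a good four-group with central involution
-/

set_option autoImplicit false

namespace Cfsg.Lib.GHM

open Subgroup Cfsg.Lib.Trans Cfsg.Lib.Gold Cfsg.Lib.Rank2 Cfsg.Lib.GHB
open scoped commutatorElement

universe u

variable {G : Type u} [Group G] [Finite G] {S : Sylow 2 G} {H P Q : Subgroup G}
  {a b c d g h r s u w y z : G} {k : ℕ}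

namespace D1a

omit [Finite G] in
theorem cj_Phi (g : G) (Q : Subgroup G) : cj g (Phi Q) = Phi (cj g Q) := map_Phi _

omit [Finite G] in
theorem Phi_mono (h : P ≤ Q) : Phi P ≤ Phi Q := Phi_le_iff.2 fun _ hx => sq_mem_Phi (h hx)

omit [Finite G] in
theorem sq_of_conj (h1 : z * z = 1) (h2 : IsConj z y) : y * y = 1 := by
  obtain ⟨g, rfl⟩ := isConj_iff.1 h2
  rw [conj_mul, h1, mul_one, mul_inv_cancel]

omit [Finite G] in
theorem rf_b : Rf a b b := ⟨0, by simp⟩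

theorem i_ne (h0 : Dh H (k + 1) a b z) (h1 : u * a ^ 2 ^ k = a ^ 2 ^ k * u) :
    u * a ^ 2 ^ k * u⁻¹ ≠ (a ^ 2 ^ k)⁻¹ := fun e => h0.z1 (by
  rw [h1, mul_inv_cancel_right] at e
  rw [← h0.i2]
  exact mul_eq_one_iff_eq_inv.2 e)

/-- An element of `⟨a⟩` inverted by an element centralising `i` has order at most two. -/
theorem small (h0 : Dh H (k + 1) a b z) (h1 : u * a ^ 2 ^ k = a ^ 2 ^ k * u) (hc : c ∈ zpowers a)
    (h2 : u * c * u⁻¹ = c⁻¹) : c = 1 ∨ c = z := by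
  have key : ∀ (j : ℕ) (c : G), c ∈ zpowers a → c ^ 2 ^ j = 1 → u * c * u⁻¹ = c⁻¹ → c * c = 1 := by
    intro j
    induction j with
    | zero => intro c _ e _; rw [pow_zero, pow_one] at e; rw [e, mul_one]
    | succ j ih =>
      intro c hc e h2
      rcases h0.inv (mul_mem hc hc) (ih (c * c) (mul_mem hc hc) (by rwa [← pow_two, ← pow_mul, ← pow_succ'])
        (by rw [← conj_mul, h2, mul_inv_rev])) with h3 | h3
      · exact h3
      rcases h0.sqz (mem_sup_left hc) h3 with rfl | rfl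
      · exact absurd h2 (i_ne h0 h1)
      · exact absurd (by rw [← inv_inj, conj_inv, h2]) (i_ne h0 h1).symm
  exact h0.inv hc (key (k + 2) c hc (by
    rw [← h0.ord]
    exact orderOf_dvd_iff_pow_eq_one.1 (orderOf_dvd_of_mem_zpowers hc)) h2)

omit [Finite G] in
theorem conj_of_inv {i : G} (h : y * i * y⁻¹ = i⁻¹) : i * y * i⁻¹ = i * i * y := by
  calc _ = i * (y * i * y⁻¹)⁻¹ * y := by group
    _ = _ := by rw [h, inv_inv]

end D1a

open D1a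

theorem D1.ns (h0 : D1 S P d s z b a k) (hy : Rf a b y) : z ∉ Phi ((S : Subgroup G) ⊓ C1 y) := by
  obtain ⟨g, hg, rfl⟩ := h0.dh.rft hy
  have e : (S : Subgroup G) ⊓ C1 b = P := by
    ext x
    exact ⟨fun hx => (h0.vf.mem x hx.1).2 ⟨h0.dh.zc hx.1, mem_C1.1 hx.2⟩, fun hx =>
      ⟨h0.vf.le hx, mem_C1.2 ((h0.vf.mem x (h0.vf.le hx)).1 hx).2⟩⟩
  rw [← cj_C1, ← cj_eq_of_mem_normalizer (le_normalizer hg), ← cj_inf, e, ← cj_Phi, mem_cj,
    h0.dh.zc (inv_mem hg), inv_mul_cancel_right]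
  exact h0.vf.nphi

theorem D1.cjr (h0 : D1 S P d s z b a k) (hy : Rf a b y) : IsConj z y := by
  obtain ⟨g, -, rfl⟩ := h0.dh.rft hy
  exact h0.vf.conj.trans (isConj_iff.2 ⟨g, rfl⟩)

namespace D1

variable (h0 : D1 S P d s z b a (k + 1))
include h0

theorem invc (hu : u ∈ (S : Subgroup G)) (h1 : u * u = 1) (h2 : u * a ^ 2 ^ k = a ^ 2 ^ k * u) :
    u ∈ Cs (Dl a b) := by
  have key : ∀ y, Rf a b y → u * y = y * u := fun y hy => by
    obtain ⟨l, e1⟩ := h0.dh.rfc hy hu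
    obtain ⟨m, e2⟩ := id hy
    have e3 : u * y * u⁻¹ = a ^ (l - m) * y := by rw [e1, e2]; group
    have e4 : u * a ^ (l - m) * u⁻¹ = (a ^ (l - m))⁻¹ := by
      have e5 : u * (u * y * u⁻¹) * u⁻¹ = y := by
        calc _ = (u * u) * y * (u * u)⁻¹ := by group
          _ = y := by rw [h1]; group
      rw [e3, ← conj_mul, e3, ← mul_assoc, mul_eq_right] at e5
      exact eq_inv_of_mul_eq_one_left e5
    rcases small h0.dh h2 (zpow_mem (mem_zpowers a) _) e4 with e5 | e5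
    · rw [e5, one_mul] at e3
      exact mul_inv_eq_iff_eq_mul.1 e3
    rw [e5] at e3
    have e6 : a ^ 2 ^ k * y * (a ^ 2 ^ k)⁻¹ = z * y := by
      rw [conj_of_inv (by rw [← conj_pow, h0.dh.rfa hy, inv_pow]), h0.dh.i2]
    have e7 : u * a ^ 2 ^ k * (u * a ^ 2 ^ k) = z := by
      rw [mul_assoc, ← mul_assoc _ u, ← h2, mul_assoc, h0.dh.i2, ← mul_assoc, h1, one_mul]
    refine absurd (e7 ▸ sq_mem_Phi (x := u * a ^ 2 ^ k) ⟨mul_mem hu (pow_mem h0.dh.aH _),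
      mem_C1.2 (mul_inv_eq_iff_eq_mul.1 ?_)⟩) (h0.ns hy)
    calc _ = u * (a ^ 2 ^ k * y * (a ^ 2 ^ k)⁻¹) * u⁻¹ := by group
      _ = y := by
        rw [e6, ← conj_mul, e3, h0.dh.zc hu, mul_inv_cancel_right, ← mul_assoc, h0.dh.z2, one_mul]
  have h3 : Commute u b := key b rf_b
  have h4 : Commute u a := by
    simpa using Commute.mul_right (key (a * b) ⟨1, by simp⟩) h3.inv_right
  exact cs_of fun x hx => (mem_C1.1 ((sup_le (zpowers_le.2 (mem_C1.2 h4.symm))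
    (zpowers_le.2 (mem_C1.2 h3.symm)) : _ ≤ C1 u) hx)).symm

theorem sqz (hu : u ∈ (S : Subgroup G)) (h1 : u * u = z) (h2 : u * a ^ 2 ^ k = a ^ 2 ^ k * u) :
    ∃ c ∈ (S : Subgroup G), c ∈ Cs (Dl a b) ∧ c * c = 1 ∧ u = a ^ 2 ^ k * c := by
  have h3 : Commute u (a ^ 2 ^ k) := h2
  have h4 := mul_mem (inv_mem (pow_mem h0.dh.aH (2 ^ k))) hu
  have h5 : (a ^ 2 ^ k)⁻¹ * u * ((a ^ 2 ^ k)⁻¹ * u) = 1 := by
    rw [h3.inv_right.mul_mul_mul_comm, h1, ← mul_inv_rev, h0.dh.i2, inv_mul_cancel]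
  exact ⟨_, h4, h0.invc h4 h5 ((Commute.refl _).inv_left.mul_left h3), h5, by group⟩

theorem l0 (hy : y ∈ (S : Subgroup G)) (h1 : IsConj z y) (h2 : y ≠ z) :
    y * a ^ 2 ^ k * y⁻¹ = (a ^ 2 ^ k)⁻¹ :=
  (h0.dh.acti hy).resolve_left fun h3 => h2 (l0g h0.cx.r4 h0.dh.nc (fun g hg h hh h4 =>
    h0.invc (mul_mem (mul_mem (mul_mem hg hh) (inv_mem hg)) (inv_mem hh)) (sq_of_conj h0.dh.z2 h4)
      (Commute.pow_right (h0.dh.cma hg hh) _)) hy h1 (h0.invc hy (sq_of_conj h0.dh.z2 h1) h3))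

theorem l0c (hg : g ∈ (S : Subgroup G)) (hh : h ∈ (S : Subgroup G)) (h1 : IsConj z ⁅g, h⁆) :
    ⁅g, h⁆ = z := by_contra fun h2 => i_ne h0.dh (Commute.pow_right (h0.dh.cma hg hh) _)
  (h0.l0 (mul_mem (mul_mem (mul_mem hg hh) (inv_mem hg)) (inv_mem hh)) h1 h2)

theorem nsD (hy : y ∈ (S : Subgroup G)) (h1 : IsConj z y) (h2 : y ≠ z) :
    z ∉ Phi ((S : Subgroup G) ⊓ C1 y) := fun h3 => by
  obtain ⟨g, e, hg⟩ := ext_cen (cs_of fun x hx => (h0.dh.zc hx).symm) h1.symm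
  have h4 : g * z * g⁻¹ ∈ Phi (S : Subgroup G) :=
    Phi_mono (by rintro _ ⟨x, hx, rfl⟩; exact hg x hx.1 (mem_C1.1 hx.2))
      (cj_Phi g _ ▸ conj_mem_cj.2 h3)
  exact i_ne h0.dh (h0.dh.phii h4) (h0.l0 (Phi_le h4) (isConj_iff.2 ⟨g, rfl⟩) fun e1 =>
    h2 (by simpa using e.trans e1.symm))

theorem pure (hw : w ∈ (S : Subgroup G)) (hy : y ∈ (S : Subgroup G)) (h1 : IsConj z w) (h2 : w ≠ z)
    (h3 : IsConj z y) (h4 : y * w = w * y) : y ∈ F4 z w := by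
  rw [mem_F4 h0.dh.z2 (sq_of_conj h0.dh.z2 h1) (h0.dh.zc hw).symm]
  by_contra! hn
  obtain ⟨-, n1, n2, n3⟩ := hn
  obtain ⟨g, e, hg⟩ := ext_cen (cs_of fun x hx => (h0.dh.zc hx).symm) h3.symm
  have key : ∀ x ∈ (S : Subgroup G), IsConj z x → x * y = y * x → y ≠ x →
      g * x * g⁻¹ * a ^ 2 ^ k * (g * x * g⁻¹)⁻¹ = (a ^ 2 ^ k)⁻¹ := fun x hx c1 c2 c3 =>
    h0.l0 (hg x hx c2) (c1.trans (isConj_iff.2 ⟨g, rfl⟩)) fun e1 => c3 (by simpa using e.trans e1.symm)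
  have a1 := key z h0.dh.zH (IsConj.refl z) (h0.dh.zc hy).symm n1
  have a2 := key w hw h1 h4.symm n2
  have a3 := key (z * w) (mul_mem h0.dh.zH hw) (h1.trans (isConj_iff.2 ⟨a ^ 2 ^ k, by
    rw [conj_of_inv (h0.l0 hw h1 h2), h0.dh.i2]⟩))
    (Commute.mul_left (h0.dh.zc hy).symm h4.symm) n3
  refine i_ne h0.dh (mul_inv_eq_iff_eq_mul.1 ?_) a3
  calc _ = g * z * g⁻¹ * (g * w * g⁻¹ * a ^ 2 ^ k * (g * w * g⁻¹)⁻¹) * (g * z * g⁻¹)⁻¹ := by group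
    _ = _ := by rw [a2, ← conj_inv, a1, inv_inv]

theorem l1 (hy : y ∈ (S : Subgroup G)) (h1 : IsConj z y) (h2 : y ≠ z) :
    Rf a b y ∨ Sw (S : Subgroup G) a b y := by
  obtain ⟨κ, l, -, e1, e2⟩ := h0.dh.act hy
  have y2 := sq_of_conj h0.dh.z2 h1
  have c : ∀ o : ℤ, Odd o → IsCoprime o (2 ^ (k + 1 + 1)) := fun o ho =>
    (Int.isCoprime_two_right.2 ho).pow_right
  rcases Int.even_or_odd l with ⟨l, rfl⟩ | hl
  · left
    have e3 := h0.l0 hy h1 h2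
    rw [← conj_pow, e1, ← zpow_natCast, ← zpow_natCast, ← zpow_mul, ← zpow_neg, h0.dh.pow_eq] at e3
    obtain ⟨t, ht⟩ := e3.dvd
    have e4 : κ = 2 * (-(2 * t + 1)) + 1 := by
      have : (2 : ℤ) ^ k * (-1 - κ) = 2 ^ k * (4 * t) := by push_cast at ht; linear_combination ht
      linear_combination -(mul_left_cancel₀ (by positivity) this)
    obtain ⟨p, q, e5⟩ := c (2 * t + 1) (odd_two_mul_add_one t)
    have e6 : y * (a ^ (l * p) * b) * y⁻¹ = a ^ (l * p) * b := by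
      rw [← conj_mul, ← conj_zpow, e1, e2, ← zpow_mul, ← mul_assoc, ← zpow_add, mul_left_inj,
        h0.dh.pow_eq]
      exact (Int.modEq_iff_dvd.2 ⟨-(2 * l * q), by rw [e4]; linear_combination (2 * l) * e5⟩)
    have r1 : Rf a b (a ^ (l * p) * b) := ⟨_, rfl⟩
    have hw := h0.dh.le (h0.dh.mem.2 (Or.inr r1))
    have := h0.pure hw hy (h0.cjr r1) (fun e => h0.dh.rfn r1 (e ▸ h0.dh.za')) h1
      (mul_inv_eq_iff_eq_mul.1 e6)
    rcases (mem_F4 h0.dh.z2 (h0.dh.rf2 r1) (h0.dh.zc hw).symm).1 this with e | e | e | e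
    · exact absurd (isConj_one_left.1 (e ▸ h1)) h0.dh.z1
    · exact absurd e h2
    · exact e ▸ r1
    · exact ⟨2 ^ (k + 1) + l * p, by
        rw [e, ← h0.dh.za, zpow_add, ← zpow_natCast, mul_assoc]; push_cast; rfl⟩
  · refine Or.inr ⟨hy, ?_, l, hl, e2⟩
    have e3 : y * (y * b * y⁻¹) * y⁻¹ = b := by
      calc _ = (y * y) * b * (y * y)⁻¹ := by group
        _ = b := by rw [y2]; group
    rw [e2, ← conj_mul, ← conj_zpow, e1, e2, ← zpow_mul, ← mul_assoc, ← zpow_add, mul_eq_right,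
      ← zpow_zero a, h0.dh.pow_eq] at e3
    rw [e1, ← zpow_neg_one, h0.dh.pow_eq]
    exact Int.modEq_iff_dvd.2 ((c l hl).symm.dvd_of_dvd_mul_right
      (by rw [show (-1 - κ) * l = 0 - (κ * l + l) by ring]; exact e3.dvd))

theorem swc (hr : Sw (S : Subgroup G) a b r) (l : ℤ) :
    ∃ δ ∈ Dl a b, δ * r * δ⁻¹ = r * a ^ l := by
  obtain ⟨-, h1, j, hj, h2⟩ := hr
  have h3 : ∀ m : ℤ, a ^ m * r = r * a ^ (-m) := fun m => by
    rw [← mul_inv_eq_iff_eq_mul.1 (show r * a ^ (-m) * r⁻¹ = a ^ m by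
      rw [← conj_zpow, h1, inv_zpow', neg_neg])]
  have h4 : ∀ m : ℤ, a ^ m ∈ Dl a b := fun m => mem_sup_left (zpow_mem (mem_zpowers a) m)
  rcases Int.even_or_odd l with ⟨m, rfl⟩ | hl
  · exact ⟨a ^ (-m), h4 _, by rw [h3]; group⟩
  · obtain ⟨m, hm⟩ := hj.sub_odd hl
    refine ⟨a ^ m * b, mul_mem (h4 m) (mem_sup_right (mem_zpowers b)), ?_⟩
    calc _ = a ^ m * a ^ (-j) * (r * b * r⁻¹)⁻¹⁻¹ * r * b⁻¹ * a ^ (-m) := by rw [h2]; group
      _ = a ^ (m - j) * r * a ^ (-m) := by group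
      _ = _ := by rw [h3, show l = j - m - m by linear_combination -hm]; group

theorem swn (hr : Sw (S : Subgroup G) a b r) : r ∉ Dl a b := fun h1 => by
  obtain ⟨K, -, h2, -, h3⟩ := h0.dh.par
  obtain ⟨h4, -, j, hj, h5⟩ := hr
  exact Int.not_even_iff_odd.2 hj ((h3 r h4 b rf_b j h5).1 (h2 h1))

theorem swj (hr : Sw (S : Subgroup G) a b r) (hg : g ∈ (S : Subgroup G)) :
    Sw (S : Subgroup G) a b (g * r * g⁻¹) := by
  obtain ⟨K, -, -, h2, h3⟩ := h0.dh.par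
  obtain ⟨h4, h5, j, hj, h6⟩ := hr
  have h7 := mul_mem (mul_mem hg h4) (inv_mem hg)
  obtain ⟨κ, -, -, e1, -⟩ := h0.dh.act (inv_mem hg)
  obtain ⟨l, e2⟩ := h0.dh.cb _ h7
  refine ⟨h7, ?_, l, Int.not_even_iff_odd.1 fun hl => Int.not_even_iff_odd.2 hj
    ((h3 r h4 b rf_b j h6).1 ?_), e2⟩
  · calc _ = g * (r * (g⁻¹ * a * g⁻¹⁻¹) * r⁻¹) * g⁻¹ := by group
      _ = _ := by rw [e1, ← conj_zpow, h5, inv_zpow, ← e1]; group
  · simpa [mul_assoc] using h2.conj_mem (inv_mem hg) h7 ((h3 _ h7 b rf_b l e2).2 hl)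

end D1

end Cfsg.Lib.GHM
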