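import Cfsg.Agent.GHM.D1b

/-!
# Simple groups of sectional 2-rank at most four: generators of the first two types
-/

set_option autoImplicit false
set_option linter.unusedSectionVars false

namespace Cfsg.Lib.GHM

open Subgroup Cfsg.Lib.Trans Cfsg.Lib.Gold Cfsg.Lib.Rank2 Cfsg.Lib.GHB
open scoped commutatorElement

universe u

variable {G : Type u} [Group G] [Finite G] {S : Sylow 2 G} {H P R U V W X : Subgroup G}
  {a b c d e f g n r s x y z : G} {k : ℕ}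

namespace D1c

theorem ns_cm (h1 : W ≤ V) (h2 : ∀ g ∈ V, ⁅x, g⁆ ∈ W) : x ∈ Ns V :=
  ns_of fun g hg => conj_eq_cm x g ▸ mul_mem (h1 (h2 g hg)) hg

theorem ns_cl {A : Set G} (h : ∀ x ∈ A, n * x * n⁻¹ ∈ closure A) : n ∈ Ns (closure A) :=
  ns_of fun _ hx => (closure_le ((closure A).comap (MulAut.conj n).toMonoidHom)).2 h hx

theorem cs_cl {A : Set G} (h : ∀ x ∈ A, c * x = x * c) : c ∈ Cs (closure A) :=
  cs_of fun _ hx => (mem_C1.1 ((closure_le (C1 c)).2 (fun x hx => mem_C1.2 (h x hx).symm) hx)).symm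

theorem ns_zp (h : n * x * n⁻¹ ∈ zpowers x) : n ∈ Ns (zpowers x) :=
  ns_of (by rintro _ ⟨j, rfl⟩; simp only [← conj_zpow]; exact zpow_mem h j)

theorem cs_zp (h : n * x = x * n) : n ∈ Cs (zpowers x) :=
  cs_of (by rintro _ ⟨j, rfl⟩; exact (Commute.zpow_right h j).eq)

theorem ns_inf (h1 : n ∈ Ns U) (h2 : n ∈ Ns V) : n ∈ Ns (U ⊓ V) :=
  ns_of fun _ hx => ⟨mem_normalizer_conj h1 hx.1, mem_normalizer_conj h2 hx.2⟩

theorem ns_bot : n ∈ Ns (⊥ : Subgroup G) := ns_of fun _ hx => by simp [mem_bot.1 hx]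

theorem ns_cs (h : n ∈ Ns U) : n ∈ Ns (Cs U) := ns_of fun _ hx => cs_ns hx h

theorem cm_eq (x g : G) : ⁅x, g⁆ = x * (g * x * g⁻¹)⁻¹ := by
  simp only [commutatorElement_def]; group

theorem conj_of (h : g * x = x * g) : g * x * g⁻¹ = x := by rw [h, mul_inv_cancel_right]

theorem of_conj (h : g * x * g⁻¹ = x) : g * x = x * g := mul_inv_eq_iff_eq_mul.1 h

theorem cj_self (g x : G) : IsConj x (g * x * g⁻¹) := isConj_iff.2 ⟨g, rfl⟩

variable (h0 : Dh H (k + 1) a b z)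
include h0

theorem ci (hg : g ∈ H) : ⁅a ^ 2 ^ k, g⁆ ∈ zpowers z := by
  rcases h0.acti hg with e | e
  · rw [cm_eq, conj_of e, mul_inv_cancel]; exact one_mem _
  · rw [cm_eq, e, inv_inv, h0.i2]; exact mem_zpowers z

theorem cb (hg : g ∈ H) {l : ℤ} (e : g * b * g⁻¹ = a ^ l * b) : ⁅b, g⁆ = (a ^ l)⁻¹ := by
  rw [cm_eq, e]; group

theorem i_ne : a ^ 2 ^ k ≠ (a ^ 2 ^ k)⁻¹ := fun e =>
  h0.z1 (h0.i2.symm.trans (mul_eq_one_iff_eq_inv.2 e))

theorem odd_ne {j : ℤ} (hj : Odd j) (h : a ^ j * a ^ j = 1) : False := by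
  rcases h0.inv (zpow_mem_zpowers a j) h with e | e
  · exact Int.not_even_iff_odd.2 hj ((h0.ev_iff (e.trans (zpow_zero a).symm)).2 Even.zero)
  · exact Int.not_even_iff_odd.2 hj ((h0.ev_iff (e.trans h0.zz.symm)).2
      (Int.even_pow.2 ⟨even_two, k.succ_ne_zero⟩))

/-- an element centralising `a` and a swap moves `b` inside `⟨z⟩ b` -/
theorem cen_sw (hc : c ∈ H) (h1 : c * a = a * c) (he : Sw H a b e) (h2 : c * e = e * c) :
    ⁅b, c⁆ ∈ zpowers z := by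
  obtain ⟨-, h3, j, -, h4⟩ := he
  obtain ⟨l, h5⟩ := h0.cb c hc
  have h6 : c * (e * b * e⁻¹) * c⁻¹ = e * (c * b * c⁻¹) * e⁻¹ := by
    calc _ = c * e * b * (c * e)⁻¹ := by group
      _ = _ := by rw [h2]; group
  have h7 : c * a ^ j * c⁻¹ = a ^ j := by rw [← conj_zpow, conj_of h1]
  have h8 : e * a ^ l * e⁻¹ = (a ^ l)⁻¹ := by rw [← conj_zpow, h3, inv_zpow]
  rw [h4, h5, ← conj_mul, ← conj_mul, h4, h5, h7, h8, ← mul_assoc, ← mul_assoc, mul_left_inj,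
    (zpow_mul_comm a j l), mul_left_inj] at h6
  rw [cb h0 hc h5]
  exact inv_mem ((mem_zp h0.z2).2 (h0.inv (zpow_mem_zpowers a l) (mul_eq_one_iff_eq_inv.2 h6)))

theorem exists_x0 : ∃ x ∈ H, (∀ g ∈ H, ⁅x, g⁆ ∈ zpowers (a ^ 2 ^ k)) ∧
    (∀ e, Sw H a b e → ⁅x, e⁆ * ⁅x, e⁆ ≠ 1) ∧ ∀ e, Sw H a b e → ∀ c ∈ H,
      c * a ^ 2 ^ k = a ^ 2 ^ k * c → c * e = e * c → ⁅x, c⁆ ∈ zpowers z := by
  rcases k with _ | m
  · refine ⟨b, h0.bH, fun g hg => ?_, fun e ⟨he, _, j, hj, h1⟩ h2 => ?_, fun e he c hc h1 h2 =>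
      cen_sw h0 hc (by simpa using h1) he h2⟩
    · obtain ⟨l, hl⟩ := h0.cb g hg
      rw [cb h0 hg hl, pow_zero, pow_one]
      exact inv_mem (zpow_mem_zpowers a l)
    · rw [cb h0 he h1, ← mul_inv_rev, inv_eq_one] at h2
      exact odd_ne h0 hj h2
  · have e2 : a ^ 2 ^ m * a ^ 2 ^ m = a ^ 2 ^ (m + 1) := by rw [← pow_add, ← two_mul, pow_succ']
    refine ⟨a ^ 2 ^ m, pow_mem h0.aH _, fun g hg => ?_, fun e ⟨he, h1, _⟩ h2 => ?_,
      fun e he c hc h1 h2 => ?_⟩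
    · obtain ⟨κ, l, ⟨t, rfl⟩, h1, -⟩ := h0.act hg
      rw [cm_eq, ← conj_pow, h1, ← e2]
      refine ⟨-t, ?_⟩
      simp only [← zpow_natCast, ← zpow_mul, ← zpow_add, ← zpow_neg]
      congr 1
      ring
    · rw [cm_eq, ← conj_pow, h1, inv_pow, inv_inv, e2, h0.i2] at h2
      exact h0.z1 h2
    · have h3 := h0.ca hc (npow_mem_zpowers a (2 ^ m))
      have h4 : ⁅a ^ 2 ^ m, c⁆ ∈ zpowers a := by
        rw [cm_eq]; exact mul_mem (npow_mem_zpowers a _) (inv_mem h3)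
      refine (mem_zp h0.z2).2 (h0.inv h4 ?_)
      obtain ⟨t, ht⟩ := mem_zpowers_iff.1 h3
      have h5 : a ^ t * a ^ t = a ^ 2 ^ m * a ^ 2 ^ m := by rw [ht, conj_mul, e2, conj_of h1]
      have h6 : Commute (a ^ t)⁻¹ (a ^ 2 ^ m) := ((Commute.refl a).zpow_left t).inv_left.pow_right _
      rw [cm_eq, ← ht, mul_assoc, ← mul_assoc (a ^ t)⁻¹, h6.eq, mul_assoc, ← mul_assoc,
        ← mul_inv_rev, h5, mul_inv_cancel]

theorem zcs (h1 : R ≤ H) : z ∈ Cs R := cs_of fun _ hx => (h0.zc (h1 hx)).symm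

end D1c

open D1c

namespace D1

variable (h0 : D1 S P d s z b a (k + 1))
include h0

theorem zR (h1 : Gn (S : Subgroup G) R f) : z ∈ R := h1.cent h0.dh.zH (zcs h0.dh h1.le)

theorem gen1 (h1 : Gn (S : Subgroup G) R f) (h2 : f * z ≠ z * f) :
    G1 (S : Subgroup G) R f z (f * z * f⁻¹) := by
  have dh := h0.dh
  have zR := h0.zR h1
  have yR := h1.dP zR
  have yC := cs_ns (zcs dh h1.le) h1.dN
  have yz : f * z * f⁻¹ ≠ z := fun e => h2 (of_conj e)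
  have y2 : f * z * f⁻¹ * (f * z * f⁻¹) = 1 := by rw [conj_mul, dh.z2, mul_one, mul_inv_cancel]
  have zy := (dh.zc (h1.le yR)).symm
  have iR : a ^ 2 ^ k ∉ R := fun h =>
    i_ne dh ((cs_conj yC h).symm.trans (h0.l0 (h1.le yR) (cj_self f z) yz))
  have iS : a ^ 2 ^ k ∈ (S : Subgroup G) := pow_mem dh.aH _
  have fy : f * (f * z * f⁻¹) * f⁻¹ = z * (f * z * f⁻¹) := by
    have h3 := h0.pure (h1.le yR) (h1.le (h1.dP yR)) (cj_self f z) yz
      ((cj_self f z).trans (cj_self f _)) (cs_comm yC (h1.dP yR)).symm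
    rcases (mem_F4 dh.z2 y2 zy).1 h3 with e | e | e | e
    · exact (dh.z1 (by simpa using e)).elim
    · exact (h2 (h1.two' zR (of_conj ((by group : _ = f * (f * z * f⁻¹) * f⁻¹).trans e)))).elim
    · exact (yz (by simpa using e)).elim
    · exact e
  generalize hy : f * z * f⁻¹ = y at *
  have VR : F4 z y ≤ R := sup_le (zpowers_le.2 zR) (zpowers_le.2 yR)
  have zV : zpowers z ≤ F4 z y := le_sup_left
  have RV : R ≤ Cs (F4 z y) := fun p hp => cs_of fun x hx => by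
    rcases (mem_F4 dh.z2 y2 zy).1 hx with rfl | rfl | rfl | rfl
    · simp
    · exact dh.zc (h1.le hp)
    · exact (cs_comm yC hp).symm
    · rw [← mul_assoc, dh.zc (h1.le hp), mul_assoc, ← cs_comm yC hp, mul_assoc]
  have fV : f ∈ Ns (F4 z y) := ns_of fun x hx => by
    rw [mem_F4 dh.z2 y2 zy] at hx ⊢
    rcases hx with rfl | rfl | rfl | rfl
    · simp
    · simp [hy]
    · simp [fy]
    · rw [← conj_mul, hy, fy, zy, ← mul_assoc, y2, one_mul]; simp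
  have RN : R ≤ Ns (F4 z y) := RV.trans (cs_le_ns le_rfl)
  refine ⟨yz, hy, fy, h1.stab VR le_rfl (le_inf RN le_normalizer) ⟨fV, h1.dN⟩ iS
    (ns_cm (zV.trans VR) fun g hg => ci dh (h1.le hg)) iR
    (ns_cm zV fun g hg => ci dh (h1.le (VR hg))) fun g hg => zV (ci dh (h1.le hg)),
    fun x hx => ⟨fun h => (cs_comm yC h).symm, fun h => ?_⟩⟩
  by_contra hn
  have RX : R ≤ (S : Subgroup G) ⊓ C1 y := le_inf h1.le fun p hp => mem_C1.2 (cs_comm yC hp).symm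
  obtain ⟨w, hw, wN, wR⟩ := grow S.isPGroup' h1.le inf_le_left (RX.trans le_normalizer)
    fun h3 => hn (h3 ⟨hx, mem_C1.2 h⟩)
  have h4 := h1.stab (W := ⊥) bot_le VR (le_inf (fun _ _ => ns_bot) RN) ⟨ns_bot, fV⟩ hw.1 wN wR ns_bot
    (fun u hu => by
      rw [mem_bot, commutatorElement_eq_one_iff_mul_comm]
      rcases (mem_F4 dh.z2 y2 zy).1 hu with rfl | rfl | rfl | rfl
      · simp
      · exact dh.zc hw.1
      · exact mem_C1.1 hw.2
      · rw [← mul_assoc, dh.zc hw.1, mul_assoc, mem_C1.1 hw.2, mul_assoc]) z (zV (mem_zpowers z))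
  exact h2 (commutatorElement_eq_one_iff_mul_comm.1 (mem_bot.1 h4))

theorem gen2 (h1 : Gn (S : Subgroup G) R f) (h2 : f * z = z * f) (h3 : a ^ 2 ^ k ∈ R)
    (h4 : f * a ^ 2 ^ k ≠ a ^ 2 ^ k * f) :
    ∃ e e', G2 (S : Subgroup G) R f z (a ^ 2 ^ k) e e' a b := by
  have dh := h0.dh
  have zR := h0.zR h1
  have eR := h1.dP h3
  have eR' := h1.dP eR
  have c1 := cj_self f (a ^ 2 ^ k)
  have c2 := c1.trans (cj_self f _)
  have n1 : f * a ^ 2 ^ k * f⁻¹ ∉ zpowers (a ^ 2 ^ k) := fun h => h4 (h1.cyc h3 h)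
  have n2 : f * (f * a ^ 2 ^ k * f⁻¹) * f⁻¹ ∉ zpowers (a ^ 2 ^ k) := fun h =>
    n1 (mem_normalizer_conj (h1.two (zpowers_le.2 h3) (ns_zp (by
      convert h using 1; group))) (mem_zpowers _))
  obtain ⟨e2, se⟩ := h0.l2 (h1.le eR) c1
  replace se := (se.resolve_left fun e => n1 (by rw [e]; exact mem_zpowers _)).resolve_left
    fun e => n1 (by rw [e]; exact inv_mem (mem_zpowers _))
  have se' := ((h0.l2 (h1.le eR') c2).2.resolve_left fun e => n2 (by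
    rw [e]; exact mem_zpowers _)).resolve_left
    fun e => n2 (by rw [e]; exact inv_mem (mem_zpowers _))
  have a0 : ∀ p ∈ R, p * a ^ 2 ^ k * p⁻¹ = a ^ 2 ^ k ∨ p * a ^ 2 ^ k * p⁻¹ = (a ^ 2 ^ k)⁻¹ :=
    fun p hp => (dh.acti (h1.le hp)).imp_left conj_of
  have step : ∀ x, (∀ p ∈ R, p * x * p⁻¹ = x ∨ p * x * p⁻¹ = x⁻¹) → ∀ p ∈ R,
      p * (f * x * f⁻¹) * p⁻¹ = f * x * f⁻¹ ∨ p * (f * x * f⁻¹) * p⁻¹ = (f * x * f⁻¹)⁻¹ :=
    fun x hx p hp => by
      have e : p * (f * x * f⁻¹) * p⁻¹ = f * (f⁻¹ * p * f * x * (f⁻¹ * p * f)⁻¹) * f⁻¹ := by group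
      rw [e, conj_inv]
      exact (hx _ (mem_normalizer_conj' h1.dN hp)).imp (fun e => by rw [e]) fun e => by rw [e]
  have a1 := step _ a0
  have a2 := step _ a1
  obtain ⟨x, xS, x1, x2, x3⟩ := exists_x0 dh
  have xN : x ∈ Ns R := ns_cm (zpowers_le.2 h3) fun g hg => x1 g (h1.le hg)
  have xR : x ∉ R := fun h => x2 _ se (by
    rcases a1 x h with e | e
    · rw [commutatorElement_def, e, mul_inv_cancel, mul_one]
    · rw [commutatorElement_def, e, ← mul_inv_rev, e2, ← mul_inv_rev, dh.z2, inv_one])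
  obtain ⟨σ, ht⟩ := h1.tri fun h => xR (h xS)
  have fe := ht.ddd h3
  generalize he : f * a ^ 2 ^ k * f⁻¹ = e at *
  generalize he' : f * e * f⁻¹ = e' at *
  generalize a ^ 2 ^ k = i at *
  have m0 : i ∈ closure {i, e, e'} := subset_closure (by simp)
  have m1 : e ∈ closure {i, e, e'} := subset_closure (by simp)
  have m2 : e' ∈ closure {i, e, e'} := subset_closure (by simp)
  have XR : closure {i, e, e'} ≤ R := (closure_le _).2 (by
    rintro _ (rfl | rfl | rfl) <;> assumption)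
  have RN : R ≤ Ns (closure {i, e, e'}) := fun p hp => ns_cl (by
    rintro _ (rfl | rfl | rfl)
    · rcases a0 p hp with e | e <;> rw [e]
      exacts [m0, inv_mem m0]
    · rcases a1 p hp with e | e <;> rw [e]
      exacts [m1, inv_mem m1]
    · rcases a2 p hp with e | e <;> rw [e]
      exacts [m2, inv_mem m2])
  have fN : f ∈ Ns (closure {i, e, e'}) := ns_cl (by
    rintro _ (rfl | rfl | rfl)
    · exact he ▸ m1
    · exact he' ▸ m2
    · exact fe ▸ m0)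
  have iX : zpowers i ≤ closure {i, e, e'} := zpowers_le.2 m0
  refine ⟨e, e', h2, se, se', c1, c2, h1.stab XR le_rfl (le_inf RN le_normalizer) ⟨fN, h1.dN⟩ xS xN
    xR (ns_cm iX fun g hg => x1 g (h1.le (XR hg))) fun g hg => iX (x1 g (h1.le hg)),
    fun c hc d1 d2 d3 => ?_⟩
  have zU : zpowers z ≤ R ⊓ Cs (closure {i, e, e'}) :=
    zpowers_le.2 ⟨zR, zcs dh (XR.trans h1.le)⟩
  have nz : ∀ g, g * z = z * g → g ∈ Ns (zpowers z) := fun g hg => cs_le_ns le_rfl (cs_zp hg)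
  have h5 := h1.stab zU inf_le_left (le_inf (fun p hp => nz p (dh.zc (h1.le hp)))
    fun p hp => ns_inf (le_normalizer hp) (ns_cs (RN hp))) ⟨nz f h2, ns_inf h1.dN (ns_cs fN)⟩ xS xN xR
    (nz x (dh.zc xS)) fun u hu => x3 e se u (h1.le hu.1) (cs_comm hu.2 m0) (cs_comm hu.2 m1)
  refine cs_comm (h1.cs inf_le_left zU h5 (cs_zp h2)) ⟨hc, cs_cl ?_⟩
  rintro _ (rfl | rfl | rfl) <;> assumption

end D1

end Cfsg.Lib.GHM
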