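import Cfsg.Agent.GHM.D1d
import Cfsg.Agent.GHM.Com

/-!
# Simple groups of sectional 2-rank at most four: the factorisation in the central case
-/

set_option autoImplicit false
set_option linter.unusedSectionVars false

namespace Cfsg.Lib.GHM

open Subgroup Cfsg.Lib.Trans Cfsg.Lib.Gold Cfsg.Lib.Rank2 Cfsg.Lib.GHB
open scoped commutatorElement

universe u

variable {G : Type u} [Group G] [Finite G] {S : Sylow 2 G} {E H K P R U V W X : Subgroup G}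
  {a b c c' d e f g n p r r' s x y z : G} {k : ℕ}

open D1c

namespace D1c

/-- The elements that centralise or invert `a`. -/
def PM (a : G) : Subgroup G where
  carrier := {g | g * a * g⁻¹ = a ∨ g * a * g⁻¹ = a⁻¹}
  one_mem' := .inl (by simp)
  mul_mem' {x y} hx hy := by
    have e : x * y * a * (x * y)⁻¹ = x * (y * a * y⁻¹) * x⁻¹ := by group
    change _ = _ ∨ _ = _
    rw [e]
    rcases hy with h | h <;> rw [h]
    · exact hx
    · rw [← conj_inv, inv_inj, inv_eq_iff_eq_inv]; exact hx.symm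
  inv_mem' {x} hx := by
    change _ = _ ∨ _ = _
    rcases hx with h | h
    · left; nth_rw 1 [← h]; group
    · right
      calc _ = x⁻¹ * (x * a * x⁻¹)⁻¹ * x⁻¹⁻¹ := by rw [h, inv_inv a]
        _ = _ := by group

theorem cm_cs (hf : f ∈ Cs X) (hp : p ∈ Ns X) : ⁅f, p⁆ ∈ Cs X :=
  cm_eq f p ▸ mul_mem hf (inv_mem (cs_ns hf hp))

theorem cm_one (hf : f ∈ Cs R) (hp : p ∈ R) : ⁅f, p⁆ = 1 :=
  commutatorElement_eq_one_iff_mul_comm.2 (cs_comm hf hp)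

theorem cm_idx (h : Local.IdxLeTwo K H) (hx : x ∈ H) (hy : y ∈ H) : ⁅x, y⁆ ∈ K := by
  rw [commutatorElement_def, h.mul_mem_iff (mul_mem (mul_mem hx hy) (inv_mem hx)) (inv_mem hy),
    h.mul_mem_iff (mul_mem hx hy) (inv_mem hx), h.mul_mem_iff hx hy, inv_mem_iff, inv_mem_iff]
  tauto

theorem card_idx (h : Local.IdxLeTwo K E) : Nat.card E ≤ 2 * Nat.card ↥(K ⊓ E) := by
  rcases h.le_or_relIndex with e | e
  · rw [inf_eq_right.2 e]
    omega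
  · rw [← Solv.relIndex_mul_card_of_le (inf_le_right : K ⊓ E ≤ E), inf_relIndex_right, e]

theorem cm_r {ε ε' : G} (h1 : c * r * c⁻¹ = r * ε) (h2 : c' * r * c'⁻¹ = r * ε')
    (e1 : Commute c ε) (e2 : Commute c ε') (e3 : Commute c' ε) (e4 : Commute c' ε')
    (e5 : Commute ε ε') : ⁅c, c'⁆ * r = r * ⁅c, c'⁆ := by
  have h3 : c' * c * (r * (ε * ε')⁻¹) * (c' * c)⁻¹ = r := by
    rw [← conj_mul, conj_of ((e3.mul_right e4).mul_left (e1.mul_right e2)).inv_right.eq,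
      show c' * c * r * (c' * c)⁻¹ = c' * (c * r * c⁻¹) * c'⁻¹ by group, h1, ← conj_mul, h2,
      conj_of e3.eq, e5.eq]
    group
  have h4 : c * c' * (r * (ε * ε')⁻¹) * (c * c')⁻¹ = r := by
    rw [← conj_mul, conj_of ((e1.mul_right e2).mul_left (e3.mul_right e4)).inv_right.eq,
      show c * c' * r * (c * c')⁻¹ = c * (c' * r * c'⁻¹) * c⁻¹ by group, h2, ← conj_mul, h1,
      conj_of e2.eq]
    group
  refine of_conj ?_
  calc _ = ⁅c, c'⁆ * (c' * c * (r * (ε * ε')⁻¹) * (c' * c)⁻¹) * ⁅c, c'⁆⁻¹ := by rw [h3]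
    _ = c * c' * (r * (ε * ε')⁻¹) * (c * c')⁻¹ := by simp only [commutatorElement_def]; group
    _ = r := h4

end D1c

namespace D1

variable (h0 : D1 S P d s z b a (k + 1))
include h0

theorem gens (h1 : Gn (S : Subgroup G) R f) :
    (∃ y, IsConj z y ∧ (Rf a b y ∨ Sw (S : Subgroup G) a b y) ∧ G1 (S : Subgroup G) R f z y) ∨
    f * z = z * f ∧ ((∃ e e', G2 (S : Subgroup G) R f z (a ^ 2 ^ k) e e' a b) ∨
      f ∈ Cs R ∨ (Dl a b ≤ R ∧ f ∈ Cs (Dl a b))) := by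
  by_cases h2 : f * z = z * f
  · refine .inr ⟨h2, ?_⟩
    by_cases h3 : a ^ 2 ^ k ∉ R ∨ f * a ^ 2 ^ k = a ^ 2 ^ k * f
    · exact .inr (h0.gen3 h1 h2 h3)
    · rw [not_or, not_not] at h3
      exact .inl (h0.gen2 h1 h2 h3.1 h3.2)
  · have h3 := h0.gen1 h1 h2
    exact .inl ⟨_, cj_self f z, h0.l1 (h1.le (h1.dP (h0.zR h1))) (cj_self f z) h3.yz, h3⟩

theorem pm (hg : g ∈ (S : Subgroup G)) : g * a * g⁻¹ = a ∨ g * a * g⁻¹ = a⁻¹ := by
  have dh := h0.dh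
  refine h0.cx.foc' (K := PM a) (fun x hx y hy => .inl (conj_of (dh.cma hx hy)))
    (fun R f h1 p hp => ?_) hg
  rcases h0.gens h1 with ⟨y, -, h2, h3⟩ | ⟨-, ⟨e, e', h3⟩ | h3 | ⟨-, h3⟩⟩
  · exact sup_le (c := PM a) (zpowers_le.2 (Or.inl (conj_of (dh.zc dh.aH).symm)))
      (zpowers_le.2 (Or.inr (h2.elim dh.rfa fun h => h.2.1))) (h3.cm p hp)
  · refine (closure_le (PM a)).2 ?_ (h3.cm p hp)
    rintro _ (rfl | rfl | rfl)
    exacts [.inl (conj_of ((Commute.refl a).pow_left _).eq), .inr h3.se.2.1, .inr h3.se'.2.1]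
  · rw [cm_one h3 hp]; exact one_mem _
  · exact .inl (conj_of (cs_a (cm_cs h3 (dh.nrm (h1.le hp)))))

theorem exists_sp : ∃ r, Sp (S : Subgroup G) a b z (a ^ 2 ^ k) r := by
  have dh := h0.dh
  by_contra hn
  obtain ⟨K, -, k2, k3, k4⟩ := dh.par
  obtain ⟨g, hg, e⟩ := dh.tr 1
  refine Int.not_even_one ((k4 g hg b rf_self 1 e).1 (h0.cx.foc' (fun x hx y hy => cm_idx k3 hx hy)
    (fun R f h1 p hp => ?_) hg))
  rcases h0.gens h1 with ⟨y, h4, h2, h3⟩ | ⟨-, ⟨e, e', h3⟩ | h3 | ⟨-, h3⟩⟩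
  · exact k2 (sup_le (zpowers_le.2 (mem_sup_left dh.za')) (zpowers_le.2
      (dh.mem.2 (.inr (h2.resolve_right fun h => hn ⟨y, h, .inl h4⟩)))) (h3.cm p hp))
  · exact (hn ⟨e, h3.se, .inr h3.ce⟩).elim
  · rw [cm_one h3 hp]; exact one_mem _
  · exact (k4 _ (h1.le (mul_mem (h1.dP hp) (inv_mem hp))) b rf_self 0 (by
      rw [zpow_zero, one_mul]; exact conj_of (cs_b (cm_cs h3 (dh.nrm (h1.le hp)))))).2 Even.zero

variable (h1 : Sp (S : Subgroup G) a b z (a ^ 2 ^ k) r)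
include h1

theorem memX : x ∈ Dl a b ⊔ zpowers r ↔ x ∈ Dl a b ∨ r⁻¹ * x ∈ Dl a b := by
  refine mem_adj (fun _ h => mem_normalizer_conj (h0.dh.nrm h1.1.1) h) ?_
  rcases h1.2 with h | h
  · rw [sq_of h h0.dh.z2]; exact one_mem _
  · rw [(h0.l2 h1.1.1 h).1]; exact mem_sup_left h0.dh.za'

theorem spX (h2 : Sp (S : Subgroup G) a b z (a ^ 2 ^ k) r') : r' ∈ Dl a b ⊔ zpowers r := by
  obtain ⟨l, rfl⟩ := h0.sp_eq h1 h2
  exact mul_mem (mem_sup_right (mem_zpowers r)) (mem_sup_left (mem_sup_left (zpow_mem_zpowers a l)))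

theorem spj (hg : g ∈ (S : Subgroup G)) : Sp (S : Subgroup G) a b z (a ^ 2 ^ k) (g * r * g⁻¹) :=
  ⟨h0.swj h1.1 hg, h1.2.imp (·.trans (cj_self g r)) (·.trans (cj_self g r))⟩

theorem leX : Dl a b ⊔ zpowers r ≤ S := sup_le h0.dh.le (zpowers_le.2 h1.1.1)

theorem nX : (S : Subgroup G) ≤ Ns (Dl a b ⊔ zpowers r) := fun g hg => ns_of fun x hx => by
  rcases (h0.memX h1).1 hx with h | h
  · exact mem_sup_left (mem_normalizer_conj (h0.dh.nrm hg) h)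
  · rw [← mul_inv_cancel_left r x, ← conj_mul]
    exact mul_mem (h0.spX h1 (h0.spj h1 hg)) (mem_sup_left (mem_normalizer_conj (h0.dh.nrm hg) h))

theorem decX (hg : g ∈ (S : Subgroup G)) : ∃ x ∈ Dl a b ⊔ zpowers r, x * g ∈ Cs (Dl a b) := by
  have dh := h0.dh
  obtain ⟨K, k1, k2, k3, k4⟩ := dh.par
  have bD : b ∈ Dl a b := mem_sup_right (mem_zpowers b)
  obtain ⟨x, hx, g1⟩ : ∃ x ∈ Dl a b ⊔ zpowers r, x * g ∈ K := by
    by_cases h : g ∈ K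
    · exact ⟨1, one_mem _, by rwa [one_mul]⟩
    · obtain ⟨j, hj, e⟩ := h1.1.2.2
      exact ⟨r, mem_sup_right (mem_zpowers r), k3 r h1.1.1 g hg
        (fun h' => Int.not_even_iff_odd.2 hj ((k4 r h1.1.1 b rf_self j e).1 h')) h⟩
  obtain ⟨x, hx, g1, g2⟩ : ∃ x ∈ Dl a b ⊔ zpowers r, x * g ∈ K ∧ x * g * a * (x * g)⁻¹ = a := by
    rcases h0.pm (k1 g1) with e | e
    · exact ⟨x, hx, g1, e⟩
    · refine ⟨b * x, mul_mem (mem_sup_left bD) hx, mul_assoc b x g ▸ mul_mem (k2 bD) g1, ?_⟩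
      calc _ = b * (x * g * a * (x * g)⁻¹) * b⁻¹ := by group
        _ = _ := by rw [e, ← conj_inv, dh.ba, inv_inv]
  obtain ⟨l, hl⟩ := dh.cb _ (k1 g1)
  obtain ⟨m, rfl⟩ := (k4 _ (k1 g1) b rf_self l hl).1 g1
  refine ⟨(a ^ m)⁻¹ * x, mul_mem (mem_sup_left (mem_sup_left (inv_mem (zpow_mem_zpowers a m)))) hx,
    cs_of fun u hu => of_conj ?_⟩
  rw [mul_assoc _ x]
  generalize x * g = c at *
  have c1 : ∀ j : ℤ, (a ^ m)⁻¹ * c * a ^ j * ((a ^ m)⁻¹ * c)⁻¹ = a ^ j := fun j => by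
    calc _ = (a ^ m)⁻¹ * (c * a * c⁻¹) ^ j * a ^ m := by rw [conj_zpow]; group
      _ = _ := by rw [g2]; group
  have c2 : (a ^ m)⁻¹ * c * b * ((a ^ m)⁻¹ * c)⁻¹ = b := by
    calc _ = (a ^ m)⁻¹ * (c * b * c⁻¹) * a ^ m := by group
      _ = a ^ m * (b * a ^ m * b⁻¹) * b := by rw [hl]; group
      _ = _ := by rw [dh.rfx rf_self (zpow_mem_zpowers a m)]; group
  rcases dh.mem.1 hu with ⟨j, rfl⟩ | ⟨j, rfl⟩
  · exact c1 j
  · rw [← conj_mul, c1, c2]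

theorem csX (hc : c ∈ Cs (Dl a b)) (h2 : c * r = r * c) : c ∈ Cs (Dl a b ⊔ zpowers r) :=
  cs_of fun x hx => by
    rcases (h0.memX h1).1 hx with h | h
    · exact cs_comm hc h
    · rw [← mul_inv_cancel_left r x]
      exact (Commute.mul_right h2 (cs_comm hc h)).eq

theorem cr (hc : c ∈ (S : Subgroup G)) (h2 : c ∈ Cs (Dl a b)) :
    ∃ ε ∈ zpowers z, c * r * c⁻¹ = r * ε := by
  obtain ⟨l, e⟩ := h0.sp_eq h1 (h0.spj h1 hc)
  refine ⟨_, (mem_zp h0.dh.z2).2 (h0.dh.cen' (mem_sup_left (zpow_mem_zpowers a l)) ?_), e⟩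
  rw [show a ^ l = r⁻¹ * c * r⁻¹⁻¹ * c⁻¹ by rw [← inv_mul_cancel_left r (a ^ l), ← e]; group]
  exact mul_mem (cs_ns h2 (inv_mem (h0.dh.nrm h1.1.1))) (inv_mem h2)

theorem cmX (hx : x ∈ (S : Subgroup G)) (hy : y ∈ (S : Subgroup G)) :
    ⁅x, y⁆ ∈ Kn (Dl a b ⊔ zpowers r) := by
  have nK : ∀ g ∈ (S : Subgroup G), g ∈ Ns (Kn (Dl a b ⊔ zpowers r)) := fun g hg =>
    ns_of fun _ hx => Kn_conj hx (h0.nX h1 hg)
  have key : ∀ U ≤ (S : Subgroup G), (∀ c ∈ (S : Subgroup G), c ∈ Cs (Dl a b) → ∀ u ∈ U,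
      ⁅c, u⁆ ∈ Kn (Dl a b ⊔ zpowers r)) → ∀ g ∈ (S : Subgroup G), ∀ u ∈ U,
      ⁅g, u⁆ ∈ Kn (Dl a b ⊔ zpowers r) := fun U hU h g hg => by
    obtain ⟨x, hx, hc⟩ := h0.decX h1 hg
    have xS := h0.leX h1 hx
    have t1 : x ∈ Tv (Kn (Dl a b ⊔ zpowers r)) U := ⟨nK x xS, fun u hu => mem_sup_left
      (cm_eq x u ▸ mul_mem hx (inv_mem (mem_normalizer_conj (h0.nX h1 (hU hu)) hx)))⟩
    have t2 : x * g ∈ Tv (Kn (Dl a b ⊔ zpowers r)) U := ⟨nK _ (mul_mem xS hg), h _ (mul_mem xS hg) hc⟩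
    exact ((mul_mem_cancel_left t1).1 t2).2
  refine key S le_rfl (fun c hc hc' u hu => ?_) x hx y hy
  rw [← commutatorElement_inv]
  refine inv_mem (key ((S : Subgroup G) ⊓ Cs (Dl a b)) inf_le_left (fun c hc h2 c' hc' => ?_) u hu c
    ⟨hc, hc'⟩)
  obtain ⟨ε, m1, e1⟩ := h0.cr h1 hc h2
  obtain ⟨ε', m2, e2⟩ := h0.cr h1 hc'.1 hc'.2
  have zc : ∀ g ∈ (S : Subgroup G), ∀ w ∈ zpowers z, Commute g w := fun g hg w hw =>
    cs_comm (cs_zp (h0.dh.zc hg)) hw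
  exact mem_sup_right (h0.csX h1 (cm_cs h2 (h0.dh.nrm hc'.1)) (cm_r e1 e2 (zc _ hc _ m1)
    (zc _ hc _ m2) (zc _ hc'.1 _ m1) (zc _ hc'.1 _ m2) (zc _ (zpowers_le.2 h0.dh.zH m1) _ m2)))

theorem genX (h2 : Gn (S : Subgroup G) R f) :
    (∃ y ∈ Dl a b ⊔ zpowers r, G1 (S : Subgroup G) R f z y) ∨
    (f * z = z * f ∧ (∀ p ∈ R, ⁅f, p⁆ ∈ Dl a b ⊔ zpowers r) ∧
      ∀ c ∈ R, c ∈ Cs (Dl a b ⊔ zpowers r) → f * c = c * f) ∨
    (Dl a b ⊔ zpowers r ≤ R ∧ f ∈ Cs (Dl a b ⊔ zpowers r)) := by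
  have dh := h0.dh
  have triv : f * z = z * f → f ∈ Cs R → f * z = z * f ∧ (∀ p ∈ R, ⁅f, p⁆ ∈ Dl a b ⊔ zpowers r) ∧
      ∀ c ∈ R, c ∈ Cs (Dl a b ⊔ zpowers r) → f * c = c * f := fun e h =>
    ⟨e, fun p hp => by rw [cm_one h hp]; exact one_mem _, fun c hc _ => cs_comm h hc⟩
  rcases h0.gens h2 with ⟨y, h4, h5, h3⟩ | ⟨fz, ⟨e, e', h3⟩ | h3 | ⟨h4, h3⟩⟩
  · exact .inl ⟨y, h5.elim (fun h => mem_sup_left (dh.mem.2 (.inr h)))
      fun h => h0.spX h1 ⟨h, .inl h4⟩, h3⟩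
  · have m0 : a ^ 2 ^ k ∈ Dl a b ⊔ zpowers r := mem_sup_left (mem_sup_left (npow_mem_zpowers a _))
    have m1 := h0.spX h1 ⟨h3.se, .inr h3.ce⟩
    have m2 := h0.spX h1 ⟨h3.se', .inr h3.ce'⟩
    refine .inr (.inl ⟨fz, fun p hp => (closure_le _).2 ?_ (h3.cm p hp), fun c hc hc' =>
      h3.fix c hc (cs_comm hc' m0) (cs_comm hc' m1) (cs_comm hc' m2)⟩)
    rintro _ (rfl | rfl | rfl) <;> assumption
  · exact .inr (.inl (triv fz h3))
  have ⟨rS, r1, j, hj, r2⟩ := h1.1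
  by_cases rR : r ∈ R
  · have XR : Dl a b ⊔ zpowers r ≤ R := sup_le h4 (zpowers_le.2 rR)
    have act : ∀ u ∈ Dl a b, f * r * f⁻¹ * u * (f * r * f⁻¹)⁻¹ = r * u * r⁻¹ := fun u hu => by
      calc _ = f * (r * (f⁻¹ * u * f⁻¹⁻¹) * r⁻¹) * f⁻¹ := by group
        _ = _ := by rw [cs_conj (inv_mem h3) hu, cs_conj h3 (mem_normalizer_conj (dh.nrm rS) hu)]
    obtain ⟨l, e⟩ := h0.sp_eq h1 (r' := f * r * f⁻¹) ⟨⟨h2.le (h2.dP rR),
      (act a (mem_sup_left (mem_zpowers a))).trans r1, j, hj,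
      (act b (mem_sup_right (mem_zpowers b))).trans r2⟩,
      h1.2.imp (·.trans (cj_self f r)) (·.trans (cj_self f r))⟩
    refine .inr (.inr ⟨XR, h2.cs XR le_sup_left (fun u hu => ?_) h3⟩)
    rcases (h0.memX h1).1 hu with h | h
    · rw [cm_one h3 h]; exact one_mem _
    · rw [← mul_inv_cancel_left r u, commutatorElement_def, ← conj_mul, e, cs_conj h3 h,
        show r * a ^ l * (r⁻¹ * u) * (r * (r⁻¹ * u))⁻¹ = r * a ^ l * r⁻¹ by group]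
      exact mem_sup_left (dh.ca rS (zpow_mem_zpowers a l))
  · refine .inr (.inl (triv fz (h2.triv (le_sup_left.trans h4) (h2.le.trans dh.na)
      (cs_mono le_sup_left h3) rS (fun g hg => ?_) rR)))
    obtain ⟨l, e⟩ := h0.sp_eq h1 (h0.spj h1 hg)
    rw [cm_eq, e, show r * (r * a ^ l)⁻¹ = r * (a ^ l)⁻¹ * r⁻¹ by group]
    exact dh.ca rS (inv_mem (zpow_mem_zpowers a l))

theorem outX (hx : x ∈ Dl a b ⊔ zpowers r) (hy : Rf a b y) (h2 : x * y = y * x) : x ∈ Dl a b := by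
  obtain ⟨K, -, k2, -, k4⟩ := h0.dh.par
  refine ((h0.memX h1).1 hx).elim id fun h => ?_
  obtain ⟨j, hj, e⟩ := h1.1.2.2
  have h3 := (k4 x (h0.leX h1 hx) y hy 0 (by rw [zpow_zero, one_mul, conj_of h2])).2 Even.zero
  exact (Int.not_even_iff_odd.2 hj ((k4 r h1.1.1 b rf_self j e).1
    (inv_mem_iff.1 ((mul_mem_cancel_right h3).1 (k2 h))))).elim

theorem fn : FN S (Dl a b ⊔ zpowers r) z := by
  have dh := h0.dh
  have zX : z ∈ Dl a b ⊔ zpowers r := mem_sup_left (mem_sup_left dh.za')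
  refine ⟨h0.cx, h0.leX h1, h0.nX h1, zX, dh.z1, dh.z2, zcs dh le_rfl, fun g hg => ?_,
    fun x hx hc => ?_, fun E hE h2 => ?_, fun g hg h hh => h0.l0c hg hh, fun R f => h0.genX h1⟩
  · refine (mem_Kn.1 (h0.cx.foc' (fun x hx y hy => h0.cmX h1 hx hy) (fun R f h2 p hp => ?_)
      hg)).elim fun x ⟨hx, c, hc, e⟩ => ⟨x⁻¹, inv_mem hx, by rwa [e, inv_mul_cancel_left]⟩
    rcases h0.genX h1 h2 with ⟨y, h3, h4⟩ | ⟨-, h3, -⟩ | ⟨-, h3⟩
    · exact mem_sup_left (sup_le (zpowers_le.2 zX) (zpowers_le.2 h3) (h4.cm p hp))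
    · exact mem_sup_left (h3 p hp)
    · exact mem_sup_right (cm_cs h3 (h0.nX h1 (h2.le hp)))
  · exact dh.cen' (h0.outX h1 hx rf_self (cs_b (cs_mono le_sup_left hc))) (cs_mono le_sup_left hc)
  · by_cases h3 : E ≤ Dl a b
    · exact dh.rk h3 h2
    obtain ⟨e, he, h4⟩ := SetLike.not_le_iff_exists.1 h3
    have h5 : Local.IdxLeTwo (Dl a b) E := fun s hs t ht s1 t1 => by
      have s2 := ((h0.memX h1).1 (hE hs)).resolve_left s1
      have t2 := ((h0.memX h1).1 (hE ht)).resolve_left t1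
      rw [← inv_eq (h2 s hs), show s⁻¹ * t = (r⁻¹ * s)⁻¹ * (r⁻¹ * t) by group]
      exact mul_mem (inv_mem s2) t2
    have h6 : Dl a b ⊓ E ≤ zpowers z := fun x hx => (mem_zp dh.z2).2 (dh.inv
      ((dh.mem.1 hx.1).resolve_right fun h => h4 (h0.outX h1 (hE he) h (comm_of_sq h2 he hx.2)))
      (h2 x hx.2))
    have h7 := Subgroup.card_le_of_le h6
    rw [Nat.card_zpowers, orderOf_eq_prime (by rw [pow_two, dh.z2]) dh.z1] at h7
    have := card_idx h5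
    omega

end D1

end Cfsg.Lib.GHM
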