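import Cfsg.Agent.GHM.Tool
import Cfsg.Agent.GHM.VF

/-!
# Simple groups of sectional 2-rank at most four: a second good four-group
-/

set_option autoImplicit false

namespace Cfsg.Lib.GHM

open Subgroup Cfsg.Lib.Trans Cfsg.Lib.Gold Cfsg.Lib.Rank2 Cfsg.Lib.GHB
open scoped commutatorElement

universe u

variable {G : Type u} [Group G] [Finite G] {S : Sylow 2 G} {P R : Subgroup G}
  {a b d f g p q s y z : G}

namespace D1f

omit [Finite G] in
theorem flip (e : p * q * p⁻¹ = z * q) (z2 : z * z = 1) : q * p * q⁻¹ = z * p :=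
  calc q * p * q⁻¹ = z * (z * q) * p * q⁻¹ := by rw [← mul_assoc z, z2, one_mul]
    _ = z * p := by rw [← e]; group

omit [Finite G] in
theorem cj_ne (h : p * q ≠ q * p) (g : G) :
    g * p * g⁻¹ * (g * q * g⁻¹) ≠ g * q * g⁻¹ * (g * p * g⁻¹) := fun e =>
  h (by rw [conj_mul, conj_mul] at e; simpa using e)

omit [Finite G] in
theorem cj_sq (h : p * p = 1) (g : G) : g * p * g⁻¹ * (g * p * g⁻¹) = 1 := by
  rw [conj_mul, h, mul_one, mul_inv_cancel]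

omit [Finite G] in
theorem cmPhi (hp : p ∈ P) (hq : q ∈ P) : ⁅p, q⁆ ∈ Phi P := by
  convert mul_mem (mul_mem (sq_mem_Phi (mul_mem hp hq)) (inv_mem (sq_mem_Phi
    (mul_mem (mul_mem (inv_mem hq) hp) hq)))) (inv_mem (sq_mem_Phi hq)) using 1
  rw [commutatorElement_def]; group

/-- Three normal four-groups with distinct centres. -/
theorem three (h4 : SectionalPRankLE 2 4 G) {z₀ z₁ z₂ b₀ b₁ b₂ p₀ p₁ p₂ : G}
    (h : ∀ x ∈ [(z₀, b₀), (z₁, b₁), (z₂, b₂)], x.1 ∈ R ∧ x.1 ∈ Cs R ∧ x.1 * x.1 = 1 ∧ x.1 ≠ 1 ∧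
      x.2 ∈ R ∧ x.2 * x.2 = 1 ∧ ∀ r ∈ R, r * x.2 ≠ x.2 * r → r * x.2 * r⁻¹ = x.1 * x.2)
    (n01 : z₀ ≠ z₁) (n02 : z₀ ≠ z₂) (n12 : z₁ ≠ z₂) (r0 : p₀ ∈ R) (r1 : p₁ ∈ R) (r2 : p₂ ∈ R)
    (c0 : p₀ * b₀ ≠ b₀ * p₀) (c1 : p₁ * b₁ ≠ b₁ * p₁) (c2 : p₂ * b₂ ≠ b₂ * p₂)
    (e1 : p₁ * b₀ = b₀ * p₁) (e2 : p₂ * b₀ = b₀ * p₂) : False := by
  have cm : ∀ x ∈ [(z₀, b₀), (z₁, b₁), (z₂, b₂)], ∀ y ∈ [(z₀, b₀), (z₁, b₁), (z₂, b₂)],
      x.1 ≠ y.1 → x.2 * y.2 = y.2 * x.2 := fun x hx y hy n => by_contra fun e => by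
    obtain ⟨-, -, -, -, x1, -, x2⟩ := h x hx
    obtain ⟨-, -, y0, -, y1, -, y2⟩ := h y hy
    exact n (mul_right_cancel ((x2 _ y1 (Ne.symm e)).symm.trans (flip (y2 _ x1 e) y0)))
  obtain ⟨a1, a2, a3, a4, a5, a6, -⟩ := h (z₀, b₀) (by simp)
  obtain ⟨d1, d2, d3, d4, d5, d6, d7⟩ := h (z₁, b₁) (by simp)
  obtain ⟨f1, f2, f3, -, f5, f6, f7⟩ := h (z₂, b₂) (by simp)
  have m01 := cm (z₀, b₀) (by simp) (z₁, b₁) (by simp) n01
  have m02 := cm (z₀, b₀) (by simp) (z₂, b₂) (by simp) n02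
  have m12 := cm (z₁, b₁) (by simp) (z₂, b₂) (by simp) n12
  dsimp only at *
  refine rank5 (K := ⊥) h4 (x₁ := z₀) (x₂ := z₁) (x₃ := b₀) (x₄ := b₁) (x₅ := b₂)
    (fun x _ => ns_of (by simp)) ?_ (by simp [a3, d3, a6, d6, f6]) fun i j k l m e => ?_
  · simp only [List.forall_mem_cons, mem_bot, commutatorElement_eq_one_iff_mul_comm,
      List.not_mem_nil, false_imp_iff, implies_true, cs_comm a2 d1, cs_comm a2 a5, cs_comm a2 d5,
      cs_comm a2 f5, cs_comm d2 a5, cs_comm d2 d5, cs_comm d2 f5, m01, m02, m12, and_self]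
  have hc : cond k b₀ 1 * (cond l b₁ 1 * cond m b₂ 1) ∈ Cs R := by
    rw [mem_bot, mul_assoc, mul_assoc] at e
    rw [eq_inv_of_mul_eq_one_right e]
    exact inv_mem (mul_mem (by cases i; exacts [one_mem _, a2]) (by cases j; exacts [one_mem _, d2]))
  have k0 : ∀ p ∈ R, p * b₀ = b₀ * p → p ∈ C1 (cond l b₁ 1 * cond m b₂ 1) := fun p hp e' => by
    have h1 : cond k b₀ 1 ∈ C1 p := by cases k; exacts [one_mem _, mem_C1.2 e'.symm]
    exact mem_C1.2 (mem_C1.1 ((mul_mem_cancel_left h1).1 (mem_C1.2 (cs_comm hc hp)))).symm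
  cases l
  · cases m
    · cases k
      · cases i <;> cases j
        exacts [⟨rfl, rfl, rfl, rfl, rfl⟩, absurd (by simpa using e) d4, absurd (by simpa using e) a4,
          absurd ((eq_inv_of_mul_eq_one_left (by simpa using e)).trans (inv_eq d3)) n01]
      · exact absurd (by simpa using (cs_comm hc r0).symm) c0
    · exact absurd (by simpa using mem_C1.1 (k0 _ r2 e2)) c2
  · have h1 := mul_inv_eq_iff_eq_mul.2 (mem_C1.1 (k0 _ r1 e1))
    rw [← conj_mul, cond, d7 _ r1 c1] at h1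
    cases m
    · exact absurd (by simpa using h1) d4
    by_cases e3 : p₁ * b₂ = b₂ * p₁
    · exact absurd (by simpa [e3] using h1) d4
    rw [cond, f7 _ r1 e3, mul_assoc, ← mul_assoc b₁, ← cs_comm f2 d5, mul_assoc, ← mul_assoc,
      mul_eq_right] at h1
    exact absurd ((eq_inv_of_mul_eq_one_left h1).trans (inv_eq f3)) n12

end D1f

open D1f

theorem D1.second (h0 : D1 S P d s z b a 0) :
    ∃ P' d' s' y, VF (S : Subgroup G) P' d' s' z y ∧ b * y ≠ y * b := by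
  have v := h0.vf
  have z2 := v.z2
  obtain rfl : a = z := by simpa using h0.dh.za
  have bS := h0.dh.bH
  have zS := h0.dh.aH
  have b2 := h0.dh.b2
  have zz := mem_zpowers a
  have zc : ∀ x ∈ (S : Subgroup G), x * a = a * x := fun x hx => by
    rcases (mem_zp z2).1 (mem_normalizer_conj (h0.dh.na hx) zz) with e | e
    exacts [absurd (conj_eq_one_iff.1 e) v.z1, mul_inv_eq_iff_eq_mul.1 e]
  have hb : ∀ x ∈ (S : Subgroup G), x * b ≠ b * x → x * b * x⁻¹ = a * b := fun x hx n => by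
    obtain ⟨j, e⟩ := h0.dh.cb x hx
    rcases (mem_zp z2).1 (zpow_mem zz j) with e1 | e1 <;> rw [e1] at e
    exacts [absurd (by rw [← mul_inv_eq_iff_eq_mul, e, one_mul]) n, e]
  have mP : ∀ x ∈ (S : Subgroup G), x ∈ P ↔ x * b = b * x := fun x hx =>
    (v.mem x hx).trans (and_iff_right (zc x hx))
  have idx : ∀ x ∈ (S : Subgroup G), ∀ y ∈ (S : Subgroup G), x ∉ P → y ∉ P → x * y ∈ P :=
    fun x hx y hy n1 n2 => (mP _ (mul_mem hx hy)).2 (mul_inv_eq_iff_eq_mul.1 (by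
      rw [show x * y * b * (x * y)⁻¹ = x * (y * b * y⁻¹) * x⁻¹ by group, hb y hy (mt (mP y hy).2 n2),
        ← conj_mul, hb x hx (mt (mP x hx).2 n1), zc x hx, mul_inv_cancel_right, ← mul_assoc, z2,
        one_mul]))
  have cjP : ∀ x ∈ (S : Subgroup G), ∀ y ∈ P, x * y * x⁻¹ ∈ P := fun x hx y hy => by
    by_cases e : x ∈ P
    · exact mul_mem (mul_mem e hy) (inv_mem e)
    · exact idx _ (mul_mem hx (v.le hy)) _ (inv_mem hx) (mt (mul_mem_cancel_right hy).1 e)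
        (mt inv_mem_iff.1 e)
  obtain ⟨R, f, hg, p₀, hp₀, n₀⟩ : ∃ R f, Gn (S : Subgroup G) R f ∧ ∃ p ∈ R, ⁅f, p⁆ ∉ P := by
    by_contra k
    push Not at k
    refine v.sP (h0.cx.foc' (fun x hx y hy => ?_) k v.sS)
    by_cases e : y ∈ P
    · exact mul_mem (cjP x hx y e) (inv_mem e)
    · exact idx _ (mul_mem (mul_mem hx hy) (inv_mem hx)) _ (inv_mem hy)
        (fun k => e (by simpa [mul_assoc] using cjP _ (inv_mem hx) _ k)) (mt inv_mem_iff.1 e)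
  have RS := hg.le
  have zC : a ∈ Cs R := cs_of fun x hx => (zc x (RS hx)).symm
  have zR : a ∈ R := hg.cent zS zC
  have yR := hg.dP zR
  have yC := cs_ns zC hg.dN
  by_cases bR : b ∈ R
  · exfalso
    have hN : f ∉ Ns (R ⊓ P) := fun k => n₀ (by
      by_cases e : p₀ ∈ P
      · exact mul_mem (mem_normalizer_conj k ⟨hp₀, e⟩).2 (inv_mem e)
      · exact idx _ (RS (hg.dP hp₀)) _ (RS (inv_mem hp₀))
          (fun k1 => e ((mem_normalizer_iff.1 k _).2 ⟨hg.dP hp₀, k1⟩).2) (mt inv_mem_iff.1 e))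
    have ex : ∀ g ∈ Ns R, g ∉ Ns (R ⊓ P) →
        ∃ p ∈ R, p * b = b * p ∧ p * (g * b * g⁻¹) ≠ g * b * g⁻¹ * p := fun g h1 h2 => by
      by_contra k
      push Not at k
      refine h2 (inv_mem_iff.1 (ns_of fun x hx => ?_))
      have h3 := mem_normalizer_conj (inv_mem h1) hx.1
      refine ⟨h3, (mP _ (RS h3)).2 (by_contra fun e => cj_ne e g ?_)⟩
      simpa [mul_assoc] using k x hx.1 ((mP x (RS hx.1)).1 hx.2)
    have act : ∀ g ∈ Ns R, ∀ r ∈ R, r * (g * b * g⁻¹) ≠ g * b * g⁻¹ * r →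
        r * (g * b * g⁻¹) * r⁻¹ = g * a * g⁻¹ * (g * b * g⁻¹) := fun g h1 r hr n => by
      rw [conj_mul, ← hb _ (RS (mem_normalizer_conj' h1 hr)) fun e => n (by
        calc _ = g * (g⁻¹ * r * g * b) * g⁻¹ := by group
          _ = _ := by rw [e]; group)]
      group
    have f2 := mul_mem hg.dN hg.dN
    have N2 : f * f ∉ Ns (R ⊓ P) := mt (hg.two inf_le_left) hN
    obtain ⟨p₁, r1, e1, c1⟩ := ex f hg.dN hN
    obtain ⟨p₂, r2, e2, c2⟩ := ex (f * f) f2 N2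
    by_cases fz : f * a = a * f
    · have k : ∀ g ∈ Ns R, g * a * g⁻¹ = a → ∀ p ∈ R, p * b = b * p →
          p * (g * b * g⁻¹) ≠ g * b * g⁻¹ * p → g * b * g⁻¹ ∉ P := fun g h1 h2 p r e c k => by
        have := cmPhi ((mP p (RS r)).2 e) k
        rw [commutatorElement_def, act g h1 p r c, h2, mul_inv_cancel_right] at this
        exact v.nphi this
      have a1 := mul_inv_eq_iff_eq_mul.2 fz
      have a2 : f * f * a * (f * f)⁻¹ = a := by
        rw [mul_assoc f f, fz, ← mul_assoc, fz, mul_assoc a, mul_inv_cancel_right]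
      have k1 := k f hg.dN a1 p₁ r1 e1 c1
      have m1 := mem_normalizer_conj hg.dN bR
      have := sq_mem_Phi (idx _ (RS m1) _ (RS (mem_normalizer_conj f2 bR)) k1 (k _ f2 a2 p₂ r2 e2 c2))
      have k2 := act _ f2 _ m1 (by
        simpa [mul_assoc] using (cj_ne (mt (mP _ (RS m1)).2 k1) f).symm)
      rw [a2, inv_eq (cj_sq b2 f)] at k2
      rw [← mul_assoc, k2, mul_assoc, cj_sq b2, mul_one] at this
      exact v.nphi this
    · obtain ⟨p, r0, -, c0⟩ := ex f⁻¹ (inv_mem hg.dN) (mt inv_mem_iff.1 hN)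
      have n1 : a ≠ f * a * f⁻¹ := fun e => fz (mul_inv_eq_iff_eq_mul.1 e.symm)
      have k : ∀ g ∈ Ns R, g * a * g⁻¹ ∈ R ∧ g * a * g⁻¹ ∈ Cs R ∧ g * a * g⁻¹ * (g * a * g⁻¹) = 1 ∧
          g * a * g⁻¹ ≠ 1 ∧ g * b * g⁻¹ ∈ R ∧ g * b * g⁻¹ * (g * b * g⁻¹) = 1 ∧ _ := fun g h1 =>
        ⟨mem_normalizer_conj h1 zR, cs_ns zC h1, cj_sq z2 g, mt conj_eq_one_iff.1 v.z1,
          mem_normalizer_conj h1 bR, cj_sq b2 g, act g h1⟩
      refine three h0.cx.r4 (R := R) (z₀ := a) (b₀ := b) ?_ n1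
        (fun e => fz (hg.two' zR (mul_inv_eq_iff_eq_mul.1 e.symm)))
        (fun e => n1 (by simpa [mul_assoc] using congrArg (f⁻¹ * · * f) e)) (hg.dP r0) r1 r2
        (by simpa [mul_assoc] using cj_ne c0 f) c1 c2 e1 e2
      simp only [List.forall_mem_cons]
      exact ⟨⟨zR, zC, z2, v.z1, bR, b2, fun r hr => hb r (RS hr)⟩, k f hg.dN, k _ f2,
        List.forall_mem_nil _⟩
  have cb : ∀ u ∈ (S : Subgroup G), b * u * b⁻¹ = u ∨ b * u * b⁻¹ = a * u := fun u hu =>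
    (em (u * b = b * u)).imp (fun e => by rw [← e, mul_inv_cancel_right]) fun e => flip (hb u hu e) z2
  have cz : ∀ u ∈ R, ⁅b, u⁆ ∈ zpowers a := fun u hu => by
    rcases cb u (RS hu) with e | e <;> simp [commutatorElement_def, e]
  have bN : b ∈ Ns R := ns_of fun u hu => conj_eq_cm b u ▸ mul_mem (zpowers_le.2 zR (cz u hu)) hu
  have fz : f * a * f⁻¹ ≠ a := fun e => n₀ (zpowers_le.2 v.zP (hg.stab (zpowers_le.2 zR) le_rfl
    (le_inf (RS.trans h0.dh.na) le_normalizer) ⟨ns_of (by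
      rintro _ ⟨k, rfl⟩; rw [← conj_zpow, e]; exact zpow_mem zz k), hg.dN⟩ bS bN bR (h0.dh.na bS) cz
    p₀ hp₀))
  obtain ⟨s', ht⟩ := hg.tri fun k => bR (k bS)
  have sy : ∀ x ∈ (S : Subgroup G), x ∈ Ns R → x ∉ R →
      x⁻¹ * (f * a * f⁻¹) * x = f * (f * a * f⁻¹) * f⁻¹ := fun x h1 h2 h3 => by
    have := ht.sd zR
    rw [zc s' ht.sS, mul_inv_cancel_right, ht.dd zR] at this
    have e := cs_comm yC ((ht.idx x h1 h2).resolve_left h3)
    rw [← this]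
    calc _ = x⁻¹ * (f * a * f⁻¹ * (x * s')) * s'⁻¹ := by group
      _ = _ := by rw [e]; group
  have n1 : f * (f * a * f⁻¹) * f⁻¹ ≠ f * a * f⁻¹ := fun e => fz (by simpa using e)
  have e1 : b * (f * a * f⁻¹) * b⁻¹ = f * (f * a * f⁻¹) * f⁻¹ := by
    simpa only [inv_eq b2] using sy b bS bN bR
  have e2 := (cb _ (RS yR)).resolve_left (e1 ▸ n1)
  have nb : b * (f * a * f⁻¹) ≠ f * a * f⁻¹ * b := fun e => n1 (by
    rw [← e1, e, mul_inv_cancel_right])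
  generalize hy : f * a * f⁻¹ = y at *
  have m1 : a ∈ F4 a y := mem_sup_left zz
  have m2 : y ∈ F4 a y := mem_sup_right (mem_zpowers y)
  have nF : ∀ g, g * a * g⁻¹ ∈ F4 a y → g * y * g⁻¹ ∈ F4 a y → g ∈ Ns (F4 a y) := fun g h1 h2 =>
    mem_normalizer_of_cj_le (by
      rw [cj_sup, cj_zpowers, cj_zpowers]; exact sup_le (zpowers_le.2 h1) (zpowers_le.2 h2))
  have cR : ∀ x ∈ R, x * y = y * x := fun x hx => (cs_comm yC hx).symm
  obtain ⟨s'', k⟩ := G1.vf hg ⟨fz, hy, e1.symm.trans e2, hg.stab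
    (sup_le (zpowers_le.2 zR) (zpowers_le.2 yR)) le_rfl (le_inf (fun x hx => nF x
      (by rwa [zc x (RS hx), mul_inv_cancel_right]) (by rwa [cR x hx, mul_inv_cancel_right]))
      le_normalizer) ⟨nF f (hy ▸ m2) (e1 ▸ e2 ▸ mul_mem m1 m2), hg.dN⟩ bS bN bR
    (nF b (by rwa [zc b bS, mul_inv_cancel_right]) (e2 ▸ mul_mem m1 m2))
    fun u hu => mem_sup_left (cz u hu), fun x hx => ⟨cR x, fun e => by_contra fun n => by
      have h1 : R ≤ (S : Subgroup G) ⊓ C1 y := fun r hr => ⟨RS hr, mem_C1.2 (cR r hr)⟩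
      obtain ⟨c, c1, c2, c3⟩ := grow S.isPGroup' RS inf_le_left (h1.trans le_normalizer)
        fun k => n (k ⟨hx, mem_C1.2 e⟩)
      refine n1 ((sy c c1.1 c2 c3).symm.trans ?_)
      rw [mul_assoc, ← mem_C1.1 c1.2, inv_mul_cancel_left]⟩⟩ zS
    (cs_of fun x hx => (zc x hx).symm) z2 v.z1 fun k => nb (cs_comm k bS).symm
  exact ⟨R, f, s'', y, k, nb⟩

end Cfsg.Lib.GHM
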