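import Cfsg.Agent.GHM.L0g
import Cfsg.Agent.GHM.D1a

/-!
# Simple groups of sectional 2-rank at most four: two normal good four-groups
-/

set_option autoImplicit false
set_option linter.unusedSectionVars false

namespace Cfsg.Lib.GHM

open Subgroup Cfsg.Lib.Trans Cfsg.Lib.Gold Cfsg.Lib.Rank2 Cfsg.Lib.GHB
open scoped commutatorElement

universe u

variable {G : Type u} [Group G] [Finite G] {S : Sylow 2 G} {P P' R E : Subgroup G}
  {a a' b c d d' f g p q s s' u v w x y z : G}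

namespace D1g

/-- `⟨z, b⟩` is a normal four-group of `S` whose involutions are conjugate. -/
structure N4 (S : Sylow 2 G) (z b : G) : Prop where
  zS : z ∈ (S : Subgroup G)
  z1 : z ≠ 1
  z2 : z * z = 1
  zc : ∀ g ∈ (S : Subgroup G), g * z = z * g
  bS : b ∈ (S : Subgroup G)
  b2 : b * b = 1
  bz : b ≠ z
  cb : ∀ g ∈ (S : Subgroup G), g * b = b * g ∨ g * b * g⁻¹ = z * b
  ns : ∀ c ∈ (S : Subgroup G), c * b = b * c → c * c ≠ z
  c1 : IsConj z b
  c2 : IsConj z (z * b)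

theorem n4 (h : D1 S P d s z b a 0) : N4 S z b := by
  have e : a = z := by simpa using h.dh.za
  subst e
  refine ⟨h.dh.aH, h.dh.z1, h.dh.z2, fun g => h.dh.zc, h.dh.bH, h.dh.b2, h.vf.bz, fun g hg => ?_,
    fun c hc h1 e => h.ns rf_self (e ▸ sq_mem_Phi (mem_inf.2 ⟨hc, mem_C1.2 h1⟩)), h.cjr rf_self,
    h.cjr ⟨1, by simp⟩⟩
  obtain ⟨j, hj⟩ := h.dh.cb g hg
  rcases (mem_zp h.dh.z2).1 (zpow_mem_zpowers a j) with e | e <;> rw [e] at hj
  · exact Or.inl (mul_inv_eq_iff_eq_mul.1 (hj.trans (one_mul b)))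
  · exact Or.inr hj

theorem ne1 (h1 : z ≠ 1) (h : IsConj z u) : u ≠ 1 := fun e => h1 (isConj_one_left.1 (e ▸ h))

theorem sq1 (h1 : z * z = 1) (h : IsConj z u) : u * u = 1 := by
  obtain ⟨c, rfl⟩ := isConj_iff.1 h
  rw [conj_mul, h1]; simp

namespace N4

variable (h : N4 S z b)
include h

theorem zb : z * b = b * z := (h.zc b h.bS).symm

theorem mem4 : x ∈ F4 z b ↔ x = 1 ∨ x = z ∨ x = b ∨ x = z * b := mem_F4 h.z2 h.b2 h.zb

theorem com (hg : g ∈ (S : Subgroup G)) : g * (z * b) = z * b * g ↔ g * b = b * g := by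
  rw [← mul_assoc, h.zc g hg, mul_assoc, mul_assoc, mul_right_inj]

theorem mul : N4 S z (z * b) where
  zS := h.zS
  z1 := h.z1
  z2 := h.z2
  zc := h.zc
  bS := mul_mem h.zS h.bS
  b2 := sq1 h.z2 h.c2
  bz := fun e => ne1 h.z1 h.c1 (mul_eq_left.1 e)
  cb g hg := (h.cb g hg).imp (h.com hg).2 fun e => by
    rw [cjm, e, h.zc g hg, mul_inv_cancel_right]
  ns c hc e := h.ns c hc ((h.com hc).1 e)
  c1 := h.c2
  c2 := by rw [← mul_assoc, h.z2, one_mul]; exact h.c1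

theorem cj' (hg : g ∈ (S : Subgroup G)) (e : g * b ≠ b * g) : g * b * g⁻¹ = z * b :=
  (h.cb g hg).resolve_left e

theorem mulc (hp : p ∈ (S : Subgroup G)) (hq : q ∈ (S : Subgroup G)) (e1 : p * b ≠ b * p)
    (e2 : q * b ≠ b * q) : p * q * b = b * (p * q) := by
  rw [← mul_inv_eq_iff_eq_mul]
  calc _ = p * (q * b * q⁻¹) * p⁻¹ := by group
    _ = _ := by
      rw [h.cj' hq e2, cjm, h.cj' hp e1, h.zc p hp, mul_inv_cancel_right, ← mul_assoc, h.z2, one_mul]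

theorem cmb (hp : p ∈ (S : Subgroup G)) (hq : q ∈ (S : Subgroup G)) : ⁅p, q⁆ * b = b * ⁅p, q⁆ :=
  mem_C1.1 (Comp.comm_mem_of_idx (C := C1 b) (fun _ hx _ hy e1 e2 =>
    mem_C1.2 (h.mulc hx hy (mt mem_C1.2 e1) (mt mem_C1.2 e2))) hp hq)

theorem cm (hg : g ∈ (S : Subgroup G)) : ⁅b, g⁆ ∈ zpowers z := by
  rw [← inv_mem_iff, commutatorElement_inv, commutatorElement_def]
  rcases h.cb g hg with e | e
  · rw [e]; simp
  · rw [e]; simp

theorem nz (hg : g ∈ (S : Subgroup G)) : g ∈ Ns (zpowers z) :=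
  cs_le_ns le_rfl (Cs_zpowers z ▸ mem_C1.2 (h.zc g hg))

theorem nR (h1 : R ≤ S) (h2 : z ∈ R) : b ∈ Ns R := ns_of fun x hx => by
  rw [conj_eq_cm]
  exact mul_mem (zpowers_le.2 h2 (h.cm (h1 hx))) hx

theorem n4 (hg : g * z = z * g) (e : g * b * g⁻¹ = b ∨ g * b * g⁻¹ = z * b) : g ∈ Ns (F4 z b) :=
  ns_F4 (by rw [hg, mul_inv_cancel_right]; exact z_F4)
    (h.mem4.2 (Or.inr (Or.inr e)))

theorem nS (hg : g ∈ (S : Subgroup G)) : g ∈ Ns (F4 z b) :=
  h.n4 (h.zc g hg) ((h.cb g hg).imp_left fun e => by rw [e, mul_inv_cancel_right])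

theorem card4 : Nat.card (F4 z b) = 4 := by
  rw [GHB.card_adj (fun x hx => mem_normalizer_conj (h.nz h.bS) hx) (h.b2 ▸ one_mem _) (fun e => by
    rcases (mem_zp h.z2).1 e with e | e; exacts [ne1 h.z1 h.c1 e, h.bz e]),
    GHB.card_zpowers_two h.z2 h.z1]

theorem com4 (hx : x ∈ F4 z b) : x * b = b * x :=
  mem_C1.1 (F4_le (mem_C1.2 h.zb) (mem_C1.2 rfl) hx)

variable (h' : N4 S z y) (n : b * y ≠ y * b)
include h' n

theorem by' : b * y * b⁻¹ = z * y := h'.cj' h.bS n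

theorem t2 : b * y * (b * y) = z := by
  calc _ = b * y * b⁻¹ * y := by rw [inv_eq h.b2]; group
    _ = _ := by rw [h.by' h' n, mul_assoc, h'.b2, mul_one]

/-- An involution centralises one of the two four-groups. -/
theorem noFF (hv : v ∈ (S : Subgroup G)) (v2 : v * v = 1) : v * b = b * v ∨ v * y = y * v := by
  by_contra hn
  rw [not_or] at hn
  have tS := mul_mem h.bS h'.bS
  have tb : b * y * b ≠ b * (b * y) := fun e => n (by simpa [mul_assoc] using e.symm)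
  have ty : b * y * y ≠ y * (b * y) := fun e => n (by simpa [← mul_assoc] using e)
  have e1 := h.mulc tS hv tb hn.1
  have e2 := h'.mulc tS hv ty hn.2
  refine h.ns _ (mul_mem tS hv) e1 ?_
  have e3 : Commute (b * y * v) (b * y) := Commute.mul_right e1 e2
  have e4 : v * (b * y) = b * y * v := mul_left_cancel (a := b * y) (by rw [← mul_assoc, e3.eq])
  calc _ = b * y * (v * (b * y)) * v := by group
    _ = b * y * (b * y) * (v * v) := by rw [e4]; group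
    _ = _ := by rw [h.t2 h' n, v2, mul_one]

theorem zX : z ∈ Dl b y := by
  rw [← h.t2 h' n]
  exact mul_mem (mul_mem z_F4 v_F4) (mul_mem z_F4 v_F4)

theorem cenb (hx : x ∈ Dl b y) (e : x * b = b * x) : x ∈ F4 z b := by
  have : Dl b y ≤ F4 z b ⊔ zpowers y := sup_le (zpowers_le.2 (mem_sup_left v_F4)) le_sup_right
  refine ((GHB.mem_adj (fun u hu => mem_normalizer_conj (h.nS h'.bS) hu)
    (h'.b2 ▸ one_mem _)).1 (this hx)).resolve_right fun e2 => n ?_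
  have := ((C1 b).mul_mem_cancel_right (mem_C1.2 e)).1 (mem_C1.2 (h.com4 e2))
  exact (mem_C1.1 (inv_mem_iff.1 this)).symm

theorem cen (hx : x ∈ Dl b y) (hc : x ∈ Cs (Dl b y)) : x = 1 ∨ x = z := by
  rcases h.mem4.1 (h.cenb h' n hx (cs_comm hc z_F4)) with e | e | rfl | rfl
  · exact Or.inl e
  · exact Or.inr e
  · exact absurd (cs_comm hc v_F4) n
  · exact absurd ((h.com h'.bS).1 (cs_comm hc v_F4).symm).symm n

theorem nrm (hg : g ∈ (S : Subgroup G)) : g ∈ Ns (Dl b y) :=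
  ns_F4 (F4_le (h.zX h' n) z_F4 (mem_normalizer_conj (h.nS hg) v_F4))
    (F4_le (h.zX h' n) v_F4 (mem_normalizer_conj (h'.nS hg) v_F4))

omit h h' n in
theorem cs (e1 : x * b = b * x) (e2 : x * y = y * x) : x ∈ Cs (Dl b y) :=
  le_Cs_comm.1 (F4_le (Cs_zpowers x ▸ mem_C1.2 e1.symm) (Cs_zpowers x ▸ mem_C1.2 e2.symm))
    (mem_zpowers x)

theorem nc : NC (S : Subgroup G) (Dl b y) z where
  le := F4_le h.bS h'.bS
  nrm := fun _ hg => h.nrm h' n hg
  x8 := ⟨b, z_F4, y, v_F4, h.z1, h.z2, by rw [← mul_assoc, ← h.by' h' n, inv_mul_cancel_right],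
    h.zb.symm, h'.zb.symm, Or.inl h.b2, Or.inl h'.b2⟩
  cen := fun _ => h.cen h' n

theorem l0 (h4 : SectionalPRankLE 2 4 G) (hu : u ∈ (S : Subgroup G)) (h1 : IsConj z u)
    (e1 : u * b = b * u) (e2 : u * y = y * u) : u = z :=
  l0g h4 (h.nc h' n) (fun _ hg _ hh _ => cs (h.cmb hg hh) (h'.cmb hg hh)) hu h1 (cs e1 e2)

theorem three (h4 : SectionalPRankLE 2 4 G) (hp : p ∈ (S : Subgroup G))
    (hq : q ∈ (S : Subgroup G)) (c1 : IsConj z p) (c2 : IsConj z q) (c3 : IsConj z (p * q))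
    (n1 : p ≠ z) (n2 : q ≠ z) (n3 : p * q ≠ z) : False := by
  have k : ∀ u ∈ (S : Subgroup G), IsConj z u → u ≠ z →
      (u ∈ C1 b ∧ u ∉ C1 y) ∨ (u ∉ C1 b ∧ u ∈ C1 y) := fun u hu c e => by
    have := h.noFF h' n hu (sq1 h.z2 c)
    have := mt (fun e : u * b = b * u ∧ u * y = y * u => h.l0 h' n h4 hu c e.1 e.2) e
    simp only [mem_C1]
    tauto
  have k3 := k _ (mul_mem hp hq) c3 n3
  rcases k p hp c1 n1 with ⟨p1, p2⟩ | ⟨p1, p2⟩ <;> rcases k q hq c2 n2 with ⟨q1, q2⟩ | ⟨q1, q2⟩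
  · have := mem_C1.2 (h'.mulc hp hq (mt mem_C1.2 p2) (mt mem_C1.2 q2))
    have := mul_mem p1 q1
    tauto
  · rw [(C1 b).mul_mem_cancel_left p1, (C1 y).mul_mem_cancel_right q2] at k3
    tauto
  · rw [(C1 b).mul_mem_cancel_right q1, (C1 y).mul_mem_cancel_left p2] at k3
    tauto
  · have := mem_C1.2 (h.mulc hp hq (mt mem_C1.2 p1) (mt mem_C1.2 q1))
    have := mul_mem p2 q2
    tauto

theorem pure (h4 : SectionalPRankLE 2 4 G) (hu : u ∈ (S : Subgroup G)) (h1 : IsConj z u)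
    (e : u * b = b * u) : u = z ∨ u = b ∨ u = z * b := by
  by_contra hn
  simp only [not_or] at hn
  obtain ⟨g, e1, e2⟩ := ext_cen (cs_of fun x hx => (h.zc x hx).symm) h1.symm
  have k : ∀ {v}, IsConj z v → IsConj z (g * v * g⁻¹) := fun c => c.trans (isConj_iff.2 ⟨g, rfl⟩)
  have k2 : ∀ {v}, u ≠ v → g * v * g⁻¹ ≠ z := fun c e => c (by simpa using e1.trans e.symm)
  refine h.three h' n h4 (e2 z h.zS (h.zc u hu).symm) (e2 b h.bS e.symm) (k (IsConj.refl z))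
    (k h.c1) ?_ (k2 hn.1) (k2 hn.2.1) ?_ <;> rw [← cjm]
  exacts [k h.c2, k2 hn.2.2]

theorem cls (h4 : SectionalPRankLE 2 4 G) (hu : u ∈ (S : Subgroup G)) (h1 : IsConj z u)
    (h2 : u ≠ z) : (u = b ∨ u = z * b) ∨ u = y ∨ u = z * y :=
  (h.noFF h' n hu (sq1 h.z2 h1)).imp (fun e => (h.pure h' n h4 hu h1 e).resolve_left h2)
    fun e => (h'.pure h n.symm h4 hu h1 e).resolve_left h2

theorem g1 (h4 : SectionalPRankLE 2 4 G) (h0 : Gn (S : Subgroup G) R f) (e : f * z * f⁻¹ = b) :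
    G1 (S : Subgroup G) R f z b := by
  have zc : z ∈ Cs R := cs_of fun x hx => (h.zc x (h0.le hx)).symm
  have zR := h0.cent h.zS zc
  have bR : b ∈ R := e ▸ h0.dP zR
  have bc : b ∈ Cs R := e ▸ cs_ns zc h0.dN
  have fz : f * z ≠ z * f := fun e2 => h.bz (by rw [← e, e2, mul_inv_cancel_right])
  have fb : f * b * f⁻¹ = z * b := by
    rcases h.pure h' n h4 (h0.le (h0.dP bR)) (h.c1.trans (isConj_iff.2 ⟨f, rfl⟩))
      (cs_comm bc (h0.dP bR)).symm with e2 | e2 | e2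
    · refine absurd (h0.two' zR ?_) fz
      rw [← mul_inv_eq_iff_eq_mul]
      calc _ = f * (f * z * f⁻¹) * f⁻¹ := by group
        _ = _ := by rw [e, e2]
    · exact absurd (by simpa using e2.trans e.symm) h.bz
    · exact e2
  have fV : f ∈ Ns (F4 z b) := ns_F4 (e ▸ v_F4) (fb ▸ mul_mem z_F4 v_F4)
  have VR : F4 z b ≤ R := F4_le zR bR
  have RV : R ≤ Ns (F4 z b) := fun _ hx => h.nS (h0.le hx)
  refine ⟨h.bz, e, fb, h0.stab VR le_rfl (le_inf RV le_normalizer) ⟨fV, h0.dN⟩ h'.bS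
    (h'.nR h0.le zR) (fun k => n (cs_comm bc k)) (h.nS h'.bS)
    fun u hu => mem_sup_left (h'.cm (h0.le hu)), fun x hx => ⟨fun k => (cs_comm bc k).symm, fun k => ?_⟩⟩
  by_contra hxR
  have RX : R ≤ (S : Subgroup G) ⊓ C1 b := le_inf h0.le fun x hx => mem_C1.2 (cs_comm bc hx).symm
  obtain ⟨v, ⟨vS, vb⟩, vN, vR⟩ := grow S.isPGroup' h0.le inf_le_left (RX.trans le_normalizer)
    fun k2 => hxR (k2 ⟨hx, mem_C1.2 k⟩)
  have nb : ∀ g : G, g ∈ Ns ⊥ := fun g => ns_of fun x hx => by rw [mem_bot.1 hx]; simp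
  have := h0.stab bot_le VR (le_inf (fun g _ => nb g) RV) ⟨nb f, fV⟩ vS vN vR (nb v) (fun u hu =>
    mem_bot.2 (commutatorElement_eq_one_iff_mul_comm.2 (mem_C1.1
      (F4_le (mem_C1.2 (h.zc v vS).symm) (mem_C1.2 (mem_C1.1 vb).symm) hu)).symm)) z z_F4
  exact fz (commutatorElement_eq_one_iff_mul_comm.1 (mem_bot.1 this))

omit h' n in
theorem g2 (h0 : Gn (S : Subgroup G) R f) (e : f * z = z * f) (hb : b ∉ R) : f ∈ Cs R := by
  have zR := h0.cent h.zS (cs_of fun x hx => (h.zc x (h0.le hx)).symm)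
  have fz : f ∈ Cs (zpowers z) := Cs_zpowers z ▸ mem_C1.2 e
  exact h0.cs le_rfl (zpowers_le.2 zR) (h0.stab (zpowers_le.2 zR) le_rfl
    (le_inf (fun _ hx => h.nz (h0.le hx)) le_normalizer) ⟨cs_le_ns le_rfl fz, h0.dN⟩ h.bS
    (h.nR h0.le zR) hb (h.nz h.bS) fun u hu => h.cm (h0.le hu)) fz

theorem g3 (h4 : SectionalPRankLE 2 4 G) (h0 : Gn (S : Subgroup G) R f) (e : f * z = z * f)
    (hb : b ∈ R) (hy : y ∈ R) : f * b = b * f := by
  have zR := h0.cent h.zS (cs_of fun x hx => (h.zc x (h0.le hx)).symm)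
  have fz : f * z * f⁻¹ = z := by rw [e, mul_inv_cancel_right]
  have k : ∀ u ∈ R, IsConj z u → u ≠ z → (f * u * f⁻¹ = b ∨ f * u * f⁻¹ = z * b) ∨
      f * u * f⁻¹ = y ∨ f * u * f⁻¹ = z * y := fun u hu c hz =>
    h.cls h' n h4 (h0.le (h0.dP hu)) (c.trans (isConj_iff.2 ⟨f, rfl⟩))
      fun e2 => hz (by simpa using e2.trans fz.symm)
  have ff : ∀ u, f * f * u * (f * f)⁻¹ = f * (f * u * f⁻¹) * f⁻¹ := fun u => by group
  have zz : z * (z * b) = b := by rw [← mul_assoc, h.z2, one_mul]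
  have k2 : f * b * f⁻¹ = b ∨ f * b * f⁻¹ = z * b → f * b = b * f := by
    rintro (e2 | e2)
    · exact mul_inv_eq_iff_eq_mul.1 e2
    · exact h0.two' hb (mul_inv_eq_iff_eq_mul.1 (by rw [ff, e2, cjm, fz, e2, zz]))
  rcases k b hb h.c1 h.bz with e1 | e1
  · exact k2 e1
  have e2 : f * y * f⁻¹ = b ∨ f * y * f⁻¹ = z * b := (k y hy h'.c1 h'.bz).resolve_right fun e2 => n (by
    have : f * b * f⁻¹ * (f * y * f⁻¹) = f * y * f⁻¹ * (f * b * f⁻¹) :=
      comm_of_sq (B := F4 z y) (fun u hu => by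
        rcases h'.mem4.1 hu with rfl | rfl | rfl | rfl
        exacts [mul_one 1, h.z2, h'.b2, h'.mul.b2])
        (h'.mem4.2 (Or.inr (Or.inr e1))) (h'.mem4.2 (Or.inr (Or.inr e2)))
    simpa [← cjm] using this)
  have fV : f ∈ Ns (F4 z b) := h0.two (F4_le zR hb) (h.n4 (by
      rw [mul_assoc, e, ← mul_assoc, e, mul_assoc]) (by
    rw [ff]
    rcases e1 with e1 | e1 <;> rw [e1]
    · exact e2
    · rw [cjm, fz]
      rcases e2 with e2 | e2 <;> rw [e2]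
      exacts [Or.inr rfl, Or.inl zz]))
  rcases h.mem4.1 (mem_normalizer_conj fV v_F4) with e3 | e3 | e3
  · exact absurd (conj_eq_one_iff.1 e3) (ne1 h.z1 h.c1)
  · exact absurd (by simpa using e3.trans fz.symm) h.bz
  · exact k2 e3

end N4

end D1g

open D1g

theorem D1.fn0 (h0 : D1 S P d s z b a 0) (h1 : D1 S P' d' s' z y a' 0) (h2 : b * y ≠ y * b) :
    FN S (Dl b y) z := by
  have h := n4 h0
  have h' := n4 h1
  have h4 := h0.cx.r4
  have zX := h.zX h' h2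
  refine ⟨h0.cx, F4_le h.bS h'.bS, fun _ hg => h.nrm h' h2 hg, zX, h.z1, h.z2,
    cs_of fun x hx => (h.zc x hx).symm, fun g hg => ?_, fun _ => h.cen h' h2, fun E hE E2 => ?_,
    fun _ hg _ hh c => h.l0 h' h2 h4 (mul_mem (mul_mem (mul_mem hg hh) (inv_mem hg)) (inv_mem hh)) c
      (h.cmb hg hh) (h'.cmb hg hh), fun R f hf => ?_⟩
  · have m : ∀ {p q v : G}, p * v = v * p → q * v = v * q → p * q * v = v * (p * q) :=
      fun e1 e2 => Commute.mul_left e1 e2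
    by_cases e1 : g * b = b * g <;> by_cases e2 : g * y = y * g
    · exact ⟨1, one_mem _, N4.cs (by rwa [one_mul]) (by rwa [one_mul])⟩
    · exact ⟨b, z_F4, N4.cs (m rfl e1) (h'.mulc h.bS hg h2 e2)⟩
    · exact ⟨y, v_F4, N4.cs (h.mulc h'.bS hg h2.symm e1) (m rfl e2)⟩
    · refine ⟨b * y, mul_mem z_F4 v_F4, N4.cs ?_ ?_⟩
      · rw [mul_assoc b y g]
        exact m rfl (h.mulc h'.bS hg h2.symm e1)
      · exact h'.mulc (mul_mem h.bS h'.bS) hg (fun e => h2 (by simpa [← mul_assoc] using e)) e2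
  · have ES : E ≤ S := hE.trans (F4_le h.bS h'.bS)
    by_cases e1 : ∀ e ∈ E, e * b = b * e
    · exact h.card4 ▸ Subgroup.card_le_of_le fun e he => h.cenb h' h2 (hE he) (e1 e he)
    · push Not at e1
      obtain ⟨p, hp, e1⟩ := e1
      have py := (h.noFF h' h2 (ES hp) (E2 p hp)).resolve_left e1
      refine h'.card4 ▸ Subgroup.card_le_of_le fun e he =>
        h'.cenb h h2.symm ((F4_le v_F4 z_F4 : Dl b y ≤ Dl y b) (hE he)) ?_
      refine (h.noFF h' h2 (ES he) (E2 e he)).elim (fun e2 => ?_) id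
      rcases h.noFF h' h2 (ES (mul_mem hp he)) (E2 _ (mul_mem hp he)) with e3 | e3
      · exact absurd (mem_C1.1 (((C1 b).mul_mem_cancel_right (mem_C1.2 e2)).1 (mem_C1.2 e3))) e1
      · exact mem_C1.1 (((C1 y).mul_mem_cancel_left (mem_C1.2 py)).1 (mem_C1.2 e3))
  · by_cases e : f * z = z * f
    · by_cases hb : b ∈ R
      · by_cases hy : y ∈ R
        · exact Or.inr (Or.inr ⟨F4_le hb hy,
            N4.cs (h.g3 h' h2 h4 hf e hb hy) (h'.g3 h h2.symm h4 hf e hy hb)⟩)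
        · have := h'.g2 hf e hy
          exact Or.inr (Or.inl ⟨e, fun p hp => commutatorElement_eq_one_iff_mul_comm.2
            (cs_comm this hp) ▸ one_mem _, fun c hc _ => cs_comm this hc⟩)
      · have := h.g2 hf e hb
        exact Or.inr (Or.inl ⟨e, fun p hp => commutatorElement_eq_one_iff_mul_comm.2
          (cs_comm this hp) ▸ one_mem _, fun c hc _ => cs_comm this hc⟩)
    · have zR := hf.cent h.zS (cs_of fun x hx => (h.zc x (hf.le hx)).symm)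
      left
      rcases h.cls h' h2 h4 (hf.le (hf.dP zR)) (isConj_iff.2 ⟨f, rfl⟩)
        (mt mul_inv_eq_iff_eq_mul.1 e) with (e1 | e1) | e1 | e1
      · exact ⟨b, z_F4, h.g1 h' h2 h4 hf e1⟩
      · exact ⟨_, mul_mem zX z_F4, h.mul.g1 h' (fun k => h2 ((h.com h'.bS).1 k.symm).symm) h4 hf e1⟩
      · exact ⟨y, v_F4, h'.g1 h h2.symm h4 hf e1⟩
      · exact ⟨_, mul_mem zX v_F4, h'.mul.g1 h (fun k => h2 ((h'.com h.bS).1 k.symm)) h4 hf e1⟩

end Cfsg.Lib.GHM
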