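import Cfsg.Agent.GHM.Fr2
import Cfsg.Agent.Comp.Tools

/-!
# Simple groups of sectional 2-rank at most four: the dihedral frame
-/

set_option autoImplicit false
set_option linter.unusedSectionVars false

namespace Cfsg.Lib.GHM

open Subgroup Cfsg.Lib.Trans Cfsg.Lib.Gold Cfsg.Lib.Rank2 Cfsg.Lib.GHB
open scoped commutatorElement

universe u

variable {G : Type u} [Group G] [Finite G] {H E : Subgroup G} {a b g h x y z : G} {k : ℕ}

omit [Finite G] in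
theorem rf_iff : Rf a b y ↔ y * b⁻¹ ∈ zpowers a :=
  ⟨by rintro ⟨j, rfl⟩; exact ⟨j, by simp⟩, fun ⟨j, e⟩ => ⟨j, by
    have e : a ^ j = y * b⁻¹ := e
    rw [e, inv_mul_cancel_right]⟩⟩

omit [Finite G] in
theorem rf_self : Rf a b b := ⟨0, by simp⟩

omit [Finite G] in
theorem Rf.pow_mul (hy : Rf a b y) (l : ℤ) : Rf a b (a ^ l * y) := by
  obtain ⟨j, rfl⟩ := hy
  exact ⟨l + j, by rw [zpow_add, mul_assoc]⟩

namespace Dh
variable (h0 : Dh H k a b z)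
include h0

theorem z2 : z * z = 1 := by
  rw [← h0.za, ← pow_add, ← two_mul, ← pow_succ', ← h0.ord, pow_orderOf_eq_one]

theorem z1 : z ≠ 1 := by
  rw [← h0.za]
  exact pow_ne_one_of_lt_orderOf (by positivity)
    (h0.ord ▸ Nat.pow_lt_pow_right one_lt_two k.lt_succ_self)

theorem a1 : a ≠ 1 := fun e => h0.z1 (by rw [← h0.za, e, one_pow])

theorem zH : z ∈ H := h0.za ▸ pow_mem h0.aH _

theorem za' : z ∈ zpowers a := h0.za ▸ pow_mem (mem_zpowers a) _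

theorem pow_eq {l l' : ℤ} : a ^ l = a ^ l' ↔ l ≡ l' [ZMOD 2 ^ (k + 1)] := by
  rw [zpow_eq_zpow_iff_modEq, h0.ord]
  norm_cast

theorem ev_iff {l l' : ℤ} (e : a ^ l = a ^ l') : Even l ↔ Even l' := by
  have := (h0.pow_eq.1 e).of_dvd (dvd_pow_self 2 k.succ_ne_zero)
  rw [Int.even_iff, Int.even_iff, this]

theorem zz : a ^ (2 ^ k : ℤ) = z := by rw [← h0.za]; norm_cast

theorem inv (hx : x ∈ zpowers a) (h2 : x * x = 1) : x = 1 ∨ x = z := by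
  obtain ⟨l, rfl⟩ := hx
  have h3 : a ^ (2 * l) = a ^ (0 : ℤ) := by rw [two_mul, zpow_add, zpow_zero]; exact h2
  have h4 := (Int.modEq_zero_iff_dvd).1 (h0.pow_eq.1 h3)
  rw [pow_succ'] at h4
  obtain ⟨m, rfl⟩ := Int.dvd_of_mul_dvd_mul_left two_ne_zero h4
  exact (mem_zp h0.z2).1 ⟨m, by simp only [← h0.zz, ← zpow_mul]⟩

theorem ca (hg : g ∈ H) (hx : x ∈ zpowers a) : g * x * g⁻¹ ∈ zpowers a :=
  mem_normalizer_conj (h0.na hg) hx

theorem zc (hg : g ∈ H) : g * z = z * g := by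
  rcases h0.inv (h0.ca hg h0.za') (by rw [conj_mul, h0.z2]; simp) with e | e
  · exact absurd (by simpa using e) h0.z1
  · exact mul_inv_eq_iff_eq_mul.1 e

theorem act (hg : g ∈ H) :
    ∃ κ l : ℤ, Odd κ ∧ g * a * g⁻¹ = a ^ κ ∧ g * b * g⁻¹ = a ^ l * b := by
  obtain ⟨κ, e⟩ := h0.ca hg (mem_zpowers a)
  have e : a ^ κ = g * a * g⁻¹ := e
  obtain ⟨l, e'⟩ := h0.cb g hg
  refine ⟨κ, l, Int.not_even_iff_odd.1 ?_, e.symm, e'⟩
  rintro ⟨m, rfl⟩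
  have h1 : g * z * g⁻¹ = z ^ m * z ^ m := by
    rw [← h0.zz, ← conj_zpow, ← e, ← zpow_mul, ← zpow_mul, ← zpow_add]
    congr 1
    ring
  rw [← (Commute.refl z).mul_zpow, h0.z2, one_zpow] at h1
  exact h0.z1 (by simpa using h1)

theorem rfa (hy : Rf a b y) : y * a * y⁻¹ = a⁻¹ := by
  obtain ⟨j, rfl⟩ := hy
  rw [show a ^ j * b * a * (a ^ j * b)⁻¹ = a ^ j * (b * a * b⁻¹) * (a ^ j)⁻¹ by group, h0.ba]
  group

theorem rfx (hy : Rf a b y) (hx : x ∈ zpowers a) : y * x * y⁻¹ = x⁻¹ := by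
  obtain ⟨l, rfl⟩ := hx
  show y * a ^ l * y⁻¹ = (a ^ l)⁻¹
  rw [← conj_zpow, h0.rfa hy, inv_zpow]

theorem rf2 (hy : Rf a b y) : y * y = 1 := by
  obtain ⟨j, rfl⟩ := hy
  rw [show a ^ j * b * (a ^ j * b) = a ^ j * (b * a ^ j * b⁻¹) * (b * b) by group,
    h0.rfx rf_self (zpow_mem_zpowers a j), h0.b2]
  group

theorem rfn (hy : Rf a b y) : y ∉ zpowers a := by
  obtain ⟨j, rfl⟩ := hy
  exact fun e => h0.bn ((mul_mem_cancel_left (zpow_mem_zpowers a j)).1 e)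

theorem mem : y ∈ Dl a b ↔ y ∈ zpowers a ∨ Rf a b y := by
  rw [mem_adj (fun _ => h0.ca h0.bH) (h0.b2 ▸ one_mem _), rf_iff]
  refine or_congr_right ⟨fun e => ?_, fun e => ?_⟩
  · have := h0.ca h0.bH e
    rwa [mul_inv_cancel_left] at this
  · have := h0.ca (inv_mem h0.bH) e
    rwa [show b⁻¹ * (y * b⁻¹) * b⁻¹⁻¹ = b⁻¹ * y by group] at this

theorem rfm (hx : Rf a b x) (hy : Rf a b y) : x * y ∈ zpowers a := by
  rw [← inv_eq (h0.rf2 hy)]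
  have := mul_mem (rf_iff.1 hx) (inv_mem (rf_iff.1 hy))
  rwa [show x * b⁻¹ * (y * b⁻¹)⁻¹ = x * y⁻¹ by group] at this

theorem rfc (hy : Rf a b y) (hg : g ∈ H) : Rf a b (g * y * g⁻¹) := by
  obtain ⟨j, rfl⟩ := hy
  obtain ⟨κ, l, -, e, e'⟩ := h0.act hg
  rw [← conj_mul, ← conj_zpow, e, e', ← zpow_mul]
  exact Rf.pow_mul ⟨l, rfl⟩ _

theorem rft (hy : Rf a b y) : ∃ g ∈ H, g * b * g⁻¹ = y := by
  obtain ⟨j, rfl⟩ := hy
  exact h0.tr j

theorem le : Dl a b ≤ H := sup_le (zpowers_le.2 h0.aH) (zpowers_le.2 h0.bH)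

theorem rfH (hy : Rf a b y) : y ∈ H := h0.le (h0.mem.2 (Or.inr hy))

theorem nrm : H ≤ Ns (Dl a b) := fun _ hg => ns_of fun _ hx =>
  h0.mem.2 ((h0.mem.1 hx).imp (h0.ca hg) fun e => h0.rfc e hg)

theorem card : Nat.card (Dl a b) = 2 ^ (k + 2) := by
  rw [card_adj (fun _ => h0.ca h0.bH) (h0.b2 ▸ one_mem _) h0.bn, Nat.card_zpowers, h0.ord,
    ← pow_succ']

theorem rebase (hy : Rf a b y) :
    Dh H k a y z ∧ Dl a y = Dl a b ∧ ∀ x, Rf a y x ↔ Rf a b x := by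
  have h1 : ∀ x, Rf a y x ↔ Rf a b x := fun x => by
    refine ⟨by rintro ⟨j, rfl⟩; exact hy.pow_mul j, ?_⟩
    obtain ⟨j, rfl⟩ := hy
    rintro ⟨l, rfl⟩
    exact ⟨l - j, by group⟩
  have h2 : Dh H k a y z :=
    { aH := h0.aH, bH := h0.rfH hy, ord := h0.ord, za := h0.za, b2 := h0.rf2 hy, ba := h0.rfa hy
      bn := h0.rfn hy, na := h0.na
      cb := fun g hg => (h1 _).2 (h0.rfc hy hg)
      tr := fun j => by
        obtain ⟨g, hg, e⟩ := h0.rft (hy.pow_mul j)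
        obtain ⟨g', hg', e'⟩ := h0.rft hy
        exact ⟨g * g'⁻¹, mul_mem hg (inv_mem hg'), by rw [← e, ← e']; group⟩ }
  exact ⟨h2, by ext x; rw [h2.mem, h0.mem, h1], h1⟩

theorem repow {l : ℤ} (hl : Odd l) : Dh H k (a ^ l) b z ∧ zpowers (a ^ l) = zpowers a ∧
    Dl (a ^ l) b = Dl a b ∧ ∀ x, Rf (a ^ l) b x ↔ Rf a b x := by
  have h1 : zpowers (a ^ l) = zpowers a := by
    refine le_antisymm (zpowers_le.2 (zpow_mem_zpowers a l)) (zpowers_le.2 ?_)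
    rw [mem_zpowers_zpow_iff, h0.ord, ← Int.isCoprime_iff_gcd_eq_one]
    push_cast
    exact (Int.isCoprime_two_right.2 hl).pow_right
  have h2 : ∀ x, Rf (a ^ l) b x ↔ Rf a b x := fun x => by rw [rf_iff, rf_iff, h1]
  refine ⟨⟨zpow_mem h0.aH l, h0.bH, ?_, ?_, h0.b2, h0.rfx rf_self (zpow_mem_zpowers a l),
    h1 ▸ h0.bn, h1 ▸ h0.na, fun g hg => (h2 _).2 (h0.cb g hg), fun j => ?_⟩, h1,
    by rw [Dl, h1], h2⟩
  · rw [← Nat.card_zpowers, h1, Nat.card_zpowers, h0.ord]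
  · obtain ⟨m, rfl⟩ := hl
    rw [← zpow_natCast, ← zpow_mul, mul_comm, zpow_mul, zpow_natCast, h0.za, zpow_add, zpow_mul,
      zpow_two, h0.z2, one_zpow, one_mul, zpow_one]
  · rw [← zpow_mul]
    exact h0.tr _

theorem cj (g : G) : Dh (cj g H) k (g * a * g⁻¹) (g * b * g⁻¹) (g * z * g⁻¹) where
  aH := conj_mem_cj.2 h0.aH
  bH := conj_mem_cj.2 h0.bH
  ord := by rw [← h0.ord]; exact (MulAut.conj g).orderOf_eq a
  za := by rw [conj_pow, h0.za]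
  b2 := by rw [conj_mul, h0.b2]; simp
  ba := by rw [conj_inv, conj_mul, conj_mul, h0.ba, conj_inv]
  bn := by rw [← cj_zpowers, conj_mem_cj]; exact h0.bn
  na := by rw [← cj_zpowers, ← cj_Ns]; exact cj_mono g h0.na
  cb := by
    rintro _ ⟨h, hh, rfl⟩
    obtain ⟨j, e⟩ := h0.cb h hh
    exact ⟨j, by rw [conj_zpow, conj_mul, ← e]; simp [mul_assoc]⟩
  tr j := by
    obtain ⟨h, hh, e⟩ := h0.tr j
    exact ⟨g * h * g⁻¹, conj_mem_cj.2 hh, by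
      rw [conj_zpow, show g * a ^ j * g⁻¹ * (g * b * g⁻¹) = g * (a ^ j * b) * g⁻¹ by group, ← e]
      group⟩

theorem invc (hy : Rf a b y) (hx : x ∈ zpowers a) (hc : x * y = y * x) : x = 1 ∨ x = z := by
  refine h0.inv hx ?_
  have := h0.rfx hy hx
  rw [← hc, mul_inv_cancel_right] at this
  exact eq_inv_iff_mul_eq_one.1 this

theorem cen (hx : x ∈ Dl a b) (hc : x ∈ Cs H) : x = 1 ∨ x = z := by
  rcases h0.mem.1 hx with e | e
  · exact h0.invc rf_self e (cs_comm hc h0.bH)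
  · obtain ⟨g, hg, e'⟩ := (h0.rebase e).1.tr 1
    rw [← cs_comm hc hg, mul_inv_cancel_right, zpow_one] at e'
    exact absurd (right_eq_mul.1 e') h0.a1

theorem idx (h1 : E ≤ Dl a b) : Nat.card E ≤ 2 * Nat.card ↥(zpowers a ⊓ E) := by
  have h2 : Local.IdxLeTwo (zpowers a) E := fun s hs t ht s1 t1 =>
    h0.rfm ((h0.mem.1 (h1 hs)).resolve_left s1) ((h0.mem.1 (h1 ht)).resolve_left t1)
  rcases h2.le_or_relIndex with e | e
  · rw [inf_eq_right.2 e]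
    omega
  · rw [← Solv.relIndex_mul_card_of_le (inf_le_right : zpowers a ⊓ E ≤ E), inf_relIndex_right, e]

theorem rk (h1 : E ≤ Dl a b) (h2 : ∀ e ∈ E, e * e = 1) : Nat.card E ≤ 4 := by
  have h3 : zpowers a ⊓ E ≤ zpowers z := fun x hx => (mem_zp h0.z2).2 (h0.inv hx.1 (h2 x hx.2))
  have h4 := Subgroup.card_le_of_le h3
  rw [Nat.card_zpowers, orderOf_eq_prime (by rw [pow_two, h0.z2]) h0.z1] at h4
  have := h0.idx h1
  omega

theorem four (h1 : E ≤ Dl a b) (h2 : 4 ≤ Nat.card E) : z ∈ E := by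
  have h3 := h0.idx h1
  have h4 : zpowers a ⊓ E ≠ ⊥ := fun e => by
    rw [e, card_bot] at h3
    omega
  obtain ⟨t, ht, t1, t2⟩ := Cfsg.Lib.Comp.exists_invol_of_ne_bot (IsPGroup.to_le
    (IsPGroup.of_card (by rw [Nat.card_zpowers, h0.ord])) inf_le_left) h4
  exact (h0.inv ht.1 t2).resolve_left t1 ▸ ht.2

theorem cma (hg : g ∈ H) (hh : h ∈ H) : ⁅g, h⁆ * a = a * ⁅g, h⁆ := by
  obtain ⟨κ, -, -, e, -⟩ := h0.act hg
  obtain ⟨μ, -, -, e', -⟩ := h0.act hh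
  obtain ⟨l, e1⟩ := h0.ca (inv_mem (mul_mem hh hg)) (mem_zpowers a)
  have e1 : a ^ l = (h * g)⁻¹ * a * (h * g)⁻¹⁻¹ := e1
  have e2 : g * (h * a ^ l * h⁻¹) * g⁻¹ = h * (g * a ^ l * g⁻¹) * h⁻¹ := by
    simp only [← conj_zpow, e, e', ← zpow_mul]
    congr 1
    ring
  rw [e1] at e2
  rw [← mul_inv_eq_iff_eq_mul, commutatorElement_def]
  calc _ = g * (h * ((h * g)⁻¹ * a * (h * g)⁻¹⁻¹) * h⁻¹) * g⁻¹ := by group
    _ = a := by rw [e2]; group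

theorem act_rf (hg : g ∈ H) {l : ℤ} (e : g * b * g⁻¹ = a ^ l * b) (j : ℤ) :
    ∃ m : ℤ, g * (a ^ j * b) * g⁻¹ = a ^ m * b ∧ (Even m ↔ (Even j ↔ Even l)) := by
  obtain ⟨κ, -, hκ, e1, -⟩ := h0.act hg
  refine ⟨κ * j + l, by rw [← conj_mul, ← conj_zpow, e1, e, ← zpow_mul, zpow_add, mul_assoc], ?_⟩
  rw [Int.even_add, Int.even_mul]
  simp [Int.not_even_iff_odd.2 hκ]

/-- the parity of the action on reflections is a homomorphism -/
theorem par : ∃ K : Subgroup G, K ≤ H ∧ Dl a b ≤ K ∧ Local.IdxLeTwo K H ∧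
    ∀ g ∈ H, ∀ y, Rf a b y → ∀ l : ℤ, g * y * g⁻¹ = a ^ l * y → (g ∈ K ↔ Even l) := by
  have hm : ∀ {g g' : G} {l l' : ℤ}, g ∈ H → g * b * g⁻¹ = a ^ l * b → g' * b * g'⁻¹ = a ^ l' * b →
      ∃ m : ℤ, g * g' * b * (g * g')⁻¹ = a ^ m * b ∧ (Even m ↔ (Even l' ↔ Even l)) :=
    fun {g g' l l'} hg e e' => by
      obtain ⟨m, e1, e2⟩ := h0.act_rf hg e l'
      exact ⟨m, by rw [← e1, ← e']; group, e2⟩
  let K : Subgroup G :=
    { carrier := {g | g ∈ H ∧ ∃ l : ℤ, Even l ∧ g * b * g⁻¹ = a ^ l * b}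
      one_mem' := ⟨one_mem _, 0, Even.zero, by simp⟩
      mul_mem' := by
        rintro g g' ⟨hg, l, hl, e⟩ ⟨hg', l', hl', e'⟩
        obtain ⟨m, e1, e2⟩ := hm hg e e'
        exact ⟨mul_mem hg hg', m, e2.2 (iff_of_true hl' hl), e1⟩
      inv_mem' := by
        rintro g ⟨hg, l, hl, e⟩
        obtain ⟨l', e'⟩ := h0.cb _ (inv_mem hg)
        obtain ⟨m, e1, e2⟩ := hm hg e e'
        have e3 : a ^ (0 : ℤ) = a ^ m := mul_right_cancel (b := b) (by rw [← e1]; simp)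
        exact ⟨inv_mem hg, l', (e2.1 ((h0.ev_iff e3).1 Even.zero)).2 hl, e'⟩ }
  have hK : ∀ {g : G} {l : ℤ}, g ∈ H → g * b * g⁻¹ = a ^ l * b → (g ∈ K ↔ Even l) :=
    fun {g l} hg e => ⟨fun ⟨_, l', hl', e'⟩ =>
      (h0.ev_iff (mul_right_cancel (e'.symm.trans e))).1 hl', fun hl => ⟨hg, l, hl, e⟩⟩
  refine ⟨K, fun g hg => hg.1, sup_le (zpowers_le.2 ⟨h0.aH, 2, even_two, ?_⟩)
    (zpowers_le.2 ⟨h0.bH, 0, Even.zero, by simp⟩), fun s hs t ht s1 t1 => ?_, ?_⟩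
  · rw [mul_assoc, ← h0.ba, inv_eq h0.b2, zpow_two]
    simp only [← mul_assoc]
    rw [mul_assoc a b b, h0.b2, mul_one]
  · obtain ⟨l, e⟩ := h0.cb s hs
    obtain ⟨l', e'⟩ := h0.cb t ht
    obtain ⟨m, e1, e2⟩ := hm hs e e'
    exact (hK (mul_mem hs ht) e1).2 (e2.2 (iff_of_false (mt (hK ht e').2 t1) (mt (hK hs e).2 s1)))
  · rintro g hg _ ⟨j, rfl⟩ l e
    obtain ⟨l', e'⟩ := h0.cb g hg
    obtain ⟨m, e1, e2⟩ := h0.act_rf hg e' j
    rw [e1, ← mul_assoc, ← zpow_add] at e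
    have e3 := h0.ev_iff (mul_right_cancel e)
    rw [Int.even_add] at e3
    rw [hK hg e']
    tauto

end Dh

namespace Dh
variable (h0 : Dh H (k + 1) a b z)
include h0

theorem i2 : a ^ 2 ^ k * a ^ 2 ^ k = z := by rw [← pow_add, ← two_mul, ← pow_succ', h0.za]

theorem zi : z * (a ^ 2 ^ k)⁻¹ = a ^ 2 ^ k := by rw [← h0.i2, mul_inv_cancel_right]

theorem x8 (hy : Rf a b y) : X8 (a ^ 2 ^ k) y z where
  w1 := h0.z1
  w2 := h0.z2
  uv := by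
    rw [mul_inv_eq_iff_eq_mul.1 (h0.rfx hy (pow_mem (mem_zpowers a) _)), ← mul_assoc, h0.zi]
  uw := h0.zc (pow_mem h0.aH _)
  vw := h0.zc (h0.rfH hy)
  u2 := Or.inr h0.i2
  v2 := Or.inl (h0.rf2 hy)

theorem ceni (hx : x ∈ Dl a b) (hc : x * a ^ 2 ^ k = a ^ 2 ^ k * x) : x ∈ zpowers a := by
  refine (h0.mem.1 hx).resolve_right fun e => h0.z1 ?_
  have := (h0.x8 e).uv
  rw [hc] at this
  exact right_eq_mul.1 this

theorem cen' (hx : x ∈ Dl a b) (hc : x ∈ Cs (Dl a b)) : x = 1 ∨ x = z :=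
  h0.invc rf_self (h0.ceni hx (cs_comm hc (mem_sup_left (pow_mem (mem_zpowers a) _))))
    (cs_comm hc (mem_sup_right (mem_zpowers b)))

theorem cenb (hy : Rf a b y) (hx : x ∈ Dl a b) (hc : x * y = y * x) : x ∈ F4 z y := by
  have h1 : ∀ {x : G}, x ∈ zpowers a → x * y = y * x → x ∈ F4 z y := fun hx hc =>
    mem_sup_left ((mem_zp h0.z2).2 (h0.invc hy hx hc))
  rcases h0.mem.1 hx with e | e
  · exact h1 e hc
  · exact (mul_mem_cancel_right (mem_sup_right (mem_zpowers y))).1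
      (h1 (h0.rfm e hy) (by rw [← mul_assoc, ← hc]))

theorem nc : NC H (Dl a b) z :=
  ⟨h0.le, h0.nrm, ⟨_, mem_sup_left (pow_mem (mem_zpowers a) _), b, mem_sup_right (mem_zpowers b),
    h0.x8 rf_self⟩, fun _ => h0.cen'⟩

theorem sqz (hx : x ∈ Dl a b) (h2 : x * x = z) : x = a ^ 2 ^ k ∨ x = (a ^ 2 ^ k)⁻¹ := by
  have h1 : x ∈ zpowers a := (h0.mem.1 hx).resolve_right fun e => h0.z1 (h2 ▸ h0.rf2 e)
  have h3 : Commute x (a ^ 2 ^ k) := by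
    obtain ⟨l, rfl⟩ := h1
    exact ((Commute.refl a).zpow_left l).pow_right _
  rcases h0.inv (mul_mem h1 (pow_mem (mem_zpowers a) (2 ^ k))) (by
    rw [h3.symm.mul_mul_mul_comm, h2, h0.i2, h0.z2]) with e | e
  · exact Or.inr (eq_inv_of_mul_eq_one_left e)
  · exact Or.inl (mul_right_cancel (e.trans h0.i2.symm))

theorem acti (hg : g ∈ H) :
    g * a ^ 2 ^ k = a ^ 2 ^ k * g ∨ g * a ^ 2 ^ k * g⁻¹ = (a ^ 2 ^ k)⁻¹ :=
  (h0.sqz (mem_sup_left (h0.ca hg (pow_mem (mem_zpowers a) _)))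
    (by rw [conj_mul, h0.i2, h0.zc hg, mul_inv_cancel_right])).imp_left mul_inv_eq_iff_eq_mul.1

theorem sqi (hg : g ∈ H) : g * g * a ^ 2 ^ k = a ^ 2 ^ k * (g * g) := by
  rcases h0.acti hg with e | e
  · rw [mul_assoc, e, ← mul_assoc, e, mul_assoc]
  · rw [← mul_inv_eq_iff_eq_mul,
      show g * g * a ^ 2 ^ k * (g * g)⁻¹ = g * (g * a ^ 2 ^ k * g⁻¹) * g⁻¹ by group, e, ← conj_inv,
      e, inv_inv]

theorem phii (hg : g ∈ Phi H) : g * a ^ 2 ^ k = a ^ 2 ^ k * g :=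
  mem_centralizer_singleton_iff.1 ((Phi_le_iff (K := C1 (a ^ 2 ^ k))).2
    (fun _ hx => mem_centralizer_singleton_iff.2 (h0.sqi hx)) hg)

end Dh

end Cfsg.Lib.GHM
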