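import Cfsg.Agent.GHM.DhA

/-!
# Simple groups of sectional 2-rank at most four: the shape `Sh`
-/

set_option autoImplicit false

namespace Cfsg.Lib.GHM

open Subgroup Cfsg.Lib.Trans Cfsg.Lib.Gold Cfsg.Lib.Rank2 Cfsg.Lib.GHB
open scoped commutatorElement

universe u

variable {G : Type u} [Group G] {T E A B : Subgroup G} {a a' b b' m t t' x y z g : G} {k : ℕ}

namespace Sh

theorem memM : x ∈ T ⊓ C1 z ↔ x ∈ T ∧ x * z = z * x := by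
  rw [mem_inf, mem_centralizer_singleton_iff]

theorem comm_cj : m * (t * y * t⁻¹) = t * y * t⁻¹ * m ↔ t⁻¹ * m * t * y = y * (t⁻¹ * m * t) := by
  constructor
  · intro h
    calc t⁻¹ * m * t * y = t⁻¹ * (m * (t * y * t⁻¹)) * t := by group
      _ = _ := by rw [h]; group
  · intro h
    calc m * (t * y * t⁻¹) = t * (t⁻¹ * m * t * y) * t⁻¹ := by group
      _ = _ := by rw [h]; group

theorem rf_self : Rf a b b := ⟨0, by simp⟩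

theorem rf_mem (h : Rf a b y) : y ∈ Dl a b := by
  obtain ⟨j, rfl⟩ := h
  exact mul_mem (mem_sup_left (zpow_mem (mem_zpowers a) j)) (mem_sup_right (mem_zpowers b))

theorem Dl_map (φ : G ≃* G) : Dl (φ a) (φ b) = (Dl a b).map φ.toMonoidHom := by
  rw [Subgroup.map_sup, MonoidHom.map_zpowers, MonoidHom.map_zpowers]; rfl

theorem rf_map (φ : G ≃* G) : Rf (φ a) (φ b) (φ y) ↔ Rf a b y :=
  exists_congr fun j => by rw [← map_zpow, ← map_mul, φ.apply_eq_iff_eq]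

theorem Dl_cj : Dl (g * a * g⁻¹) (g * b * g⁻¹) = cj g (Dl a b) := Dl_map (MulAut.conj g)

theorem rf_cj : Rf (g * a * g⁻¹) (g * b * g⁻¹) (g * y * g⁻¹) ↔ Rf a b y := rf_map (MulAut.conj g)

section
variable (h0 : Sh T k a b z t)
include h0

theorem map (φ : G ≃* G) (hd : Dh (T.map φ.toMonoidHom ⊓ C1 (φ z)) k (φ a) (φ b) (φ z)) :
    Sh (T.map φ.toMonoidHom) k (φ a) (φ b) (φ z) (φ t) := by
  have m1 : ∀ (x : G) (H : Subgroup G), φ x ∈ H.map φ.toMonoidHom ↔ x ∈ H := fun x H =>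
    mem_map_iff_mem (f := φ.toMonoidHom) φ.injective
  have m2 : ∀ x, φ x ∈ Dl (φ a) (φ b) ↔ x ∈ Dl a b := fun x => by rw [Dl_map, m1]
  have m3 : ∀ x, φ x ∈ T.map φ.toMonoidHom ⊓ C1 (φ z) ↔ x ∈ T ⊓ C1 z := fun x => by
    rw [memM, memM, m1, ← map_mul, ← map_mul, φ.apply_eq_iff_eq]
  have m4 : ∀ u v : G, F4 (φ u) (φ v) = (F4 u v).map φ.toMonoidHom := fun u v => Dl_map φ
  have m5 : ∀ u : G, zpowers (φ u) = (zpowers u).map φ.toMonoidHom := fun u =>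
    (MonoidHom.map_zpowers φ.toMonoidHom u).symm
  have sj := φ.surjective
  refine ⟨hd, (m1 _ _).2 h0.tS, fun e => h0.tz (φ.injective (by simpa using e)),
    sj.forall.2 fun x hx => sj.forall.2 fun y => ?_, sj.forall.2 fun x hx => sj.forall.2 fun y => ?_,
    sj.forall.2 fun x hx => sj.forall.2 fun y => ?_,
    sj.forall₂.2 fun y y' hy hy' => ?_, sj.forall₂.2 fun y y' hy hy' => sj.forall.2 fun x => ?_,
    sj.forall.2 fun y hy h => ?_⟩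
  · simp only [← map_mul, m1, m3]
    exact h0.idx x ((m1 _ _).1 hx) y
  · simp only [← map_mul, ← map_inv, m2, φ.apply_eq_iff_eq]
    exact h0.com x ((m2 _).1 hx) y
  · simp only [← map_mul, ← map_inv, m2, φ.apply_eq_iff_eq, map_eq_one_iff φ φ.injective]
    exact h0.dis x ((m2 _).1 hx) y
  · obtain ⟨u, h⟩ := h0.s1 y y' ((rf_map φ).1 hy) ((rf_map φ).1 hy')
    exact ⟨φ u, by simpa only [← map_mul, ← map_inv, m1, φ.apply_eq_iff_eq] using h⟩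
  · simp only [← map_mul, ← map_inv, m1, φ.apply_eq_iff_eq, m4, ← Subgroup.map_sup]
    exact h0.cent y y' ((rf_map φ).1 hy) ((rf_map φ).1 hy') x
  · simp only [← map_mul, ← map_inv, m4, m1]
    refine h0.zz y ((m1 _ _).1 hy) fun x hx => ?_
    simpa only [← map_mul, ← map_inv, ← map_commutatorElement, m5, m1] using
      h (φ x) ((m1 _ _).2 hx)

theorem of_eq (hd : Dh (T ⊓ C1 z) k a' b' z) (e1 : Dl a' b' = Dl a b)
    (e2 : ∀ x, Rf a' b' x ↔ Rf a b x) : Sh T k a' b' z t :=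
  ⟨hd, h0.tS, h0.tz, h0.idx, e1 ▸ h0.com, e1 ▸ h0.dis, by simpa only [e2] using h0.s1,
    by simpa only [e2] using h0.cent, h0.zz⟩

theorem tM : t ∉ T ⊓ C1 z := fun h => h0.tz (memM.1 h).2

theorem cjM (hx : x ∈ T) (hm : m ∈ T ⊓ C1 z) : x * m * x⁻¹ ∈ T ⊓ C1 z :=
  h0.idx.conj_mem hx hm.1 hm

theorem cjM' (hx : x ∈ T) (hm : m ∈ T ⊓ C1 z) : x⁻¹ * m * x ∈ T ⊓ C1 z := by
  simpa using h0.cjM (inv_mem hx) hm

theorem mulM (hx : x ∈ T) (h1 : x * z ≠ z * x) : x * t ∈ T ⊓ C1 z :=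
  h0.idx x hx t h0.tS (fun h => h1 (memM.1 h).2) h0.tM

theorem invM (hx : x ∈ T) (h1 : x * z ≠ z * x) : t⁻¹ * x ∈ T ⊓ C1 z :=
  h0.idx _ (inv_mem h0.tS) x hx (fun h => h0.tM (inv_mem_iff.1 h)) fun h => h1 (memM.1 h).2

theorem cz' (hm : m ∈ T) : m * z = z * m ↔ m * (t * z * t⁻¹) = t * z * t⁻¹ * m := by
  rw [comm_cj]
  refine ⟨fun h => (memM.1 (h0.cjM' h0.tS (memM.2 ⟨hm, h⟩))).2, fun h => ?_⟩
  have := h0.cjM h0.tS (memM.2 ⟨mul_mem (mul_mem (inv_mem h0.tS) hm) h0.tS, h⟩)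
  rw [show t * (t⁻¹ * m * t) * t⁻¹ = m by group] at this
  exact (memM.1 this).2

theorem eqM : T ⊓ C1 (t * z * t⁻¹) = T ⊓ C1 z := by
  ext x; rw [memM, memM]; exact and_congr_right fun hx => (h0.cz' hx).symm

theorem zz' : z ≠ t * z * t⁻¹ := fun e => h0.tz (eq_mul_inv_iff_mul_eq.1 e).symm

theorem swap (hx : x ∈ T) (h1 : x * z ≠ z * x) :
    x * z * x⁻¹ = t * z * t⁻¹ ∧ x * (t * z * t⁻¹) * x⁻¹ = z := by
  have e1 := (memM.1 (h0.invM hx h1)).2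
  have e2 := (memM.1 (h0.mulM hx h1)).2
  constructor
  · calc x * z * x⁻¹ = t * (t⁻¹ * x * z) * x⁻¹ := by group
      _ = _ := by rw [e1]; group
  · calc x * (t * z * t⁻¹) * x⁻¹ = x * t * z * (x * t)⁻¹ := by group
      _ = _ := by rw [e2]; group

theorem cardT : Nat.card T = 2 * Nat.card (T ⊓ C1 z : Subgroup G) := by
  rw [← Solv.relIndex_mul_card_of_le (inf_le_left : T ⊓ C1 z ≤ T),
    h0.idx.le_or_relIndex.resolve_left fun h => h0.tM (h h0.tS)]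

theorem uniq {y₁ y₂ y₃ y₄ : G} (h1 : y₁ ∈ Dl a b) (h2 : y₂ ∈ Dl a b) (h3 : y₃ ∈ Dl a b)
    (h4 : y₄ ∈ Dl a b) (h5 : y₁ * (t * y₂ * t⁻¹) = y₃ * (t * y₄ * t⁻¹)) : y₁ = y₃ ∧ y₂ = y₄ := by
  have e := h0.dis _ (mul_mem (inv_mem h3) h1) _ (mul_mem h4 (inv_mem h2)) (by
    calc y₃⁻¹ * y₁ = y₃⁻¹ * (y₁ * (t * y₂ * t⁻¹)) * (t * y₂ * t⁻¹)⁻¹ := by group
      _ = _ := by rw [h5]; group)
  obtain rfl := inv_mul_eq_one.1 e
  exact ⟨rfl, by simpa using h5⟩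

theorem memJ (hA : A ≤ Dl a b) (hB : B ≤ Dl a b) :
    y ∈ A ⊔ cj t B ↔ ∃ y₁ ∈ A, ∃ y₂ ∈ B, y = y₁ * (t * y₂ * t⁻¹) := by
  have hn : cj t B ≤ Ns A := fun x hx => centralizer_le_normalizer _ (cs_of fun y hy => by
    obtain ⟨x, hx, rfl⟩ := hx
    exact (h0.com y (hA hy) x (hB hx)).symm)
  refine ⟨fun h => ?_, ?_⟩
  · have : y ∈ ((A ⊔ cj t B : Subgroup G) : Set G) := h
    rw [coe_mul_of_right_le_normalizer_left _ _ hn] at this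
    obtain ⟨y₁, h1, _, ⟨y₂, h2, rfl⟩, rfl⟩ := this
    exact ⟨y₁, h1, y₂, h2, rfl⟩
  · rintro ⟨y₁, h1, y₂, h2, rfl⟩
    exact mul_mem (mem_sup_left h1) (mem_sup_right (conj_mem_cj.2 h2))

theorem memY : y ∈ YY a b t ↔ ∃ y₁ ∈ Dl a b, ∃ y₂ ∈ Dl a b, y = y₁ * (t * y₂ * t⁻¹) :=
  h0.memJ le_rfl le_rfl

variable [Finite G]

theorem zc' : z * (t * z * t⁻¹) = t * z * t⁻¹ * z := (h0.cz' h0.dh.zH.1).1 rfl

theorem z2' : t * z * t⁻¹ * (t * z * t⁻¹) = 1 := by rw [conj_mul, h0.dh.z2]; simp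

theorem ζ1 : z * (t * z * t⁻¹) ≠ 1 := fun e =>
  h0.zz' ((inv_eq h0.dh.z2).symm.trans (inv_eq_of_mul_eq_one_right e))

theorem ζ2 : z * (t * z * t⁻¹) * (z * (t * z * t⁻¹)) = 1 := by
  have e := h0.zc'
  have e2 := h0.z2'
  generalize t * z * t⁻¹ = w at e e2
  calc z * w * (z * w) = z * (w * z) * w := by group
    _ = z * z * (w * w) := by rw [← e]; group
    _ = 1 := by rw [h0.dh.z2, e2, mul_one]

theorem ζc : z * (t * z * t⁻¹) ∈ Cs T := cs_of fun x hx => by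
  rw [eq_comm, ← mul_inv_eq_iff_eq_mul, ← conj_mul]
  by_cases hz : x * z = z * x
  · rw [(h0.cz' hx).1 hz, hz, mul_inv_cancel_right, mul_inv_cancel_right]
  · rw [(h0.swap hx hz).1, (h0.swap hx hz).2, h0.zc']

theorem nM : T ≤ Ns (T ⊓ C1 z) := fun _ hx => ns_of fun _ hm => h0.cjM hx hm

theorem dh' : Dh (T ⊓ C1 z) k (t * a * t⁻¹) (t * b * t⁻¹) (t * z * t⁻¹) := by
  have := h0.dh.cj t
  rwa [cj_eq_of_mem_normalizer (h0.nM h0.tS)] at this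

theorem cD (hm : m ∈ T ⊓ C1 z) (hy : y ∈ Dl a b) : m * y * m⁻¹ ∈ Dl a b :=
  mem_normalizer_conj (h0.dh.nrm hm) hy

theorem ttD : cj t (cj t (Dl a b)) = Dl a b := by
  rw [cj_cj, cj_eq_of_mem_normalizer (h0.dh.nrm (h0.mulM h0.tS h0.tz))]

theorem symm : Sh T k (t * a * t⁻¹) (t * b * t⁻¹) (t * z * t⁻¹) t ∧
    YY (t * a * t⁻¹) (t * b * t⁻¹) t = YY a b t ∧ t * (t * z * t⁻¹) * t⁻¹ = z := by
  refine ⟨?_, by rw [YY, Dl_cj, h0.ttD, sup_comm], (h0.swap h0.tS h0.tz).2⟩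
  have e : T.map (MulAut.conj t).toMonoidHom = T := cj_eq_of_mem h0.tS
  have := h0.map (MulAut.conj t) (by
    rw [e]; simp only [MulAut.conj_apply]; rw [h0.eqM]; exact h0.dh')
  rw [e] at this
  simpa only [MulAut.conj_apply, mul_inv_cancel_right] using this

theorem ret (h1 : t' ∈ T) (h2 : t' * z ≠ z * t') : Sh T k a b z t' ∧
    cj t' (Dl a b) = cj t (Dl a b) ∧ t' * z * t'⁻¹ = t * z * t⁻¹ := by
  have hm := h0.invM h1 h2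
  have e : ∀ y, t' * y * t'⁻¹ = t * (t⁻¹ * t' * y * (t⁻¹ * t')⁻¹) * t⁻¹ := fun y => by group
  have ez := (h0.swap h1 h2).1
  refine ⟨⟨h0.dh, h1, h2, h0.idx, fun x hx y hy => ?_, fun x hx y hy => ?_, fun y y' hy hy' => ?_,
    fun y y' hy hy' => ?_, ez ▸ h0.zz⟩, ?_, ez⟩
  · rw [e]; exact h0.com x hx _ (h0.cD hm hy)
  · rw [e]; exact h0.dis x hx _ (h0.cD hm hy)
  · rw [e]; exact h0.s1 y _ hy (h0.dh.rfc hy' hm)
  · rw [ez, e]; exact h0.cent y _ hy (h0.dh.rfc hy' hm)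
  · rw [show t' = t * (t⁻¹ * t') by group, cj_mul, cj_eq_of_mem_normalizer (h0.dh.nrm hm)]

theorem retY (h1 : t' ∈ T) (h2 : t' * z ≠ z * t') : YY a b t' = YY a b t := by
  rw [YY, (h0.ret h1 h2).2.1]

theorem rebase (hy : Rf a b y) : Sh T k a y z t :=
  h0.of_eq (h0.dh.rebase hy).1 (h0.dh.rebase hy).2.1 (h0.dh.rebase hy).2.2

theorem repow {l : ℤ} (hl : Odd l) : Sh T k (a ^ l) b z t :=
  h0.of_eq (h0.dh.repow hl).1 (h0.dh.repow hl).2.2.1 (h0.dh.repow hl).2.2.2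

theorem split {y₁ y₂ : G} (hm : m ∈ T) (hz : m * z = z * m) (h1 : y₁ ∈ Dl a b) (h2 : y₂ ∈ Dl a b)
    (h3 : m * (y₁ * (t * y₂ * t⁻¹)) = y₁ * (t * y₂ * t⁻¹) * m) :
    m * y₁ = y₁ * m ∧ m * (t * y₂ * t⁻¹) = t * y₂ * t⁻¹ * m := by
  have hM := memM.2 ⟨hm, hz⟩
  have := h0.uniq (h0.cD hM h1) (h0.cD (h0.cjM' h0.tS hM) h2) h1 h2 (by
    rw [← mul_inv_eq_iff_eq_mul.2 h3]; group)
  exact ⟨mul_inv_eq_iff_eq_mul.1 this.1, comm_cj.2 (mul_inv_eq_iff_eq_mul.1 this.2)⟩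

theorem YM : YY a b t ≤ T ⊓ C1 z :=
  sup_le h0.dh.le (cj_le_iff.2 fun _ hy => h0.cjM h0.tS (h0.dh.le hy))

theorem nY : T ≤ Ns (YY a b t) := fun x hx => ns_of fun y hy => by
  obtain ⟨y₁, h1, y₂, h2, rfl⟩ := h0.memY.1 hy
  by_cases hz : x * z = z * x
  · have hM := memM.2 ⟨hx, hz⟩
    exact h0.memY.2 ⟨_, h0.cD hM h1, _, h0.cD (h0.cjM' h0.tS hM) h2, by group⟩
  · refine h0.memY.2 ⟨_, h0.cD (h0.mulM hx hz) h2, _, h0.cD (h0.invM hx hz) h1, ?_⟩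
    rw [h0.com y₁ h1 y₂ h2]; group

theorem cardY : Nat.card (YY a b t) = 2 ^ (k + 2) * 2 ^ (k + 2) := by
  let f : Dl a b × Dl a b → YY a b t := fun p =>
    ⟨p.1 * (t * p.2 * t⁻¹), h0.memY.2 ⟨_, p.1.2, _, p.2.2, rfl⟩⟩
  have hf : Function.Bijective f := ⟨fun p q e => by
    have := h0.uniq p.1.2 p.2.2 q.1.2 q.2.2 (congrArg Subtype.val e)
    exact Prod.ext (Subtype.ext this.1) (Subtype.ext this.2), fun y => by
    obtain ⟨y₁, h1, y₂, h2, e⟩ := h0.memY.1 y.2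
    exact ⟨(⟨y₁, h1⟩, ⟨y₂, h2⟩), Subtype.ext e.symm⟩⟩
  rw [← Nat.card_eq_of_bijective f hf, Nat.card_prod, h0.dh.card]

theorem F4Y {y' : G} (hy : Rf a b y) (hy' : Rf a b y') :
    F4 z y ⊔ F4 (t * z * t⁻¹) (t * y' * t⁻¹) ≤ YY a b t := by
  have hz : z ∈ Dl a b := mem_sup_left h0.dh.za'
  exact sup_le_sup (sup_le (zpowers_le.2 hz) (zpowers_le.2 (rf_mem hy)))
    (sup_le (zpowers_le.2 (conj_mem_cj.2 hz)) (zpowers_le.2 (conj_mem_cj.2 (rf_mem hy'))))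

theorem typ (hm : m ∈ T) (hz : m * z = z * m) {l l' : ℤ} (h1 : m * b * m⁻¹ = a ^ l * b)
    (h2 : m * (t * b * t⁻¹) * m⁻¹ = t * (a ^ l' * b) * t⁻¹) :
    m ∈ YY a b t ↔ Even l ∧ Even l' := by
  have hM := memM.2 ⟨hm, hz⟩
  have hb : b ∈ Dl a b := rf_mem rf_self
  have ha : ∀ j : ℤ, a ^ j ∈ Dl a b := fun j => mem_sup_left (zpow_mem (mem_zpowers a) j)
  constructor
  · intro hY
    obtain ⟨K, -, k1, -, k3⟩ := h0.dh.par
    obtain ⟨y₁, hy1, y₂, hy2, e⟩ := h0.memY.1 hY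
    refine ⟨(k3 m hM b rf_self l h1).1 ?_, (k3 _ (h0.cjM' h0.tS hM) b rf_self l' ?_).1 ?_⟩
    · refine e ▸ mul_mem (k1 hy1) ((k3 _ (h0.cjM h0.tS (h0.dh.le hy2)) b rf_self 0 ?_).2 Even.zero)
      rw [← h0.com b hb y₂ hy2]; group
    · calc _ = t⁻¹ * (m * (t * b * t⁻¹) * m⁻¹) * t := by group
        _ = _ := by rw [h2]; group
    · rw [show t⁻¹ * m * t = t⁻¹ * y₁ * t * y₂ by rw [e]; group]
      refine mul_mem ((k3 _ (h0.cjM' h0.tS (h0.dh.le hy1)) b rf_self 0 ?_).2 Even.zero) (k1 hy2)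
      rw [comm_cj.1 (h0.com y₁ hy1 b hb)]; group
  · rintro ⟨⟨j, rfl⟩, ⟨j', rfl⟩⟩
    have hr : ∀ j : ℤ, (a ^ j)⁻¹ * (a ^ (j + j) * b) * a ^ j = b := fun j => by
      have : b * a ^ j * b⁻¹ = (a ^ j)⁻¹ := by rw [← conj_zpow, h0.dh.ba, inv_zpow]
      calc _ = a ^ j * (b * a ^ j * b⁻¹) * b := by rw [zpow_add]; group
        _ = b := by rw [this]; group
    have hY : (a ^ j)⁻¹ * (t * (a ^ j')⁻¹ * t⁻¹) ∈ YY a b t :=
      h0.memY.2 ⟨_, inv_mem (ha j), _, inv_mem (ha j'), rfl⟩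
    have hx := memM.1 (mul_mem (h0.YM hY) hM)
    rw [← mul_mem_cancel_left hY]
    refine h0.F4Y rf_self rf_self (h0.cent b b rf_self rf_self _ hx.1 hx.2 ?_ ?_)
    · have c := h0.com _ (mul_mem (ha (j + j)) hb) _ (inv_mem (ha j'))
      rw [← mul_inv_eq_iff_eq_mul]
      calc _ = (a ^ j)⁻¹ * (t * (a ^ j')⁻¹ * t⁻¹ * (m * b * m⁻¹) * (t * (a ^ j')⁻¹ * t⁻¹)⁻¹) *
            a ^ j := by group
        _ = _ := by rw [h1, ← c, mul_inv_cancel_right, hr]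
    · have c := h0.com _ (inv_mem (ha j)) _ hb
      rw [← mul_inv_eq_iff_eq_mul]
      calc _ = (a ^ j)⁻¹ * (t * (a ^ j')⁻¹ * t⁻¹ * (m * (t * b * t⁻¹) * m⁻¹) *
            (t * (a ^ j')⁻¹ * t⁻¹)⁻¹) * a ^ j := by group
        _ = (a ^ j)⁻¹ * (t * ((a ^ j')⁻¹ * (a ^ (j' + j') * b) * a ^ j') * t⁻¹) * a ^ j := by
          rw [h2]; group
        _ = _ := by rw [hr, c, inv_mul_cancel_right]

theorem par2 : ∃ K : Subgroup G, K ≤ T ⊓ C1 z ∧ Dl a b ≤ K ∧ Local.IdxLeTwo K (T ⊓ C1 z) ∧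
    (∀ g ∈ T ⊓ C1 z, ∀ y, Rf a b y → ∀ l : ℤ, g * y * g⁻¹ = a ^ l * y → (g ∈ K ↔ Even l)) ∧
    K ⊓ cj t K = YY a b t ∧ cj t (cj t K) = K := by
  obtain ⟨K, k0, k1, k2, k3⟩ := h0.dh.par
  have ht := h0.mulM h0.tS h0.tz
  refine ⟨K, k0, k1, k2, k3, ?_, ?_⟩
  · have key : ∀ m ∈ T ⊓ C1 z, m ∈ K ⊓ cj t K ↔ m ∈ YY a b t := fun m hM => by
      have hM' := h0.cjM' h0.tS hM
      obtain ⟨l, h1⟩ := h0.dh.cb m hM
      obtain ⟨l', h2⟩ := h0.dh.cb _ hM'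
      rw [h0.typ hM.1 (memM.1 hM).2 h1 (l' := l') (by rw [← h2]; group), mem_inf, mem_cj,
        k3 m hM b rf_self l h1, k3 _ hM' b rf_self l' h2]
    exact le_antisymm (fun m hm => (key m (k0 hm.1)).1 hm) fun m hm => (key m (h0.YM hm)).2 hm
  · rw [cj_cj, cj_eq_of_mem_normalizer (ns_of fun x hx => k2.conj_mem ht (k0 hx) hx)]

theorem memZ : x ∈ F4 z (t * z * t⁻¹) ↔
    x = 1 ∨ x = z ∨ x = t * z * t⁻¹ ∨ x = z * (t * z * t⁻¹) := mem_F4 h0.dh.z2 h0.z2' h0.zc'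

omit h0 [Finite G] in
theorem memZ_of {y₁ y₂ : G} (h1 : y₁ = 1 ∨ y₁ = z) (h2 : y₂ = 1 ∨ y₂ = z) :
    y₁ * (t * y₂ * t⁻¹) ∈ F4 z (t * z * t⁻¹) := by
  refine mul_mem (mem_sup_left ?_) (mem_sup_right ?_)
  · rcases h1 with rfl | rfl; exacts [one_mem _, mem_zpowers _]
  · rcases h2 with rfl | rfl; exacts [by simp, mem_zpowers _]

theorem cenM (hx : x ∈ T) (h1 : x ∈ Cs (T ⊓ C1 z)) : x ∈ F4 z (t * z * t⁻¹) := by
  obtain ⟨y₁, k1, y₂, k2, rfl⟩ := h0.memY.1 (h0.F4Y rf_self rf_self (h0.cent b b rf_self rf_self x hx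
    (cs_comm h1 h0.dh.zH) (cs_comm h1 h0.dh.bH) (cs_comm h1 h0.dh'.bH)))
  have e := fun m (hm : m ∈ T ⊓ C1 z) => h0.split hm.1 (memM.1 hm).2 k1 k2 (cs_comm h1 hm).symm
  refine memZ_of (h0.dh.cen k1 (cs_of fun m hm => (e m hm).1.symm))
    (h0.dh.cen k2 (cs_of fun m hm => ?_))
  simpa [mul_assoc] using (comm_cj.1 (e _ (h0.cjM h0.tS hm)).2).symm

theorem cenT (hx : x ∈ T) (h1 : x ∈ Cs T) : x = 1 ∨ x = z * (t * z * t⁻¹) := by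
  have e := (cs_comm h1 h0.tS).symm
  rcases h0.memZ.1 (h0.cenM hx (cs_mono inf_le_left h1)) with h | rfl | rfl | h
  exacts [Or.inl h, absurd e h0.tz, absurd ((h0.cz' h0.tS).2 e) h0.tz, Or.inr h]

/-- the centraliser in `Y` of an element outside `C(z)` embeds in `⟨a, b⟩` -/
theorem diag (hx : x ∈ T) (h1 : x * z ≠ z * x) {y₁ y₂ : G} (h2 : y₁ ∈ Dl a b) (h3 : y₂ ∈ Dl a b)
    (h4 : x * (y₁ * (t * y₂ * t⁻¹)) = y₁ * (t * y₂ * t⁻¹) * x) :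
    t * y₂ * t⁻¹ = x * y₁ * x⁻¹ := by
  have := (h0.uniq (h0.cD (h0.mulM hx h1) h3) (h0.cD (h0.invM hx h1) h2) h2 h3 (by
    rw [← mul_inv_eq_iff_eq_mul.2 h4, h0.com y₁ h2 y₂ h3]; group)).2
  rw [← this]; group

theorem diag_e8 (hx : x ∈ T) (h1 : x * z ≠ z * x) (h2 : E ≤ YY a b t ⊓ C1 x)
    (h3 : ∀ e ∈ E, e * e = 1) : Nat.card E ≤ 4 := by
  have h := (h0.ret hx h1).1
  rw [← h0.retY hx h1] at h2
  have em : ∀ u ∈ Dl a b, ∀ v ∈ Dl a b, u * v * (x * (u * v) * x⁻¹) =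
      u * (x * u * x⁻¹) * (v * (x * v * x⁻¹)) := fun u hu v hv => by
    calc _ = u * (v * (x * u * x⁻¹)) * (x * v * x⁻¹) := by group
      _ = _ := by rw [h.com v hv u hu]; group
  let F : Subgroup G :=
    { carrier := {y | y ∈ Dl a b ∧ y * (x * y * x⁻¹) ∈ E}
      one_mem' := ⟨one_mem _, by simp⟩
      mul_mem' := fun {u v} hu hv => ⟨mul_mem hu.1 hv.1, em u hu.1 v hv.1 ▸ mul_mem hu.2 hv.2⟩
      inv_mem' := fun {u} hu => ⟨inv_mem hu.1, by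
        have := inv_mem hu.2
        rwa [h.com u hu.1 u hu.1, show (x * u * x⁻¹ * u)⁻¹ = u⁻¹ * (x * u⁻¹ * x⁻¹) by group]
          at this⟩ }
  refine le_trans (Nat.card_le_card_of_surjective (fun y : F => (⟨_, y.2.2⟩ : E)) fun e => ?_)
    (h.dh.rk (E := F) (fun y hy => hy.1) fun y hy => ?_)
  · obtain ⟨y₁, k1, y₂, k2, k3⟩ := h.memY.1 (h2 e.2).1
    have k4 := h.diag hx h1 k1 k2 (k3 ▸ (mem_centralizer_singleton_iff.1 (h2 e.2).2).symm)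
    rw [k4] at k3
    exact ⟨⟨y₁, k1, k3 ▸ e.2⟩, Subtype.ext k3.symm⟩
  · exact (h.uniq (mul_mem hy.1 hy.1) (mul_mem hy.1 hy.1) (one_mem _) (one_mem _) (by
      rw [em y hy.1 y hy.1, h3 _ hy.2]; simp)).1

/-- the involutions of a coset outside `C(z)` -/
theorem invol (hx : x ∈ T) (h1 : x * z ≠ z * x) (h2 : x * x = 1) (hy : y ∈ YY a b t)
    (h3 : x * y * (x * y) = 1) : ∃ δ ∈ Dl a b, δ * x * δ⁻¹ = x * y := by
  have h := (h0.ret hx h1).1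
  obtain ⟨y₁, k1, y₂, k2, rfl⟩ := h.memY.1 (h0.retY hx h1 ▸ hy)
  have ex := inv_eq h2
  have e := (h.uniq (mul_mem k2 k1) (mul_mem k1 k2) (one_mem _) (one_mem _) (by
    calc _ = y₂ * y₁ * (x * y₁ * x⁻¹) * (x * y₂ * x⁻¹) := by group
      _ = x * y₁ * (x⁻¹ * y₂ * y₁) * (x * y₂ * x⁻¹) := by
        rw [h.com _ (mul_mem k2 k1) _ k1]; group
      _ = x * (y₁ * (x * y₂ * x⁻¹)) * (x * (y₁ * (x * y₂ * x⁻¹))) := by
        rw [show x⁻¹ * y₂ * y₁ = x * y₂ * y₁ by rw [ex]]; group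
      _ = _ := by rw [h3]; simp)).1
  obtain rfl := eq_inv_of_mul_eq_one_left e
  refine ⟨y₁⁻¹, k2, ?_⟩
  calc _ = y₁⁻¹ * (x * y₁ * x⁻¹) * x := by group
    _ = x * y₁ * (x⁻¹ * y₁⁻¹ * x) := by rw [h.com _ k2 _ k1]; group
    _ = _ := by rw [ex]; group

theorem exists_t2 (hx : x ∈ T) (h1 : x * z ≠ z * x) (h2 : x * x ∈ YY a b t) :
    ∃ δ ∈ Dl a b, δ * x * (δ * x) = 1 := by
  have h := (h0.ret hx h1).1
  obtain ⟨y₁, k1, y₂, k2, k3⟩ := h.memY.1 (h0.retY hx h1 ▸ h2)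
  rw [h.diag hx h1 k1 k2 (k3 ▸ (mul_assoc _ _ _).symm)] at k3
  refine ⟨y₁⁻¹, inv_mem k1, ?_⟩
  calc _ = y₁⁻¹ * (x * y₁⁻¹ * x⁻¹) * (x * x) := by group
    _ = 1 := by rw [k3, h.com _ (inv_mem k1) _ (inv_mem k1)]; group

end

theorem cenY [Finite G] (h0 : Sh T (k + 1) a b z t) (hx : x ∈ T) (h1 : x ∈ Cs (YY a b t)) :
    x ∈ F4 z (t * z * t⁻¹) := by
  have hb : b ∈ Dl a b := rf_mem rf_self
  obtain ⟨y₁, k1, y₂, k2, rfl⟩ := h0.memY.1 (h0.F4Y rf_self rf_self (h0.cent b b rf_self rf_self x hx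
    (cs_comm h1 (mem_sup_left (mem_sup_left h0.dh.za'))) (cs_comm h1 (mem_sup_left hb))
    (cs_comm h1 (mem_sup_right (conj_mem_cj.2 hb)))))
  have e := fun m (hm : m ∈ YY a b t) =>
    h0.split (h0.YM hm).1 (memM.1 (h0.YM hm)).2 k1 k2 (cs_comm h1 hm).symm
  refine memZ_of (h0.dh.cen' k1 (cs_of fun m hm => (e m (mem_sup_left hm)).1.symm))
    (h0.dh.cen' k2 (cs_of fun m hm => ?_))
  simpa [mul_assoc] using (comm_cj.1 (e _ (mem_sup_right (conj_mem_cj.2 hm))).2).symm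

end Sh

end Cfsg.Lib.GHM
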