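import Cfsg.Agent.GHM.Fr
import Cfsg.Agent.GHM.Basic

/-!
# Simple groups of sectional 2-rank at most four: further frames
-/

set_option autoImplicit false

namespace Cfsg.Lib.GHM

open Subgroup Cfsg.Lib.Trans Cfsg.Lib.Gold
open scoped commutatorElement

universe u

variable {G : Type u} [Group G]

/-- `X` is normal in `R`, contains a non-abelian group of order eight and has centre `⟨w⟩`. -/
structure NC (R X : Subgroup G) (w : G) : Prop where
  le : X ≤ R
  nrm : R ≤ Ns X
  x8 : ∃ u ∈ X, ∃ v ∈ X, X8 u v w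
  cen : ∀ x ∈ X, x ∈ Cs X → x = 1 ∨ x = w

/-- A swap that is conjugate to `z` or to `i`. -/
def Sp (S : Subgroup G) (a b z i r : G) : Prop := Sw S a b r ∧ (IsConj z r ∨ IsConj i r)

/-- The generator `f` fixes `z` and moves `⟨i⟩`. -/
structure G2 (S R : Subgroup G) (f z i e e' a b : G) : Prop where
  fz : f * z = z * f
  se : Sw S a b e
  se' : Sw S a b e'
  ce : IsConj i e
  ce' : IsConj i e'
  cm : ∀ p ∈ R, ⁅f, p⁆ ∈ closure {i, e, e'}
  fix : ∀ c ∈ R, c * i = i * c → c * e = e * c → c * e' = e' * c → f * c = c * f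

/-- The group generated by four elements. -/
abbrev XT (z t e v : G) : Subgroup G := closure {z, t, e, v}

/-- `g` normalises `T`, centralises `ζ` and maps `p` to `z` modulo `ζ`. -/
def Mz (T : Subgroup G) (ζ z p : G) : Prop :=
  ∃ g ∈ Ns T, g * ζ = ζ * g ∧ (g * p * g⁻¹ = z ∨ g * p * g⁻¹ = z * ζ)

/-- The commutator group `[P, d]`. -/
abbrev Cd (P : Subgroup G) (d : G) : Subgroup G := ⁅P, zpowers d⁆

end Cfsg.Lib.GHM
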