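import Cfsg.Agent.GHM.PzT

/-!
# Simple groups of sectional 2-rank at most four: a normal essential subgroup with central
Frattini subgroup of index sixteen
-/

set_option autoImplicit false
set_option linter.unusedSectionVars false

namespace Cfsg.Lib.GHM

open Subgroup Cfsg.Lib.Trans Cfsg.Lib.Gold Cfsg.Lib.Rank2 PzC PzN PzT
open scoped commutatorElement

universe u

variable {G : Type u} [Group G] [Finite G] {S : Sylow 2 G} {P M Z E : Subgroup G}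
  {t e m r r' x y p z c a : G} {V : Type u} [AddCommGroup V] {π : G → V} {A : G → V ≃+ V}

namespace PzE

theorem three {α β γ : G} (h1 : IsConj α β ∨ IsConj α γ) (h2 : IsConj β α ∨ IsConj β γ)
    (h3 : IsConj γ α ∨ IsConj γ β) : IsConj α β ∧ IsConj α γ := by
  rcases h1 with h1 | h1
  · exact ⟨h1, h3.elim IsConj.symm fun k => h1.trans k.symm⟩
  · exact ⟨h2.elim IsConj.symm fun k => h1.trans k.symm, h1⟩

theorem cmP (hx : x ∈ Ns P) (hp : p ∈ P) : ⁅x, p⁆ ∈ P :=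
  mul_mem (mem_normalizer_conj hx hp) (inv_mem hp)

theorem sq2 (ac : a * c = c * a) : a * c * (a * c) = a * a * (c * c) := by
  rw [mul_assoc, ← mul_assoc c, ← ac, mul_assoc, ← mul_assoc]

theorem sqc (g : G) (e : a * a = 1) : g * a * g⁻¹ * (g * a * g⁻¹) = 1 := by
  rw [conj_mul, e, mul_one, mul_inv_cancel]

variable (h : Pz (S : Subgroup G) P M Z t e) (h0 : Z ≠ ⊥)
  (h2 : R2 (S : Subgroup G) P t ∨ ∃ y, R4 (S : Subgroup G) P t y) (h3 : (S : Subgroup G) ≤ Ns P)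
include h h0

theorem tZ : t ∈ Cs Z := by
  obtain ⟨V, _, π, A, hs⟩ := sc h
  obtain ⟨a, ha, c, hc, -, Ta, Tc, -, r, -⟩ := st h hs h0
  have k : ∀ a ∈ P, A t (π a) = π a → Commute t (a * a) := fun a ha e => by
    have := sq_eq h hs (mem_normalizer_conj h.tN ha) ha ((hs.act h.tN ha).trans e)
    rwa [conj_mul, mul_inv_eq_iff_eq_mul] at this
  refine cs_of fun z hz => ?_
  rcases memZ h ha hc r hz with rfl | rfl | rfl | rfl
  exacts [Commute.one_right t, k a ha Ta, k c hc Tc, (k a ha Ta).mul_right (k c hc Tc)]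

include h2 h3

omit h0 in
theorem xt (hx : x ∈ (S : Subgroup G)) (hP : x ∉ P) (x2 : x * x ∈ P) : x * t ∈ P :=
  ((memE h).1 (by_contra fun n => (cyc h h2).2 x ⟨hx, h3 hx⟩ n x2)).resolve_left hP

theorem xZ (hx : x ∈ (S : Subgroup G)) (hP : x ∉ P) (x2 : x * x ∈ P) : x ∈ Cs Z := by
  simpa using mul_mem (h.MZ (PM h (xt h h2 h3 hx hP x2))) (inv_mem (tZ h h0))

variable (hs : Sc Z P π A)
include hs

omit h0 in
theorem AT (hx : x ∈ (S : Subgroup G)) (hP : x ∉ P) (x2 : x * x ∈ P) (v : V) : A x v = A t v := by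
  rw [← TT h hs v, ← hs.A_mul (h3 hx) h.tN, hs.A_K (mem_sup_left (xt h h2 h3 hx hP x2)), TT h hs]

omit h0 in
theorem πc (hx : x ∈ (S : Subgroup G)) (hp : p ∈ P) : π ⁅x, p⁆ = π p + A x (π p) := by
  rw [commutatorElement_def, hs.mul (mem_normalizer_conj (h3 hx) hp) (inv_mem hp), hs.inv hp,
    hs.act (h3 hx) hp, add_comm]

omit h0 in
theorem dec (hr : r ∈ (S : Subgroup G)) (hP : r ∉ P) (r2 : r * r = 1) (hm : m ∈ P)
    (e1 : A t (π m) = π m) : ∃ x ∈ P, ∃ z ∈ Z, m = z * ⁅r, x⁆ := by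
  obtain ⟨w, e2⟩ := fixT h hs e1
  obtain ⟨x, hx, rfl⟩ := hs.sur w
  rw [← AT h h2 h3 hs hr hP (r2 ▸ one_mem _), ← πc h h2 h3 hs hr hx,
    hs.eq_iff hm (cmP (h3 hr) hx)] at e2
  exact ⟨x, hx, _, e2, (inv_mul_cancel_right _ _).symm⟩

theorem invt (hr : r ∈ (S : Subgroup G)) (hP : r ∉ P) (r2 : r * r = 1) (hm : m ∈ P)
    (e1 : A t (π m) = π m) : r * m * r⁻¹ = m⁻¹ := by
  obtain ⟨x, hx, z, hz, rfl⟩ := dec h h2 h3 hs hr hP r2 hm e1
  have c1 := cs_conj (xZ h h0 h2 h3 hr hP (r2 ▸ one_mem _)) hz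
  have c2 := cZ h (cmP (h3 hr) hx) hz
  calc _ = r * z * r⁻¹ * ((r * r) * x * r⁻¹ * x⁻¹ * r⁻¹) := by rw [commutatorElement_def]; group
    _ = z⁻¹ * ⁅r, x⁆⁻¹ := by
      rw [c1, r2, GHM.inv_eq (h.Z2 z hz), commutatorElement_inv, commutatorElement_def,
        GHM.inv_eq r2, one_mul]
    _ = _ := by rw [c2, mul_inv_rev]

theorem conj_out (hr : r ∈ (S : Subgroup G)) (hP : r ∉ P) (r2 : r * r = 1)
    (hr' : r' ∈ (S : Subgroup G)) (hP' : r' ∉ P) (r2' : r' * r' = 1) : IsConj r r' := by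
  have hm : r' * r⁻¹ ∈ P := by
    simpa using mul_mem (xt h h2 h3 hr' hP' (r2' ▸ one_mem _))
      (inv_mem (xt h h2 h3 hr hP (r2 ▸ one_mem _)))
  obtain ⟨x, hx, z, hz, e1⟩ := dec h h2 h3 hs hr hP r2 hm (by
    rw [← AT h h2 h3 hs hr hP (r2 ▸ one_mem _), ← hs.act (h3 hr) hm, ← hs.inv hm]
    congr 1
    rw [mul_inv_rev, inv_inv, GHM.inv_eq r2', GHM.inv_eq r2, mul_assoc, mul_assoc, r2, mul_one])
  obtain ⟨a, ha, c, hc, -, Ta, Tc, ac, k, -⟩ := st h hs h0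
  have k1 : ∀ n ∈ P, A t (π n) = π n → IsConj r (n * n * r) := fun n hn e => isConj_iff.2 ⟨n, by
    have := invt h h0 h2 h3 hs hr hP r2 hn e
    calc _ = n * (r * n * r⁻¹)⁻¹ * r := by group
      _ = _ := by rw [this, inv_inv]⟩
  have k2 : IsConj r (z * r) := by
    rcases memZ h ha hc k hz with rfl | rfl | rfl | rfl
    · rw [one_mul]
    · exact k1 a ha Ta
    · exact k1 c hc Tc
    · exact sq2 ac ▸ k1 _ (mul_mem ha hc) (by rw [hs.mul ha hc, map_add, Ta, Tc])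
  refine k2.trans (isConj_iff.2 ⟨r * x, ?_⟩)
  have c1 := cs_comm (mul_mem (xZ h h0 h2 h3 hr hP (r2 ▸ one_mem _)) (h.MZ (PM h hx))) hz
  rw [← mul_assoc, c1, mul_inv_eq_iff_eq_mul.1 e1, commutatorElement_def, mul_inv_rev,
    GHM.inv_eq r2]
  group

theorem Fz (hG : Ctx S) (hc : c ∈ P) (c0 : c ∈ Cs (S : Subgroup G)) (c2 : c * c = 1) (c1 : c ≠ 1)
    (ha : a ∈ P) (a2 : a * a = 1) (a1 : a ≠ 1) (ac : a ≠ c) (Ta : A t (π a) = π a) :
    ∃ x ∈ P, x ≠ c ∧ IsConj c x := by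
  obtain ⟨x, hx, n, k⟩ := hG.zstar (h.le hc) c2 c1
  by_cases hP : x ∈ P
  · exact ⟨x, hP, n, k⟩
  have x2 : x * x = 1 := by
    obtain ⟨g, rfl⟩ := isConj_iff.1 k
    exact sqc g c2
  obtain ⟨g, e1, e2⟩ := ext_cen c0 k.symm
  have s1 := e2 c (h.le hc) (cs_comm c0 hx)
  have s2 := e2 a (h.le ha) (by
    rw [eq_comm, ← mul_inv_eq_iff_eq_mul, invt h h0 h2 h3 hs hx hP x2 ha Ta, GHM.inv_eq a2])
  by_cases p1 : g * c * g⁻¹ ∈ P
  · exact ⟨_, p1, fun e => n (by simpa using e1.trans e.symm), isConj_iff.2 ⟨g, rfl⟩⟩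
  have k1 : ∀ b, b * b = 1 → g * b * g⁻¹ ∈ (S : Subgroup G) → g * b * g⁻¹ ∉ P → IsConj c b :=
    fun b b2 s p => (k.trans (conj_out h h0 h2 h3 hs hx hP x2 s p (sqc g b2))).trans
      (isConj_iff.2 ⟨g, rfl⟩).symm
  by_cases p2 : g * a * g⁻¹ ∈ P
  · refine ⟨c * a, mul_mem hc ha, by simpa using a1, k1 _ ?_ (by simpa only [conj_mul] using mul_mem s1 s2)
      fun p => p1 (by simpa [mul_assoc] using mul_mem p (inv_mem p2))⟩
    rw [sq2 (cs_comm c0 (h.le ha)), a2, c2, mul_one]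
  · exact ⟨a, ha, ac, k1 a a2 s2 p2⟩

omit h0 in
theorem noE (e1 : E ≤ S) (e2 : (S : Subgroup G) ≤ Ns E) (e3 : ∀ x ∈ E, x ^ 2 = 1) (ha : a ∈ P)
    (Ta : A t (π a) = π a) (a1 : a * a ≠ 1) : E ≤ P := fun x hx => by_contra fun hP => by
  obtain ⟨y, hy, z, hz, rfl⟩ := dec h h2 h3 hs (e1 hx) hP (by rw [← pow_two, e3 x hx]) ha Ta
  refine a1 ?_
  rw [sq_mul h (cmP (h3 (e1 hx)) hy) hz, ← pow_two]
  refine e3 _ ?_
  simpa [mul_assoc, commutatorElement_def] using mul_mem hx (inv_mem (mem_normalizer_conj (e2 (h.le hy)) hx))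

theorem four (hG : Ctx S) (k1 : Nat.card Z = 4) (k2 : ∀ p ∈ P, p * p = 1 → p ∈ Z) : Out S := by
  obtain ⟨a, ha, c, hc, n, Ta, Tc, ac, r, -⟩ := st h hs h0
  have SZ := h3.trans (NZ h)
  have o3 : a * a * (c * c) ≠ 1 := fun e => n (k2 _ (mul_mem ha hc) ((sq2 ac).trans e))
  have oth : ∀ w ∈ Z, ∃ x ∈ Z, x ≠ 1 ∧ x ≠ w := fun w _ => by
    by_contra k
    push Not at k
    have := Set.ncard_le_ncard (show (Z : Set G) ⊆ {1, w} from fun x hx =>
      or_iff_not_imp_left.2 (k x hx))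
    have := Set.ncard_insert_le (1 : G) {w}
    rw [Set.ncard_singleton] at this
    have : (Z : Set G).ncard = 4 := k1
    omega
  have o1 : a * a ≠ 1 := fun e => by
    obtain ⟨x, hx, x1, x2⟩ := oth _ (sq h hc)
    rcases memZ h ha hc r hx with k | k | k | k <;> simp_all
  have o2 : c * c ≠ 1 := fun e => by
    obtain ⟨x, hx, x1, x2⟩ := oth _ (sq h ha)
    rcases memZ h ha hc r hx with k | k | k | k <;> simp_all
  have fu : ∀ w ∈ Z, w ≠ 1 → ∃ x ∈ Z, x ≠ 1 ∧ x ≠ w ∧ IsConj w x := fun w hw w1 => by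
    by_cases k : w ∈ Cs (S : Subgroup G)
    · obtain ⟨b, hb, b1, b2⟩ := oth w hw
      obtain ⟨x, hx, x1, x2⟩ := Fz h h0 h2 h3 hs hG (ZP h hw) k (h.Z2 w hw) w1 (ZP h hb) (h.Z2 b hb)
        b1 b2 (by rw [(hs.zero (ZP h hb)).2 hb, map_zero])
      obtain ⟨g, rfl⟩ := isConj_iff.1 x2
      exact ⟨_, k2 _ hx (sqc g (h.Z2 w hw)), by simpa using w1,
        x1, x2⟩
    · obtain ⟨s, hs, e⟩ : ∃ s ∈ (S : Subgroup G), s * w * s⁻¹ ≠ w := by
        by_contra e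
        push Not at e
        exact k (cs_of fun s hs => (mul_inv_eq_iff_eq_mul.1 (e s hs)).symm)
      exact ⟨_, mem_normalizer_conj (SZ hs) hw, by simpa using w1, e, isConj_iff.2 ⟨s, rfl⟩⟩
  obtain ⟨f1, f2⟩ : IsConj (a * a) (c * c) ∧ IsConj (a * a) (a * a * (c * c)) := by
    obtain ⟨x, hx, x1, x2, x3⟩ := fu _ (sq h ha) o1
    obtain ⟨y, hy, y1, y2, y3⟩ := fu _ (sq h hc) o2
    obtain ⟨z, hz, z1, z2, z3⟩ := fu _ (mul_mem (sq h ha) (sq h hc)) o3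
    refine three ?_ ?_ ?_
    · rcases memZ h ha hc r hx with rfl | rfl | rfl | rfl
      exacts [absurd rfl x1, absurd rfl x2, .inl x3, .inr x3]
    · rcases memZ h ha hc r hy with rfl | rfl | rfl | rfl
      exacts [absurd rfl y1, .inl y3, absurd rfl y2, .inr y3]
    · rcases memZ h ha hc r hz with rfl | rfl | rfl | rfl
      exacts [absurd rfl z1, .inl z3, .inr z3, absurd rfl z2]
  have f : ∀ w ∈ Z, w ≠ 1 → IsConj (a * a) w := fun w hw w1 => by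
    rcases memZ h ha hc r hw with rfl | rfl | rfl | rfl
    exacts [absurd rfl w1, IsConj.refl _, f1, f2]
  exact hG.E1 (fun E e1 e2 e3 => k1 ▸ Trans.card_le_of_le fun x hx => k2 x
    (noE h h2 h3 hs e1 e2 e3 ha Ta o1 hx) (by rw [← pow_two, e3 x hx])) ((ZP h).trans h.le) SZ k1
    h.Z2 fun x hx y hy x1 y1 => (f x hx x1).symm.trans (f y hy y1)

omit hs in
theorem xm (k1 : Nat.card Z = 2) (z1 : z ≠ 1) (hz : z ∈ Z) (zz : ∀ x ∈ Z, x = 1 ∨ x = z)
    (h5 : (Kn P).relIndex M = 5) : Xm (S : Subgroup G) P z := by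
  have he := h.MN h.eM
  refine ⟨h.toEss, by rw [h.card, k1], z1, cs_of fun p hp => cZ h hp hz, fun p hp => zz _ (sq h hp),
    by_contra fun n => h0 (le_bot_iff.1 (h.eq.le.trans (GHB.Phi_le_iff.2 fun p hp =>
      (zz _ (sq h hp)).resolve_right fun e => n ⟨p, hp, e⟩))), fun r hr _ hP r2 => ?_,
    fun k => tP h (k ⟨h.tS, h.tN⟩), ?_⟩
  · obtain ⟨c, hc, p, hp, e1⟩ := (Solv.Coprime.mem_sup_iff' Cs_le_Ns).1 (pow5 h h5)
    refine ⟨e ^ 4, pow_mem he 4, ?_, fun k => tP h ?_, ?_⟩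
    · rw [← pow_mul, mul_comm, pow_mul, ← e1, Commute.mul_pow (cs_comm hc hp),
        show p ^ 4 = p * p * (p * p) by simp only [pow_succ, pow_zero, one_mul, mul_assoc],
        h.Z2 _ (sq h hp), mul_one]
      exact pow_mem hc 4
    · have k1 : e ∈ Kn P := by
        simpa [pow_succ' e 4] using mul_mem (pow5 h h5) (inv_mem (mem_sup_right k))
      have := Trans.card_le_of_le fun p hp => h.fpf p hp (KC h hp k1).2
      have := h.card
      omega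
    · have k1 : r * t⁻¹ ∈ P := by
        simpa [mul_assoc] using mul_mem (xt h h2 h3 hr hP r2) (inv_mem h.t2)
      have := mul_mem (mul_mem (mem_sup_left k1) (h.inv _ (pow_mem h.eM 4)))
        (mem_sup_left (mem_normalizer_conj' (pow_mem he 4) (inv_mem k1)))
      convert this using 1
      group
  · have c1 := card_idx (cyc h h2).1
    have c2 := card_idx (idxE h)
    have c3 := Trans.card_le_of_le (inf_le_left : (P ⊔ zpowers t) ⊓ (S ⊓ Ns P) ≤ _)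
    have c4 := Trans.card_le_of_le (inf_le_left : P ⊓ (P ⊔ zpowers t) ≤ _)
    have := h.card
    omega

theorem nine (hG : Ctx S) (z1 : z ≠ 1) (hz : z ∈ Z) (zz : ∀ x ∈ Z, x = 1 ∨ x = z)
    (h5 : (Kn P).relIndex M ≠ 5) {u : G} (hu : u ∈ P) (uZ : u ∉ Z) (u2 : u * u = 1)
    (tu : ⁅t, u⁆ ∈ Z) (k1 : ∀ p ∈ P, p ∉ Z → p * p = 1 → IsConj u p)
    (k2 : ∀ p ∈ P, p ∉ Z → p * p = 1 → ⁅t, p⁆ ∈ Z → u * p ∈ Z) : Out S := by
  obtain ⟨a, ha, c, hc, n, Ta, -, -, -, k⟩ := st h hs h0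
  obtain ⟨a1, c1, ⟨d, hd, n0, Xa⟩, -⟩ := k.resolve_left h5
  have SZ := h3.trans (NZ h)
  have z2 := h.Z2 z hz
  have Tu := (hs.comm_iff h.tN hu).1 tu
  have zu := cZ h hu hz
  obtain ⟨y, hy⟩ := h2.resolve_left fun r => by
    have key : (S : Subgroup G) ⊓ Ns P ≤ Cg Z a := fun g hg => by
      rcases r g hg.1 hg.2 with k | k
      · exact KC h ha (mem_sup_left k)
      · simpa using mul_mem (KC h ha (mem_sup_left k))
          (inv_mem (⟨NZ h h.tN, (hs.comm_iff h.tN ha).2 Ta⟩ : t ∈ Cg Z a))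
    rcases h.min (M ⊓ Cg Z a) (le_inf h.KM (KC h ha)) inf_le_left fun g hg => mem_Ns_inf (h.nM hg)
      (le_normalizer (key hg)) with k | k
    · exact n0 (k.le ⟨hd, NZ h (h.MN hd), (hs.comm_iff (h.MN hd) ha).2 Xa⟩)
    · exact a1 (h.Z2 a (h.fpf a ha (k.ge h.eM).2.2))
  have m4 : ∀ x, x ∈ F4 z u ↔ x = 1 ∨ x = z ∨ x = u ∨ x = z * u := fun x => mem_F4 z2 u2 zu
  have fx : ∀ p ∈ P, p * p = 1 → A t (π p) = π p → π p = 0 ∨ π p = π u := fun p hp p2 e =>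
    or_iff_not_imp_left.2 fun n => ((hs.eq_iff' hu hp).2 (k2 p hp (fun k => n ((hs.zero hp).2 k)) p2
      ((hs.comm_iff h.tN hp).2 e))).symm
  have m4' : ∀ p ∈ P, π p = 0 ∨ π p = π u → p ∈ F4 z u := fun p hp e => by
    have ZF : Z ≤ F4 z u := fun x hx => mem_sup_left ((mem_zp z2).2 (zz x hx))
    rcases e with e | e
    · exact ZF ((hs.zero hp).1 e)
    · simpa using mul_mem (ZF ((hs.eq_iff hp hu).1 e)) (mem_sup_right (mem_zpowers u))
  have su : ∀ s ∈ (S : Subgroup G), A s (π u) = π u := fun s h' => by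
    have hp := mem_normalizer_conj (h3 h') hu
    rw [← hs.act (h3 h') hu]
    refine (fx _ hp (sqc s u2) ?_).resolve_left fun e =>
      uZ ((mem_normalizer_iff.1 (SZ h') u).2 ((hs.zero hp).1 e))
    rw [← AT h h2 h3 hs (mul_mem (mul_mem h' h.tS) (inv_mem h'))
      (fun e => tP h ((mem_normalizer_iff.1 (h3 h') t).2 e))
      (by simpa only [conj_mul] using mem_normalizer_conj (h3 h') h.t2),
      ← hs.act (h3 (mul_mem (mul_mem h' h.tS) (inv_mem h'))) hp, hs.act (h3 h') hu, ← Tu,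
      ← hs.act h.tN hu, ← hs.act (h3 h') (mem_normalizer_conj h.tN hu)]
    congr 1; group
  have cu : ∀ x ∈ F4 z u, x ≠ 1 → IsConj u x := by
    obtain ⟨x, hx, x1, x2⟩ := Fz h h0 h2 h3 hs hG (ZP h hz) (cs_of fun s hs =>
      (mul_inv_eq_iff_eq_mul.1 ((zz _ (mem_normalizer_conj (SZ hs) hz)).resolve_left
        (by simpa using z1))).symm) z2 z1 hu u2 (fun e => uZ (e ▸ one_mem _))
      (fun e => uZ (e ▸ hz)) Tu
    obtain ⟨g, rfl⟩ := isConj_iff.1 x2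
    intro w hw w1
    rcases (m4 w).1 hw with rfl | rfl | rfl | rfl
    · exact absurd rfl w1
    · exact (k1 _ hx (fun e => (zz _ e).elim (by simpa using z1) x1) (sqc g z2)).trans x2.symm
    · exact IsConj.refl _
    · exact k1 _ (mul_mem (ZP h hz) hu) (fun e => uZ ((mul_mem_cancel_left hz).1 e))
        (by rw [sq2 zu, z2, u2, mul_one])
  have c4 : Nat.card (F4 z u) = 4 := by
    rw [GHB.card_adj (fun b hb => by
      rw [← cZ h hu (zpowers_le.2 hz hb), mul_inv_cancel_right]; exact hb) (u2 ▸ one_mem _)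
      fun e => uZ (zpowers_le.2 hz e), Nat.card_zpowers, Four.ord_two z2 z1]
  refine hG.E1 (fun E e1 e2 e3 => c4 ▸ Trans.card_le_of_le fun w hw => ?_)
    (sup_le (zpowers_le.2 (h.le (ZP h hz))) (zpowers_le.2 (h.le hu))) (fun s h' => ns_of fun x hx => ?_)
    c4 (fun x hx => ?_) fun x hx y hy x1 y1 => (cu x hx x1).symm.trans (cu y hy y1)
  · have EP := noE h h2 h3 hs e1 e2 e3 ha Ta a1
    have sq : ∀ x ∈ E, x * x = 1 := fun x hx => by rw [← pow_two, e3 x hx]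
    have YY : ∀ v, A y (A y v) = A t v := fun v => by rw [← hs.A_mul hy.yN hy.yN, hy.y2]
    have w1 : ⁅y, w⁆ ∈ E := cmP (e2 hy.yS) hw
    have p1 := πc h h2 h3 hs hy.yS (EP hw)
    have p2 := fx _ (EP (cmP (e2 h.tS) hw)) (sq _ (cmP (e2 h.tS) hw))
    rw [πc h h2 h3 hs h.tS (EP hw)] at p2
    have p3 : A y (π w + A t (π w)) = π w + A t (π w) := by
      rcases p2 (by rw [map_add, TT h hs, add_comm]) with e | e <;> rw [e]
      exacts [map_zero _, su y hy.yS]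
    have p4 : A y (π ⁅y, w⁆) = π ⁅y, w⁆ := by
      rcases fx _ (EP w1) (sq _ w1) (by
        rw [p1, map_add, ← eq_of_add hs.two, ← YY (A y _), YY (π w), add_add_add_comm,
          add_comm (A y _), ← map_add, p3, add_comm (π w), hs.two]) with e | e <;> rw [e]
      exacts [map_zero _, su y hy.yS]
    rw [p1, map_add, YY, add_comm, add_left_inj] at p4
    exact m4' w (EP hw) (fx w (EP hw) (sq w hw) p4)
  · have xP : x ∈ P := sup_le (zpowers_le.2 (ZP h hz)) (zpowers_le.2 hu) hx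
    refine m4' _ (mem_normalizer_conj (h3 h') xP) ?_
    rw [hs.act (h3 h') xP]
    have e := (hs.zero (ZP h hz)).2 hz
    rcases (m4 x).1 hx with rfl | rfl | rfl | rfl
    · exact .inl (by rw [(hs.zero xP).2 (one_mem _), map_zero])
    · exact .inl (by rw [e, map_zero])
    · exact .inr (su s h')
    · exact .inr (by rw [hs.mul (ZP h hz) hu, e, zero_add, su s h'])
  · rcases (m4 x).1 hx with rfl | rfl | rfl | rfl
    exacts [mul_one _, z2, u2, by rw [sq2 zu, z2, u2, mul_one]]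

end PzE

open PzE in
theorem Pz.out (h : Ctx S) (h1 : Pz (S : Subgroup G) P M Z t e) (h0 : Z ≠ ⊥)
    (h2 : R2 (S : Subgroup G) P t ∨ ∃ y, R4 (S : Subgroup G) P t y) (h3 : (S : Subgroup G) ≤ Ns P) :
    Out S ∨ ∃ z, Xm (S : Subgroup G) P z := by
  obtain ⟨V, _, π, A, hs⟩ := sc h1
  rcases h1.tri h0 with ⟨k1, k2⟩ | ⟨k1, k2⟩
  · exact .inl (four h1 h0 h2 h3 hs h k1 k2)
  obtain ⟨z, z1, zz⟩ := (Nat.card_eq_two_iff' (1 : Z)).1 k1
  have z1' : (z : G) ≠ 1 := fun e => z1 (Subtype.ext e)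
  have zz' : ∀ x ∈ Z, x = 1 ∨ x = z := fun x hx => or_iff_not_imp_left.2 fun n =>
    congrArg Subtype.val (zz ⟨x, hx⟩ fun e => n (congrArg Subtype.val e))
  by_cases h5 : (Kn P).relIndex M = 5
  · exact .inr ⟨z, xm h1 h0 h2 h3 k1 z1' z.2 zz' h5⟩
  obtain ⟨u, hu, uZ, u2, tu, k3, k4⟩ := k2.resolve_left h5
  exact .inl (nine h1 h0 h2 h3 hs h z1' z.2 zz' h5 hu uZ u2 tu k3 k4)

end Cfsg.Lib.GHM
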