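import Cfsg.Agent.GHM.ClsS
import Cfsg.Agent.GHM.ClsN
import Cfsg.Agent.GHM.Phi
import Cfsg.Agent.GHM.PzE
import Cfsg.Agent.GHM.PzN
import Cfsg.Agent.GHM.Xm
import Cfsg.Agent.GHM.A5E

/-!
# Simple groups of sectional 2-rank at most four: fusion is generated by `Tri`s
-/

set_option autoImplicit false

namespace Cfsg.Lib.GHM

open Subgroup Cfsg.Lib.Trans Cfsg.Lib.Gold

universe u

variable {G : Type u} [Group G] [Finite G] {S : Sylow 2 G} {P X : Subgroup G} {x : G}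

theorem Ctx.triStep (h : Ctx S) (hO : ¬ Out S) (h1 : StrongAG.Cond 2 (S : Subgroup G) (P, X) x) :
    TriStep (S : Subgroup G) P x := by
  by_cases c : Group.IsSolvable (Ns P)
  · refine (h.cls_solv h1 c).resolve_right ?_
    rintro ⟨M, t, a, b⟩
    obtain ⟨Z, e, k⟩ := a.pz h
    by_cases z : Z = ⊥
    · exact Pz.one h (z ▸ k) b
    · rcases k.out h z b (k.normal b) with l | ⟨z, l⟩
      exacts [hO l, hO (l.out h)]
  · rcases h.cls_ns h1 c with ⟨z, l⟩ | ⟨ρ, r, e, l⟩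
    exacts [(hO (l.out h)).elim, (hO (l.out h)).elim]

theorem Ctx.out_or_gen (h : Ctx S) : Out S ∨ Gen (S : Subgroup G) := by
  refine or_iff_not_imp_left.2 fun hO A Φ hA h0 h1 h2 => alp_ind A Φ hA h0 h1 ?_
  intro g P X x k1 k2 k3
  obtain ⟨⟨d₀, s₀, t⟩, p, hp, d, rfl, k⟩ := h.triStep hO k2
  have l1 := h1 g p⁻¹ k1 (fun a ha => t.le (k3 a ha)) (le_normalizer (inv_mem (t.le hp)))
  have f : ∀ n g : G, n ∈ Ns P → (∀ a ∈ A, g * a * g⁻¹ ∈ P) →
      ∀ a ∈ A, n * g * a * (n * g)⁻¹ ∈ P := fun n g hn e a ha => by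
    rw [show n * g * a * (n * g)⁻¹ = n * (g * a * g⁻¹) * n⁻¹ by group]
    exact mem_normalizer_conj hn (e a ha)
  have l2 := f _ _ (le_normalizer (inv_mem hp)) k3
  rcases k with k | ⟨s, k⟩
  · have := h2 _ P _ _ (h2 _ P _ _ l1 t l2) (t.mulC k).symm (f _ _ t.dN l2)
    rwa [show (d₀ * d)⁻¹ * (d₀ * (p⁻¹ * g)) = (p * d)⁻¹ * g by group] at this
  · have := h2 _ P _ _ l1 k.symm l2
    rwa [show d⁻¹ * (p⁻¹ * g) = (p * d)⁻¹ * g by group] at this

end Cfsg.Lib.GHM
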