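import Cfsg.Agent.GHM.D2a
import Cfsg.Agent.GHM.Api
import Cfsg.Agent.Local.KleinA5

/-!
# Simple groups of sectional 2-rank at most four: the twisted dihedral wreath product
-/

set_option autoImplicit false

namespace Cfsg.Lib.GHM

open Subgroup Cfsg.Lib.Trans Cfsg.Lib.Gold Cfsg.Lib.Rank2 Cfsg.Lib.GHB
open scoped commutatorElement

universe u

variable {G : Type u} [Group G] [Finite G] {S : Sylow 2 G} {P B E : Subgroup G}
  {a b d g m r s t w x y z : G} {k : ℕ}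

namespace K1

omit [Finite G] in
theorem adj_el (hB : ∀ b ∈ B, b * b = 1) (hx : x * x = 1) (hc : ∀ b ∈ B, x * b = b * x)
    (hn : x ∉ B) : (∀ e ∈ B ⊔ zpowers x, e * e = 1) ∧
      Nat.card (B ⊔ zpowers x : Subgroup G) = 2 * Nat.card B ∧
      ∀ e ∈ B ⊔ zpowers x, e ∈ B ∨ ∃ f ∈ B, e = x * f := by
  have h1 : ∀ b ∈ B, x * b * x⁻¹ ∈ B := fun b hb => by rwa [hc b hb, mul_inv_cancel_right]
  have h2 : ∀ e ∈ B ⊔ zpowers x, e ∈ B ∨ ∃ f ∈ B, e = x * f := fun e he =>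
    ((mem_adj h1 (hx ▸ one_mem B)).1 he).imp_right fun h => ⟨_, h, by group⟩
  refine ⟨fun e he => ?_, card_adj h1 (hx ▸ one_mem B) hn, h2⟩
  rcases h2 e he with h | ⟨f, h, rfl⟩
  · exact hB e h
  · rw [mul_assoc, ← mul_assoc f, ← hc f h, mul_assoc, hB f h, mul_one, hx]

omit [Finite G] in
theorem zp (h1 : z * z = 1) (h2 : z ≠ 1) :
    (∀ e ∈ zpowers z, e * e = 1) ∧ Nat.card (zpowers z) = 2 :=
  ⟨fun e he => by rcases (mem_zp h1).1 he with rfl | rfl <;> simp [h1],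
    by rw [Nat.card_zpowers, orderOf_eq_prime (by rw [pow_two, h1]) h2]⟩

theorem card_idx (h : Local.IdxLeTwo B E) : Nat.card E ≤ 2 * Nat.card (B ⊓ E : Subgroup G) := by
  rcases h.le_or_relIndex with h1 | h1
  · rw [inf_eq_right.2 h1]; omega
  · rw [← Solv.PG.relIndex_mul_card_inf B E, h1]

omit [Finite G] in
theorem v_F4' : x ∈ B ⊔ zpowers x := mem_sup_right (mem_zpowers x)

omit [Finite G] in
theorem comm_idx (h : Local.IdxLeTwo B E) : ∀ x ∈ E, ∀ y ∈ E, ⁅x, y⁆ ∈ B := fun x hx y hy => by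
  rw [commutatorElement_def, h.mul_mem_iff (mul_mem (mul_mem hx hy) (inv_mem hx)) (inv_mem hy),
    h.mul_mem_iff (mul_mem hx hy) (inv_mem hx), h.mul_mem_iff hx hy, inv_mem_iff, inv_mem_iff]
  tauto

/-- The elements normalising `B` and centralising `r` modulo `B`. -/
def Tr (B : Subgroup G) (r : G) : Subgroup G where
  carrier := {g | g ∈ Ns B ∧ ⁅g, r⁆ ∈ B}
  one_mem' := ⟨one_mem _, by simp⟩
  mul_mem' := fun {g h} hg hh => ⟨mul_mem hg.1 hh.1, by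
    rw [show ⁅g * h, r⁆ = g * ⁅h, r⁆ * g⁻¹ * ⁅g, r⁆ by simp only [commutatorElement_def]; group]
    exact mul_mem (mem_normalizer_conj hg.1 hh.2) hg.2⟩
  inv_mem' := fun {g} hg => ⟨inv_mem hg.1, by
    rw [show ⁅g⁻¹, r⁆ = g⁻¹ * ⁅g, r⁆⁻¹ * g⁻¹⁻¹ by simp only [commutatorElement_def]; group]
    exact mem_normalizer_conj (inv_mem hg.1) (inv_mem hg.2)⟩

omit [Finite G] in
theorem Tr_eq_1' : type_of% @Tr.eq_1 := @Tr.eq_1

variable (h0 : FV S P d s z b a t r (k + 1))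
include h0

omit [Finite G] in
theorem tt (x : G) : t * (t * x * t⁻¹) * t⁻¹ = x := by
  rw [show t * (t * x * t⁻¹) * t⁻¹ = t * t * x * (t * t)⁻¹ by group, h0.t2]; simp

omit [Finite G] in
theorem ra (l : ℤ) : r * a ^ l = a ^ l * r := by
  rw [← h0.r2]; exact ((Commute.refl r).mul_right (Commute.refl r)).zpow_right l

omit [Finite G] in
theorem rz : r * z = z * r := by
  rw [← h0.sh.dh.za, ← zpow_natCast]; exact ra h0 _

omit [Finite G] in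
theorem rc' (hy : y ∈ Dl a b) : t * r * t⁻¹ * y = y * (t * r * t⁻¹) := by
  rw [← tt h0 y, conj_mul, conj_mul, h0.rc y hy]

theorem zD : z ∈ Dl a b := mem_sup_left h0.sh.dh.za'

theorem cjM (hm : m ∈ (S : Subgroup G) ⊓ C1 z) : t * m * t⁻¹ ∈ (S : Subgroup G) ⊓ C1 z :=
  mem_normalizer_conj (h0.sh.nM h0.sh.tS) hm

theorem cjY (hg : g ∈ (S : Subgroup G)) (hy : y ∈ YY a b t) : g * y * g⁻¹ ∈ YY a b t :=
  mem_normalizer_conj (h0.sh.nY hg) hy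

omit [Finite G] in
theorem rM : r ∈ (S : Subgroup G) ⊓ C1 z := ⟨h0.rS, mem_C1.2 (rz h0)⟩

omit [Finite G] h0 in
theorem DY (hy : y ∈ Dl a b) : y ∈ YY a b t := mem_sup_left hy

omit [Finite G] h0 in
theorem DY' (hy : y ∈ Dl a b) : t * y * t⁻¹ ∈ YY a b t := mem_sup_right (conj_mem_cj.2 hy)

omit [Finite G] in
theorem r'2 : t * r * t⁻¹ * (t * r * t⁻¹) ∈ YY a b t := by
  rw [conj_mul, h0.r2]; exact DY' z_F4

theorem ζY : z * (t * z * t⁻¹) ∈ YY a b t := mul_mem (DY (zD h0)) (DY' (zD h0))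

theorem invD (hy : y ∈ Dl a b) (h : y * y = 1) : y = 1 ∨ y = z ∨ Rf a b y := by
  rcases h0.sh.dh.mem.1 hy with h1 | h1
  exacts [(h0.sh.dh.inv h1 h).imp_right Or.inl, Or.inr (Or.inr h1)]

omit [Finite G] in
theorem rfz (hy : Rf a b y) : Rf a b (z * y) := by
  obtain ⟨j, rfl⟩ := hy
  exact ⟨((2 ^ (k + 1) : ℕ) : ℤ) + j, by rw [zpow_add, zpow_natCast, h0.sh.dh.za, mul_assoc]⟩

theorem uniq1 {y₁ y₂ : G} (h1 : y₁ ∈ Dl a b) (h2 : y₂ ∈ Dl a b) (h : y₁ * (t * y₂ * t⁻¹) = 1) :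
    y₁ = 1 ∧ y₂ = 1 := h0.sh.uniq h1 h2 (one_mem _) (one_mem _) (by rw [h]; simp)

/-- An elementary group of order sixteen in `C(z)` contains the components of its elements. -/
theorem comp (hE : E ≤ (S : Subgroup G) ⊓ C1 z) (h1 : ∀ e ∈ E, e * e = 1) (h2 : Nat.card E = 16)
    (hy : y ∈ E) (hY : y ∈ YY a b t) : ∃ y₁ y₂, y = y₁ * (t * y₂ * t⁻¹) ∧ y₁ ∈ E ∧
      t * y₂ * t⁻¹ ∈ E ∧ (y₁ = 1 ∨ y₁ = z ∨ Rf a b y₁) ∧ (y₂ = 1 ∨ y₂ = z ∨ Rf a b y₂) := by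
  obtain ⟨y₁, h3, y₂, h4, rfl⟩ := h0.sh.memY.1 hY
  obtain ⟨h5, h6⟩ := uniq1 h0 (mul_mem h3 h3) (mul_mem h4 h4) (by
    rw [← h1 _ hy, ← conj_mul, mul_assoc y₁ y₁, ← mul_assoc y₁ (t * y₂ * t⁻¹),
      mul_assoc y₁ (t * y₂ * t⁻¹) (y₁ * _), ← mul_assoc (t * y₂ * t⁻¹), ← h0.sh.com _ h3 _ h4])
  have h7 := fun e (he : e ∈ E) => h0.sh.split (hE he).1 (mem_C1.1 (hE he).2) h3 h4
    (comm_of_sq h1 he hy)
  exact ⟨y₁, y₂, rfl, h0.cx.toCtx.mem_e16 h1 h2 h5 (cs_of fun e he => (h7 e he).1.symm),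
    h0.cx.toCtx.mem_e16 h1 h2 (by rw [conj_mul, h6]; simp) (cs_of fun e he => (h7 e he).2.symm),
    invD h0 h3 h5, invD h0 h4 h6⟩

variable (h1 : b * r * b⁻¹ = r⁻¹) (h2 : ⁅r, t * r * t⁻¹⁆ = z * (t * z * t⁻¹))
include h1

omit [Finite G] in
theorem rb2 : r * b * (r * b) = 1 := by
  rw [show r * b * (r * b) = r * (b * r * b⁻¹) * (b * b) by group, h1, h0.sh.dh.b2]; simp

theorem sq_r (hy : y ∈ Dl a b) : r * y * (r * y) ∈ Dl a b ∧ z * (r * y * (r * y)) ≠ 1 := by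
  rcases h0.sh.dh.mem.1 hy with ⟨l, rfl⟩ | ⟨l, rfl⟩
  · have h3 : r * a ^ l * (r * a ^ l) = a ^ (1 + 2 * l) := by
      rw [mul_assoc, ← mul_assoc (a ^ l), ← ra h0, ← mul_assoc, ← mul_assoc, h0.r2]; group
    simp only [h3]
    refine ⟨zpow_mem z_F4 _, fun h => ?_⟩
    rw [← h0.sh.dh.za, ← zpow_natCast, ← zpow_add, ← zpow_zero a, h0.sh.dh.pow_eq] at h
    have h4 := (h.of_dvd (dvd_pow_self 2 (Nat.succ_ne_zero _))).dvd
    push_cast at h4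
    rw [pow_succ] at h4
    omega
  · have h3 : r * (a ^ l * b) * (r * (a ^ l * b)) = 1 := by
      rw [show r * (a ^ l * b) * (r * (a ^ l * b)) =
        r * a ^ l * (b * r * b⁻¹) * (b * a * b⁻¹) ^ l * (b * b) by rw [conj_zpow]; group, h1,
        h0.sh.dh.ba, h0.sh.dh.b2, ra h0]
      group
    rw [h3, mul_one]
    exact ⟨one_mem _, h0.sh.dh.z1⟩

omit h1
include h2

theorem r'r : t * r * t⁻¹ * r = z * (t * z * t⁻¹) * (r * (t * r * t⁻¹)) := by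
  rw [← mul_right_inj (z * (t * z * t⁻¹)), ← mul_assoc _ (z * _), h0.sh.ζ2, one_mul, ← h2,
    commutatorElement_def]
  group

theorem mem_Tr (hm : m ∈ (S : Subgroup G) ⊓ C1 z) : ⁅m, r⁆ ∈ YY a b t := by
  have a1 : YY a b t ≤ Tr (YY a b t) r := fun y hy => ⟨le_normalizer hy, by
    rw [show ⁅y, r⁆ = y * (r * y⁻¹ * r⁻¹) by simp only [commutatorElement_def]; group]
    exact mul_mem hy (cjY h0 h0.rS (inv_mem hy))⟩
  have a2 : r ∈ Tr (YY a b t) r := ⟨h0.sh.nY h0.rS, by simp⟩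
  have a3 : t * r * t⁻¹ ∈ Tr (YY a b t) r := ⟨h0.sh.nY (cjM h0 (rM h0)).1, by
    rw [← commutatorElement_inv, h2]; exact inv_mem (ζY h0)⟩
  rcases h0.cos m hm.1 (mem_C1.1 hm.2) with h | h | h | h
  exacts [(a1 h).2, ((mul_mem_cancel_left a2).1 (a1 h)).2, ((mul_mem_cancel_left a3).1 (a1 h)).2,
    ((mul_mem_cancel_left (mul_mem a2 a3)).1 (a1 h)).2]

include h1

/-- There is no involution in `r r' Y`. -/
theorem noinv (hy : y ∈ YY a b t) : r * (t * r * t⁻¹) * y * (r * (t * r * t⁻¹) * y) ≠ 1 := by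
  intro h
  obtain ⟨y₁, h3, y₂, h4, rfl⟩ := h0.sh.memY.1 hy
  obtain ⟨a1, a2⟩ := sq_r h0 h1 h3
  obtain ⟨a3, -⟩ := sq_r h0 h1 h4
  refine a2 (uniq1 h0 (mul_mem (zD h0) a1) (mul_mem (zD h0) a3) ?_).1
  have c1 := rc' h0 h3
  have c2 := h0.rc _ h4
  have c3 := h0.sh.com _ h3 _ h4
  have c4 := r'r h0 h2
  have c5 := h0.sh.com _ a1 _ (zD h0)
  have c6 := cs_comm h0.sh.ζc (mul_mem h0.rS (h0.sh.dh.le h3).1)
  rw [← conj_mul, ← conj_mul, ← conj_mul, ← h]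
  generalize t * r * t⁻¹ = r', t * y₂ * t⁻¹ = y', t * z * t⁻¹ = z' at *
  calc _ = z * (r * y₁ * (r * y₁) * z') * (r' * y' * (r' * y')) := by group
    _ = z * z' * (r * y₁) * (r * (y₁ * r') * y') * (r' * y') := by rw [c5]; group
    _ = r * y₁ * (z * z' * (r * r')) * (y₁ * y') * (r' * y') := by rw [c6, ← c1]; group
    _ = r * (y₁ * r') * (r * y') * (y₁ * r') * y' := by rw [← c4, c3]; group
    _ = _ := by rw [← c1, c2]; group

theorem rr' : r * (t * r * t⁻¹) ∉ YY a b t := fun h => noinv h0 h1 h2 (inv_mem h) (by group)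

theorem cos3 (hm : m ∈ (S : Subgroup G) ⊓ C1 z) (h : m * m = 1) :
    m ∈ YY a b t ∨ r * m ∈ YY a b t ∨ t * r * t⁻¹ * m ∈ YY a b t := by
  rcases h0.cos m hm.1 (mem_C1.1 hm.2) with h3 | h3 | h3 | h3
  exacts [Or.inl h3, Or.inr (Or.inl h3), Or.inr (Or.inr h3), absurd (by
    rw [← inv_one, ← h]; group)
    (noinv h0 h1 h2 (cjY h0 (inv_mem (mul_mem h0.rS (cjM h0 (rM h0)).1)) (inv_mem h3)))]

theorem both (h3 : r * m ∈ YY a b t) (h4 : t * r * t⁻¹ * m ∈ YY a b t) : False :=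
  rr' h0 h1 h2 (by
    rw [show r * (t * r * t⁻¹) = r * m * (t * r * t⁻¹ * m)⁻¹ * (t * r * t⁻¹ * (t * r * t⁻¹)) by group]
    exact mul_mem (mul_mem h3 (inv_mem h4)) (r'2 h0))

/-- An involution of `C(z)` commuting with an element outside lies in `Y`. -/
theorem sym (hm : m ∈ (S : Subgroup G) ⊓ C1 z) (h : m * m = 1) (hx : x ∈ (S : Subgroup G))
    (hz : x ∉ (S : Subgroup G) ⊓ C1 z) (hc : x * m = m * x) : m ∈ YY a b t := by
  have tM : t ∉ (S : Subgroup G) ⊓ C1 z := fun e => h0.sh.tz (mem_C1.1 e.2)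
  have e1 : x * m * x⁻¹ = m := by rw [hc, mul_inv_cancel_right]
  rcases cos3 h0 h1 h2 hm h with h3 | h3 | h3
  · exact h3
  · have h4 := cjY h0 h0.sh.tS (mem_Tr h0 h2 (h0.sh.idx _ (inv_mem h0.sh.tS) _ hx
      (fun e => tM (inv_mem_iff.1 e)) hz))
    have h5 := cjY h0 hx h3
    rw [← conj_mul, e1] at h5
    refine (both h0 h1 h2 h3 ((mul_mem_cancel_left h4).1 ?_)).elim
    convert h5 using 1
    simp only [commutatorElement_def]; group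
  · have h4 := mem_Tr h0 h2 (h0.sh.idx _ hx _ h0.sh.tS hz tM)
    have h5 := cjY h0 hx h3
    rw [← conj_mul, e1] at h5
    refine (both h0 h1 h2 ((mul_mem_cancel_left h4).1 ?_) h3).elim
    convert h5 using 1
    simp only [commutatorElement_def]; group

variable (hE : E ≤ (S : Subgroup G)) (e2 : ∀ e ∈ E, e * e = 1) (e16 : Nat.card E = 16)
include hE e2 e16

theorem le_M : E ≤ (S : Subgroup G) ⊓ C1 z := fun x hx => by
  by_contra hz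
  have h3 := card_idx (B := (S : Subgroup G) ⊓ C1 z) (E := E)
    fun u hu v hv => h0.sh.idx u (hE hu) v (hE hv)
  have h4 := h0.sh.diag_e8 (hE hx) (fun e => hz ⟨hE hx, mem_C1.2 e⟩)
    (E := (S : Subgroup G) ⊓ C1 z ⊓ E) (fun m hm => ⟨sym h0 h1 h2 hm.1 (e2 m hm.2) (hE hx) hz
      (comm_of_sq e2 hx hm.2), mem_C1.2 (comm_of_sq e2 hm.2 hx)⟩) fun e he => e2 e he.2
  omega

theorem idx_Y : Local.IdxLeTwo (YY a b t) E := fun x hx y hy a1 a2 => by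
  by_contra a3
  have hM := le_M h0 h1 h2 hE e2 e16
  have k1 : ∀ c, c * x ∈ YY a b t → c * y ∉ YY a b t := fun c c1 c2 => a3 (by
    rw [← inv_eq (e2 x hx), show x⁻¹ * y = (c * x)⁻¹ * (c * y) by group]
    exact mul_mem (inv_mem c1) c2)
  have k2 : ∀ c, c * x ∈ YY a b t → c * (x * y) ∉ YY a b t := fun c c1 c2 =>
    a2 ((mul_mem_cancel_left c1).1 (mul_assoc c x y ▸ c2))
  have k3 : ∀ c, c * y ∈ YY a b t → c * (x * y) ∉ YY a b t := fun c c1 c2 =>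
    a1 ((mul_mem_cancel_left c1).1 (by rwa [mul_assoc, ← comm_of_sq e2 hx hy]))
  have c1 := (cos3 h0 h1 h2 (hM hx) (e2 x hx)).resolve_left a1
  have c2 := (cos3 h0 h1 h2 (hM hy) (e2 y hy)).resolve_left a2
  have c3 := (cos3 h0 h1 h2 (hM (mul_mem hx hy)) (e2 _ (mul_mem hx hy))).resolve_left a3
  rcases c1 with c1 | c1 <;> rcases c2 with c2 | c2 <;> rcases c3 with c3 | c3
  exacts [k1 _ c1 c2, k1 _ c1 c2, k2 _ c1 c3, k3 _ c2 c3, k3 _ c2 c3, k2 _ c1 c3, k1 _ c1 c2,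
    k1 _ c1 c2]

theorem zE : z ∈ E ∧ t * z * t⁻¹ ∈ E := by
  have hM := le_M h0 h1 h2 hE e2 e16
  exact ⟨h0.cx.toCtx.mem_e16 e2 e16 h0.sh.dh.z2 (cs_of fun e he => (mem_C1.1 (hM he).2).symm),
    h0.cx.toCtx.mem_e16 e2 e16 h0.sh.dh'.z2
      (cs_of fun e he => ((h0.sh.cz' (hE he)).1 (mem_C1.1 (hM he).2)).symm)⟩

theorem exists_rf : ∃ y, Rf a b y ∧ (y ∈ E ∨ t * y * t⁻¹ ∈ E) := by
  by_contra hn
  push Not at hn
  have h3 := card_idx (idx_Y h0 h1 h2 hE e2 e16)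
  have h4 := (adj_el (zp h0.sh.dh.z2 h0.sh.dh.z1).1 h0.sh.dh'.z2
    (fun e he => by rcases (mem_zp h0.sh.dh.z2).1 he with rfl | rfl; exacts [by simp, h0.sh.zc'.symm])
    fun he => ((mem_zp h0.sh.dh.z2).1 he).elim h0.sh.dh'.z1 h0.sh.zz'.symm).2.1
  rw [(zp h0.sh.dh.z2 h0.sh.dh.z1).2] at h4
  have h5 : YY a b t ⊓ E ≤ F4 z (t * z * t⁻¹) := fun y hy => by
    obtain ⟨y₁, y₂, rfl, a1, a2, a3, a4⟩ :=
      comp h0 (le_M h0 h1 h2 hE e2 e16) e2 e16 hy.2 hy.1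
    refine mul_mem ?_ ?_
    · rcases a3 with rfl | rfl | a3
      exacts [one_mem _, z_F4, absurd a1 (hn _ a3).1]
    · rcases a4 with rfl | rfl | a4
      exacts [by simp, v_F4, absurd a2 (hn _ a4).2]
  have : _ ≤ Nat.card (zpowers z ⊔ zpowers _ : Subgroup G) := Subgroup.card_le_of_le h5
  omega

theorem claimA (hw : w ∈ E) (hY : w ∈ YY a b t) (h : ∀ x ∈ E, IsConj z x → x ∈ B) : w ∈ B := by
  obtain ⟨y₁, y₂, rfl, a1, a2, a3, a4⟩ := comp h0 (le_M h0 h1 h2 hE e2 e16) e2 e16 hw hY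
  refine mul_mem ?_ ?_
  · rcases a3 with rfl | rfl | a3
    exacts [one_mem _, h _ a1 (IsConj.refl _), h _ a1 (h0.toD2.cA a3).1]
  · rcases a4 with rfl | rfl | a4
    exacts [by simp, h _ a2 (isConj_iff.2 ⟨t, rfl⟩), h _ a2 (h0.toD2.cA a4).2]

theorem claimB (hw : w ∈ E) (hY : w ∈ YY a b t)
    (h : ∀ x ∈ E, IsConj (z * (t * z * t⁻¹)) x → x ∈ B) : w ∈ B := by
  obtain ⟨z1, z2⟩ := zE h0 h1 h2 hE e2 e16
  have b0 := h _ (mul_mem z1 z2) (IsConj.refl _)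
  have b1 : ∀ y, Rf a b y → y ∈ E → y * (t * z * t⁻¹) ∈ B := fun y hy hy' =>
    h _ (mul_mem hy' z2) (h0.toD2.cB hy).1
  have b2 : ∀ y, Rf a b y → t * y * t⁻¹ ∈ E → z * (t * y * t⁻¹) ∈ B := fun y hy hy' =>
    h _ (mul_mem z1 hy') (h0.toD2.cB hy).2
  have b3 : z ∈ B := by
    obtain ⟨y, hy, h3 | h3⟩ := exists_rf h0 h1 h2 hE e2 e16
    · exact (mul_mem_cancel_right (b1 y hy h3)).1
        (mul_assoc z y _ ▸ b1 _ (rfz h0 hy) (mul_mem z1 h3))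
    · have h4 := b2 _ (rfz h0 hy) (by rw [← conj_mul]; exact mul_mem z2 h3)
      rw [← conj_mul, ← mul_assoc, h0.sh.zc', mul_assoc, mul_mem_cancel_right (b2 y hy h3)] at h4
      exact (mul_mem_cancel_right h4).1 b0
  have b4 := (mul_mem_cancel_left b3).1 b0
  obtain ⟨y₁, y₂, rfl, a1, a2, a3, a4⟩ := comp h0 (le_M h0 h1 h2 hE e2 e16) e2 e16 hw hY
  refine mul_mem ?_ ?_
  · rcases a3 with rfl | rfl | a3
    exacts [one_mem _, b3, (mul_mem_cancel_right b4).1 (b1 _ a3 a1)]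
  · rcases a4 with rfl | rfl | a4
    exacts [by simp, b4, (mul_mem_cancel_left b3).1 (b2 _ a4 a2)]

omit hE e2 e16 h1 h2 in
theorem idx_K :
    Local.IdxLeTwo (YY a b t ⊔ zpowers (r * (t * r * t⁻¹)) ⊔ zpowers t) (S : Subgroup G) := by
  generalize hK : YY a b t ⊔ zpowers (r * (t * r * t⁻¹)) ⊔ zpowers t = K
  have a1 : YY a b t ≤ K := hK ▸ le_sup_left.trans le_sup_left
  have a2 : r * (t * r * t⁻¹) ∈ K := hK ▸ mem_sup_left v_F4'
  have a3 : t ∈ K := hK ▸ mem_sup_right (mem_zpowers t)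
  have a4 : ∀ g, t * r * t⁻¹ * g ∈ K → r * g ∈ K := fun g hg => by
    rw [show r * g = r * (t * r * t⁻¹) * (t * r * t⁻¹ * (t * r * t⁻¹))⁻¹ * (t * r * t⁻¹ * g) by group]
    exact mul_mem (mul_mem a2 (inv_mem (a1 (r'2 h0)))) hg
  have a5 : ∀ m ∈ (S : Subgroup G) ⊓ C1 z, m ∈ K ∨ r * m ∈ K := fun m hm => by
    rcases h0.cos m hm.1 (mem_C1.1 hm.2) with h | h | h | h
    exacts [Or.inl (a1 h), Or.inr (a1 h), Or.inr (a4 _ (a1 h)),
      Or.inl ((mul_mem_cancel_left a2).1 (a1 h))]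
  have a6 : ∀ g ∈ (S : Subgroup G), g ∉ K → r * g ∈ K := fun g hg hn => by
    by_cases hz : g ∈ (S : Subgroup G) ⊓ C1 z
    · exact (a5 g hz).resolve_left hn
    · rcases a5 _ (h0.sh.idx _ (inv_mem h0.sh.tS) _ hg
        (fun e => h0.sh.tz (mem_C1.1 (inv_mem_iff.1 e).2)) hz) with h | h
      · exact absurd ((mul_mem_cancel_left (inv_mem a3)).1 h) hn
      · exact a4 g (by simpa only [mul_assoc] using mul_mem a3 h)
  intro x hx y hy c1 c2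
  rw [show x * y = (r * x⁻¹)⁻¹ * (r * y) by group]
  exact mul_mem (inv_mem (a6 _ (inv_mem hx) fun e => c1 (inv_mem_iff.1 e))) (a6 _ hy c2)

omit hE e2 e16 in
theorem mem_Y (hw : w ∈ YY a b t ⊔ zpowers (r * (t * r * t⁻¹)) ⊔ zpowers t)
    (hz : w ∈ (S : Subgroup G) ⊓ C1 z) (h : w * w = 1) : w ∈ YY a b t := by
  have rS := mul_mem (rM h0) (cjM h0 (rM h0))
  have a1 : ∀ x, x ∈ YY a b t ⊔ zpowers (r * (t * r * t⁻¹)) ↔ _ := fun x =>
    mem_adj (fun y hy => cjY h0 rS.1 hy) (by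
      rw [show r * (t * r * t⁻¹) * (r * (t * r * t⁻¹)) = r * (t * r * t⁻¹ * r) * (t * r * t⁻¹) by group,
        r'r h0 h2, ← mul_assoc r, ← cs_comm h0.sh.ζc h0.rS]
      simpa only [mul_assoc] using mul_mem (ζY h0) (mul_mem (show r * r ∈ YY a b t by rw [h0.r2]; exact DY z_F4) (r'2 h0)))
  have a2 : YY a b t ⊔ zpowers (r * (t * r * t⁻¹)) ≤ (S : Subgroup G) ⊓ C1 z :=
    sup_le h0.sh.YM (zpowers_le.2 rS)
  have a3 : w ∈ YY a b t ⊔ zpowers (r * (t * r * t⁻¹)) := by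
    refine ((mem_adj (fun y hy => ?_) (h0.t2 ▸ one_mem _)).1 hw).resolve_right fun e =>
      h0.sh.tz (mem_C1.1 (inv_mem_iff.1 ((mul_mem_cancel_right hz).1 (a2 e))).2)
    rcases (a1 y).1 hy with h3 | h3
    · exact mem_sup_left (cjY h0 h0.sh.tS h3)
    · rw [show t * y * t⁻¹ = t * r * t⁻¹ * (t * (t * r * t⁻¹) * t⁻¹) *
        (t * ((r * (t * r * t⁻¹))⁻¹ * y) * t⁻¹) by group, tt h0, r'r h0 h2]
      exact mul_mem (mul_mem (mem_sup_left (ζY h0)) v_F4') (mem_sup_left (cjY h0 h0.sh.tS h3))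
  exact ((a1 w).1 a3).resolve_right fun e => noinv h0 h1 h2 e (by rwa [mul_inv_cancel_left])

omit hE e2 e16 in
/-- The coset `u ⟨z, b, z'⟩` lies in one class. -/
theorem cls (hy : y ∈ F8 z b (t * z * t⁻¹)) :
    IsConj (t * (r * b) * t⁻¹) (t * (r * b) * t⁻¹ * y) := by
  have bD : b ∈ Dl a b := v_F4
  have iD : a ^ 2 ^ k ∈ Dl a b := pow_mem z_F4 _
  have x8 := (h0.sh.dh.x8 (y := b) ⟨0, by simp⟩).uv
  have uD : ∀ q ∈ Dl a b, t * (r * b) * t⁻¹ * q = q * (t * (r * b) * t⁻¹) := fun q hq => by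
    rw [← conj_mul, mul_assoc, ← h0.sh.com _ hq _ bD, ← mul_assoc, rc' h0 hq, mul_assoc]
  have ir : a ^ 2 ^ k * (r * b) * (a ^ 2 ^ k)⁻¹ = r * b * z := by
    rw [← mul_assoc, ← zpow_natCast, ← ra h0, zpow_natCast, mul_assoc r, x8, mul_assoc r b,
      ← h0.vf.zb]
    group
  have a1 : ∀ q ∈ Dl a b, IsConj (t * (r * b) * t⁻¹ * q) (t * (r * b) * t⁻¹ * q * (t * z * t⁻¹)) :=
    fun q hq => isConj_iff.2 ⟨t * a ^ 2 ^ k * t⁻¹, by
      rw [← conj_mul, ← h0.sh.com _ hq _ iD, mul_inv_cancel_right, mul_assoc _ q,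
        h0.sh.com _ hq _ (zD h0), ← mul_assoc (t * (r * b) * t⁻¹), ← cjm t (r * b) z, ← ir]
      group⟩
  have a2 : r * (t * (r * b) * t⁻¹) * r⁻¹ = t * (r * b) * t⁻¹ * z * (t * z * t⁻¹) := by
    rw [mul_assoc _ z, ← cs_comm h0.sh.ζc (cjM h0 (mul_mem (rM h0) h0.sh.dh.bH)).1, ← h2,
      commutatorElement_def, show r * (t * (r * b) * t⁻¹) * r⁻¹ =
        r * (t * r * t⁻¹) * r⁻¹ * (r * (t * b * t⁻¹)) * r⁻¹ by group, h0.rc _ bD]
    group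
  have uP : t * (r * b) * t⁻¹ ∈ P := (h0.vf.mem _ (cjM h0 (mul_mem (rM h0) h0.sh.dh.bH)).1).2
    ⟨uD _ (zD h0), uD _ bD⟩
  have a3 : a ^ 2 ^ k * (t * (r * b) * t⁻¹ * b) * (a ^ 2 ^ k)⁻¹ = t * (r * b) * t⁻¹ * (z * b) := by
    rw [← mul_assoc, ← uD _ iD, mul_assoc _ _ b, x8]; group
  have z2 := h0.vf.z2
  have b2 := h0.vf.b2
  have zb := h0.vf.zb
  have q4 : ∀ q ∈ F4 z b, IsConj (t * (r * b) * t⁻¹) (t * (r * b) * t⁻¹ * q) := by
    have c1 : IsConj (t * (r * b) * t⁻¹) (t * (r * b) * t⁻¹ * z) :=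
      (isConj_iff.2 ⟨r, a2⟩).trans (a1 _ (zD h0)).symm
    have c2 := isConj_iff.2 ⟨_, a3⟩
    obtain ⟨q, hq, c3⟩ := h0.vf.fix uP
    generalize t * (r * b) * t⁻¹ = u at *
    have c4 : IsConj (u * q * z) (u * q * b) := isConj_iff.2 ⟨d, by
      rw [← conj_mul, c3, mul_inv_cancel_right, h0.vf.dz]⟩
    have c5 : IsConj u (u * b) := by
      rcases (mem_F4 z2 b2 zb).1 hq with rfl | rfl | rfl | rfl
      · exact c1.trans (by simpa using c4)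
      · rw [mul_assoc u, z2, mul_one, mul_assoc] at c4
        exact c4.trans c2.symm
      · rw [mul_assoc u q q, b2, mul_one, mul_assoc, ← zb] at c4
        exact (c2.trans c4).symm
      · rw [mul_assoc u, mul_assoc u, mul_assoc z b b, b2, mul_one, zb, mul_assoc b, z2, mul_one] at c4
        exact c1.trans c4.symm
    intro q hq
    rcases (mem_F4 z2 b2 zb).1 hq with rfl | rfl | rfl | rfl
    exacts [by rw [mul_one], c1, c5, c5.trans c2]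
  have fD : F4 z b ≤ Dl a b := F4_le (zD h0) bD
  rcases (mem_adj (fun q hq => by rwa [← h0.sh.com _ (fD hq) _ (zD h0), mul_inv_cancel_right])
    (h0.sh.dh'.z2 ▸ one_mem _)).1 hy with h | h
  · exact q4 y h
  · refine (q4 _ h).trans ((a1 _ (fD h)).trans ?_)
    rw [mul_assoc, h0.sh.com _ (fD h) _ (zD h0), mul_inv_cancel_left]

end K1

open K1 in
theorem FV.k1 (h0 : FV S P d s z b a t r (k + 1)) (h1 : b * r * b⁻¹ = r⁻¹)
    (h2 : ⁅r, t * r * t⁻¹⁆ = z * (t * z * t⁻¹)) : False := by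
  have bD : b ∈ Dl a b := v_F4
  have fD : F4 z b ≤ Dl a b := F4_le (zD h0) bD
  have fY : F8 z b (t * z * t⁻¹) ≤ YY a b t := F8_le (DY (zD h0)) (DY bD) (DY' (zD h0))
  have uM := cjM h0 (mul_mem (rM h0) h0.sh.dh.bH)
  have u2 : t * (r * b) * t⁻¹ * (t * (r * b) * t⁻¹) = 1 := by rw [conj_mul, rb2 h0 h1]; simp
  have uY : t * (r * b) * t⁻¹ ∉ YY a b t := fun h => by
    rw [← conj_mul, mul_mem_cancel_right (DY' bD)] at h
    exact rr' h0 h1 h2 (mul_mem (tt h0 r ▸ cjY h0 h0.sh.tS h) h)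
  obtain ⟨z2, c2⟩ := zp h0.vf.z2 h0.vf.z1
  obtain ⟨f4, c4, -⟩ := adj_el z2 h0.vf.b2
    (fun e he => by rcases (mem_zp h0.vf.z2).1 he with rfl | rfl; exacts [by simp, h0.vf.zb.symm])
    fun he => ((mem_zp h0.vf.z2).1 he).elim h0.vf.b1 h0.vf.bz
  obtain ⟨f8, c8, -⟩ := adj_el f4 h0.sh.dh'.z2 (fun e he => (h0.sh.com _ (fD he) _ (zD h0)).symm)
    fun he => h0.sh.dh'.z1 (h0.sh.dis _ (fD he) _ (zD h0) rfl)
  have uc : F8 z b (t * z * t⁻¹) ≤ C1 (t * (r * b) * t⁻¹) :=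
    F8_le (mem_C1.2 (mem_C1.1 uM.2).symm) (mem_C1.2 (by
      rw [← conj_mul, ← mul_assoc, ← rc' h0 bD, mul_assoc (t * r * t⁻¹), h0.sh.com _ bD _ bD,
        mul_assoc (t * r * t⁻¹)]))
      (mem_C1.2 ((h0.sh.cz' uM.1).1 (mem_C1.1 uM.2)).symm)
  obtain ⟨f16, c16, m16⟩ := adj_el f8 u2 (fun e he => (mem_C1.1 (uc he)).symm) fun he => uY (fY he)
  have hK := idx_K h0
  obtain ⟨g, -, g2, g3⟩ := h0.cx.toCtx.tr (comm_idx hK) u2 fun x hx y hy _ _ => hK x hx y hy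
  have hE : cj g (F8 z b (t * z * t⁻¹) ⊔ zpowers (t * (r * b) * t⁻¹)) ≤ (S : Subgroup G) :=
    cj_le_iff.2 fun e he => g3 e (sup_le (fY.trans (h0.sh.YM.trans inf_le_left))
      (zpowers_le.2 uM.1) he) (comm_of_sq f16 he v_F4')
  have e2 : ∀ e ∈ cj g (F8 z b (t * z * t⁻¹) ⊔ zpowers (t * (r * b) * t⁻¹)), e * e = 1 :=
    fun e he => by
      rw [← mul_left_inj g, ← mul_right_inj g⁻¹, one_mul, inv_mul_cancel, ← f16 _ (mem_cj.1 he)]
      group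
  have e16 : Nat.card (cj g (F8 z b (t * z * t⁻¹) ⊔ zpowers (t * (r * b) * t⁻¹))) = 16 := by
    rw [card_cj, c16, c8, c4, c2]
  have wE := (conj_mem_cj (g := g)).2 (v_F4' (B := F8 z b (t * z * t⁻¹)) (x := t * (r * b) * t⁻¹))
  have wY := mem_Y h0 h1 h2 g2 (le_M h0 h1 h2 hE e2 e16 wE) (e2 _ wE)
  have key : ∀ c, ¬ IsConj c (t * (r * b) * t⁻¹) →
      ∀ x ∈ cj g (F8 z b (t * z * t⁻¹) ⊔ zpowers (t * (r * b) * t⁻¹)), IsConj c x →
        x ∈ cj g (F8 z b (t * z * t⁻¹)) := fun c hc x hx hx' => by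
    rcases m16 _ (mem_cj.1 hx) with h | ⟨f, h, e⟩
    · exact mem_cj.2 h
    · exact absurd ((hx'.trans (isConj_iff.2 ⟨g⁻¹, by rw [inv_inv, e]⟩)).trans
        (cls h0 h1 h2 h).symm) hc
  refine h0.toD2.k0 (IsConj.trans (b := t * (r * b) * t⁻¹) (by_contra fun hn => ?_)
    (IsConj.symm (by_contra fun hn => ?_)))
  · exact uY (fY (conj_mem_cj.1 (claimA h0 h1 h2 hE e2 e16 wE wY (key _ hn))))
  · exact uY (fY (conj_mem_cj.1 (claimB h0 h1 h2 hE e2 e16 wE wY (key _ hn))))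

end Cfsg.Lib.GHM
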