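import Cfsg.Agent.GHM.D2a
import Cfsg.Agent.GHM.Tool

/-!
# Simple groups of sectional 2-rank at most four: the twisted wreath product of semidihedral type
-/

set_option autoImplicit false

namespace Cfsg.Lib.GHM

open Subgroup Cfsg.Lib.Trans Cfsg.Lib.Gold Cfsg.Lib.Rank2 Cfsg.Lib.GHB
open scoped commutatorElement

universe u

variable {G : Type u} [Group G]

/-- The hypotheses of the twisted semidihedral case. -/
structure K2H (S : Sylow 2 G) (P : Subgroup G) (d s z b a t r : G) (k : ℕ) : Prop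
    extends FV S P d s z b a t r (k + 1) where
  h1 : b * r * b⁻¹ = r⁻¹ * z
  h2 : ⁅r, t * r * t⁻¹⁆ = z * (t * z * t⁻¹)

/-- The subgroup `Y ⟨r r', t⟩`. -/
abbrev K2K (a b t r : G) : Subgroup G :=
  (YY a b t ⊔ zpowers (r * (t * r * t⁻¹))⁻¹) ⊔ zpowers t

theorem k2_anti {r r' X Y ζ : G} (h : ⁅r, r'⁆ = ζ) (ζ2 : ζ * ζ = 1) (c1 : Commute ζ r)
    (c2 : Commute ζ r') (c3 : Commute r Y) (c4 : Commute X r') (c5 : Commute X Y) :
    r'⁻¹ * Y * (r⁻¹ * X) = ζ * (r⁻¹ * X * (r'⁻¹ * Y)) := by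
  have e : r'⁻¹ * r⁻¹ = ζ * (r⁻¹ * r'⁻¹) := by
    rw [(c1.inv_right.mul_right c2.inv_right).eq, ← inv_eq ζ2, ← h, commutatorElement_def]; group
  calc r'⁻¹ * Y * (r⁻¹ * X) = r'⁻¹ * (Y * r⁻¹) * X := by group
    _ = r'⁻¹ * r⁻¹ * (Y * X) := by rw [← c3.inv_left.eq]; group
    _ = ζ * r⁻¹ * (r'⁻¹ * X) * Y := by rw [e, ← c5.eq]; group
    _ = _ := by rw [← c4.inv_right.eq]; group

theorem k2_sq {x y : G} (h : x * y = y * x) : x * y * (x * y) = x * x * (y * y) := by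
  calc x * y * (x * y) = x * (y * x) * y := by group
    _ = _ := by rw [← h]; group

variable [Finite G] {S : Sylow 2 G} {P : Subgroup G} {a b c d g m r s t w x y z τ : G} {k : ℕ}

namespace K2H

variable (h : K2H S P d s z b a t r k)
include h

omit [Finite G] in
theorem ti : t⁻¹ = t := inv_eq h.t2

omit [Finite G] in
theorem tt (x : G) : t * (t * x * t⁻¹) * t⁻¹ = x := by
  calc t * (t * x * t⁻¹) * t⁻¹ = t * t * x * (t * t)⁻¹ := by group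
    _ = x := by rw [h.t2]; group

omit [Finite G] h in
theorem aD : a ∈ Dl a b := mem_sup_left (mem_zpowers a)

omit [Finite G] h in
theorem bD : b ∈ Dl a b := mem_sup_right (mem_zpowers b)

omit [Finite G] h in
theorem AD (hx : x ∈ zpowers a) : x ∈ Dl a b := mem_sup_left hx

theorem zD : z ∈ Dl a b := AD h.sh.dh.za'

omit [Finite G] h in
theorem iD : a ^ 2 ^ k ∈ Dl a b := pow_mem aD _

omit [Finite G] in
theorem ra : Commute r a := by rw [← h.r2]; exact (Commute.refl r).mul_right (Commute.refl r)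

omit [Finite G] in
theorem rz : r * z = z * r := by rw [← h.sh.dh.za]; exact (h.ra.pow_right _).eq

omit [Finite G] in
theorem r'S : t * r * t⁻¹ ∈ (S : Subgroup G) := mul_mem (mul_mem h.sh.tS h.rS) (inv_mem h.sh.tS)

theorem rD (hy : y ∈ Dl a b) : r * y * r⁻¹ ∈ Dl a b :=
  mem_normalizer_conj (h.sh.dh.nrm ⟨h.rS, mem_C1.2 h.rz⟩) hy

theorem DS (hy : y ∈ Dl a b) : y ∈ (S : Subgroup G) := (h.sh.dh.le hy).1

theorem D'S (hy : y ∈ Dl a b) : t * y * t⁻¹ ∈ (S : Subgroup G) :=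
  mul_mem (mul_mem h.sh.tS (h.DS hy)) (inv_mem h.sh.tS)

omit [Finite G] in
theorem c1 (hx : r * x ∈ Dl a b) (hy : y ∈ Dl a b) : x * (t * y * t⁻¹) = t * y * t⁻¹ * x := by
  have := (Commute.inv_left (h.rc y hy)).mul_left (h.sh.com _ hx _ hy)
  rwa [inv_mul_cancel_left] at this

omit [Finite G] in
theorem cr' (hy : y ∈ Dl a b) : y * (t * r * t⁻¹) = t * r * t⁻¹ * y := by
  calc y * (t * r * t⁻¹) = t * (t * y * t⁻¹) * t⁻¹ * (t * r * t⁻¹) := by rw [h.tt]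
    _ = t * (t * y * t⁻¹ * r) * t⁻¹ := by group
    _ = t * r * t⁻¹ * (t * (t * y * t⁻¹) * t⁻¹) := by rw [← h.rc y hy]; group
    _ = _ := by rw [h.tt]

omit [Finite G] in
theorem c2 (hx : x ∈ Dl a b) (hy : r * y ∈ Dl a b) : x * (t * y * t⁻¹) = t * y * t⁻¹ * x := by
  have := (Commute.inv_right (h.cr' hx)).mul_right (h.sh.com _ hx _ hy)
  rwa [show (t * r * t⁻¹)⁻¹ * (t * (r * y) * t⁻¹) = t * y * t⁻¹ by group] at this

theorem c3 (hx : r * x ∈ Dl a b) (hy : r * y ∈ Dl a b) :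
    t * y * t⁻¹ * x = z * (t * z * t⁻¹) * (x * (t * y * t⁻¹)) := by
  have := k2_anti h.h2 h.sh.ζ2 (cs_comm h.sh.ζc h.rS) (cs_comm h.sh.ζc h.r'S) (h.rc _ hy)
    (h.cr' hx) (h.sh.com _ hx _ hy)
  rwa [inv_mul_cancel_left,
    show (t * r * t⁻¹)⁻¹ * (t * (r * y) * t⁻¹) = t * y * t⁻¹ by group] at this

theorem dec1 (hm : r * m ∈ YY a b t) :
    ∃ x₁ x₂, r * x₁ ∈ Dl a b ∧ x₂ ∈ Dl a b ∧ m = x₁ * (t * x₂ * t⁻¹) := by
  obtain ⟨y₁, h1, y₂, h2, e⟩ := h.sh.memY.1 hm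
  exact ⟨r⁻¹ * y₁, y₂, by simpa using h1, h2, by rw [mul_assoc, ← e, inv_mul_cancel_left]⟩

theorem dec2 (hm : t * r * t⁻¹ * m ∈ YY a b t) :
    ∃ x₁ x₂, x₁ ∈ Dl a b ∧ r * x₂ ∈ Dl a b ∧ m = x₁ * (t * x₂ * t⁻¹) := by
  obtain ⟨y₁, h1, y₂, h2, e⟩ := h.sh.memY.1 hm
  refine ⟨y₁, r⁻¹ * y₂, h1, by simpa using h2, ?_⟩
  calc m = (t * r * t⁻¹)⁻¹ * y₁ * (t * y₂ * t⁻¹) := by rw [mul_assoc, ← e, inv_mul_cancel_left]
    _ = _ := by rw [← (Commute.inv_right (h.cr' h1)).eq]; group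

theorem dec3 (hm : r * (t * r * t⁻¹) * m ∈ YY a b t) :
    ∃ x₁ x₂, r * x₁ ∈ Dl a b ∧ r * x₂ ∈ Dl a b ∧ m = x₁ * (t * x₂ * t⁻¹) := by
  rw [mul_assoc] at hm
  obtain ⟨x₁, x₂, h1, h2, e⟩ := h.dec1 hm
  have h3 : r * r⁻¹ ∈ Dl a b := by simp
  refine ⟨z * x₁, z * r⁻¹ * x₂, ?_, ?_, ?_⟩
  · rw [← mul_assoc, h.rz, mul_assoc]; exact mul_mem h.zD h1
  · rw [← mul_assoc, ← mul_assoc, h.rz, mul_inv_cancel_right]; exact mul_mem h.zD h2
  calc m = t * r⁻¹ * t⁻¹ * x₁ * (t * x₂ * t⁻¹) := by rw [mul_assoc _ x₁, ← e]; group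
    _ = z * (t * z * t⁻¹ * x₁) * (t * r⁻¹ * t⁻¹) * (t * x₂ * t⁻¹) := by rw [h.c3 h1 h3]; group
    _ = _ := by rw [← h.c1 h1 h.zD]; group

theorem odsq (hx : r * x ∈ Dl a b) : x * x = z ∨ ∃ l : ℤ, x * x = a ^ (2 * l - 1) := by
  have hr : r⁻¹ * r⁻¹ = a⁻¹ := by rw [← h.r2]; group
  rcases h.sh.dh.mem.1 hx with ⟨l, e⟩ | ⟨l, e⟩
  · refine Or.inr ⟨l, ?_⟩
    have e' : x = r⁻¹ * a ^ l := by rw [show a ^ l = r * x from e]; group
    rw [e', k2_sq (h.ra.inv_left.zpow_right l).eq, hr]; group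
  · left
    have e' : x = r⁻¹ * a ^ l * b := by rw [mul_assoc, ← e]; group
    have e1 : b * a ^ l * b⁻¹ = a⁻¹ ^ l := by rw [← h.sh.dh.ba, conj_zpow]
    have e2 : Commute z (a ^ l) := by
      rw [← h.sh.dh.za]; exact ((Commute.refl a).pow_left _).zpow_right l
    calc x * x = r⁻¹ * a ^ l * (b * r * b⁻¹)⁻¹ * (b * a ^ l * b⁻¹) * (b * b) := by rw [e']; group
      _ = r⁻¹ * (a ^ l * z⁻¹) * (r * (a ^ l)⁻¹) := by rw [h.h1, e1, h.sh.dh.b2]; group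
      _ = r⁻¹ * (z * r) := by
        rw [inv_eq h.sh.dh.z2, ← e2.eq, (h.ra.zpow_right l).inv_right.eq]; group
      _ = z := by rw [← h.rz]; group

theorem od1 (hx : r * x ∈ Dl a b) : x * x ≠ 1 := by
  rcases h.odsq hx with e | ⟨l, e⟩ <;> rw [e]
  · exact h.sh.dh.z1
  · intro e1
    rw [← zpow_zero a, h.sh.dh.pow_eq] at e1
    have e2 := (dvd_pow_self (2 : ℤ) (Nat.succ_ne_zero _)).trans e1.dvd
    omega

theorem oda (hx : r * x ∈ Dl a b) : x * x ∈ zpowers a := by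
  rcases h.odsq hx with e | ⟨l, e⟩ <;> rw [e]
  exacts [h.sh.dh.za', zpow_mem_zpowers a _]

theorem eva (hx : x ∈ Dl a b) : x * x ∈ zpowers a := by
  rcases h.sh.dh.mem.1 hx with e | e
  · exact mul_mem e e
  · rw [h.sh.dh.rf2 e]; exact one_mem _

omit [Finite G] h in
theorem sq0 (e : x * (t * y * t⁻¹) = t * y * t⁻¹ * x) :
    x * (t * y * t⁻¹) * (x * (t * y * t⁻¹)) = x * x * (t * (y * y) * t⁻¹) := by
  rw [k2_sq e]; group

theorem sq3 (hx : r * x ∈ Dl a b) (hy : r * y ∈ Dl a b) :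
    x * (t * y * t⁻¹) * (x * (t * y * t⁻¹)) = x * x * z * (t * (z * (y * y)) * t⁻¹) := by
  have xS : x ∈ (S : Subgroup G) := (mul_mem_cancel_left h.rS).1 (h.DS hx)
  calc x * (t * y * t⁻¹) * (x * (t * y * t⁻¹)) = x * (t * y * t⁻¹ * x) * (t * y * t⁻¹) := by group
    _ = x * (z * (t * z * t⁻¹) * x) * (t * (y * y) * t⁻¹) := by rw [h.c3 hx hy]; group
    _ = _ := by rw [cs_comm h.sh.ζc xS]; group

theorem sqM (hm : m ∈ (S : Subgroup G)) (hz : m * z = z * m) :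
    ∃ c₁ ∈ zpowers a, ∃ c₂ ∈ zpowers a, m * m = c₁ * (t * c₂ * t⁻¹) := by
  rcases h.cos m hm hz with e | e | e | e
  · obtain ⟨x₁, h1, x₂, h2, rfl⟩ := h.sh.memY.1 e
    exact ⟨_, h.eva h1, _, h.eva h2, sq0 (h.sh.com _ h1 _ h2)⟩
  · obtain ⟨x₁, x₂, h1, h2, rfl⟩ := h.dec1 e
    exact ⟨_, h.oda h1, _, h.eva h2, sq0 (h.c1 h1 h2)⟩
  · obtain ⟨x₁, x₂, h1, h2, rfl⟩ := h.dec2 e
    exact ⟨_, h.eva h1, _, h.oda h2, sq0 (h.c2 h1 h2)⟩
  · obtain ⟨x₁, x₂, h1, h2, rfl⟩ := h.dec3 e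
    exact ⟨_, mul_mem (h.oda h1) h.sh.dh.za', _, mul_mem h.sh.dh.za' (h.oda h2), h.sq3 h1 h2⟩

theorem one (hx : x ∈ Dl a b) (hy : y ∈ Dl a b) (e : x * (t * y * t⁻¹) = 1) : x = 1 ∧ y = 1 :=
  h.sh.uniq hx hy (one_mem _) (one_mem _) (by rw [e]; group)

theorem cj2 (hc : IsConj z x) : x * x = 1 ∧ x ≠ 1 := by
  obtain ⟨g, rfl⟩ := isConj_iff.1 hc
  refine ⟨?_, fun e => h.sh.dh.z1 (by simpa using e)⟩
  calc g * z * g⁻¹ * (g * z * g⁻¹) = g * (z * z) * g⁻¹ := by group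
    _ = 1 := by rw [h.sh.dh.z2]; group

theorem sqA (hm : m ∈ (S : Subgroup G)) (hz : m * z = z * m) (hc : IsConj z (m * m)) :
    m * m = z ∨ m * m = t * z * t⁻¹ := by
  obtain ⟨c₁, h1, c₂, h2, e⟩ := h.sqM hm hz
  have e1 := h.cj2 hc
  rw [e] at hc e1 ⊢
  rw [sq0 (h.sh.com _ (AD h1) _ (AD h2))] at e1
  obtain ⟨e2, e3⟩ := h.one (AD (mul_mem h1 h1)) (AD (mul_mem h2 h2)) e1.1
  rcases h.sh.dh.inv h1 e2 with rfl | rfl <;> rcases h.sh.dh.inv h2 e3 with rfl | e4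
  · exact (e1.2 (by group)).elim
  · right; rw [e4, one_mul]
  · left; group
  · rw [e4] at hc; exact (h.toD2.k0 hc).elim

omit [Finite G] in
theorem rrS : r * (t * r * t⁻¹) ∈ (S : Subgroup G) := mul_mem h.rS h.r'S

theorem rr2 : r * (t * r * t⁻¹) * (r * (t * r * t⁻¹)) ∈ YY a b t := by
  have hr : r * r ∈ Dl a b := h.r2 ▸ aD
  rw [h.sq3 hr hr]
  exact h.sh.memY.2 ⟨_, mul_mem hr h.zD, _, mul_mem h.zD hr, rfl⟩

theorem mem0 : x ∈ YY a b t ⊔ zpowers (r * (t * r * t⁻¹))⁻¹ ↔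
    x ∈ YY a b t ∨ r * (t * r * t⁻¹) * x ∈ YY a b t := by
  rw [mem_adj (fun y hy => mem_normalizer_conj (h.sh.nY (inv_mem h.rrS)) hy)
    (by rw [← mul_inv_rev]; exact inv_mem h.rr2), inv_inv]

theorem ζY : z * (t * z * t⁻¹) ∈ YY a b t := h.sh.memY.2 ⟨_, h.zD, _, h.zD, rfl⟩

theorem memK : x ∈ K2K a b t r ↔ (x ∈ YY a b t ∨ r * (t * r * t⁻¹) * x ∈ YY a b t) ∨
    (t * x ∈ YY a b t ∨ r * (t * r * t⁻¹) * (t * x) ∈ YY a b t) := by
  have hr : r * r ∈ Dl a b := h.r2 ▸ aD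
  rw [mem_adj (cj_le_iff.1 ?_) (h.t2 ▸ one_mem _), h.mem0, h.mem0, h.ti]
  rw [cj_sup, cj_zpowers, cj_eq_of_mem_normalizer (h.sh.nY h.sh.tS)]
  refine sup_le le_sup_left (zpowers_le.2 ?_)
  have e : t * (r * (t * r * t⁻¹))⁻¹ * t⁻¹ = (r * (t * r * t⁻¹))⁻¹ * (z * (t * z * t⁻¹))⁻¹ := by
    rw [← mul_inv_rev, ← h.c3 hr hr]
    calc t * (r * (t * r * t⁻¹))⁻¹ * t⁻¹ = (t * r * t⁻¹ * (t * (t * r * t⁻¹) * t⁻¹))⁻¹ := by
          simp [mul_assoc]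
      _ = _ := by rw [h.tt]
  rw [e]
  exact mul_mem (mem_sup_right (mem_zpowers _)) (mem_sup_left (inv_mem h.ζY))

omit [Finite G] in
theorem tM (hw : w ∈ (S : Subgroup G)) (hz : w * z ≠ z * w) : t * w * z = z * (t * w) :=
  mem_C1.1 (h.sh.idx t h.sh.tS w hw (fun e => h.sh.tz (mem_C1.1 e.2))
    (fun e => hz (mem_C1.1 e.2))).2

theorem orK (hg : g ∈ (S : Subgroup G)) : g ∈ K2K a b t r ∨ r * g ∈ K2K a b t r := by
  have k1 : ∀ y ∈ YY a b t, y ∈ K2K a b t r := fun y hy => mem_sup_left (mem_sup_left hy)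
  have k2 : r * (t * r * t⁻¹) ∈ K2K a b t r :=
    inv_mem_iff.1 (mem_sup_left (mem_sup_right (mem_zpowers _)))
  have k3 : t ∈ K2K a b t r := mem_sup_right (mem_zpowers t)
  have k4 : r * (t * r * t⁻¹)⁻¹ ∈ K2K a b t r := by
    have := mul_mem k2 (inv_mem (k1 _ (h.sh.memY.2 ⟨1, one_mem _, a, aD, rfl⟩)))
    rwa [show r * (t * r * t⁻¹) * (1 * (t * a * t⁻¹))⁻¹ = r * (t * r * t⁻¹)⁻¹ by
      rw [← h.r2]; group] at this
  have k5 : ∀ m ∈ (S : Subgroup G), m * z = z * m → m ∈ K2K a b t r ∨ r * m ∈ K2K a b t r := by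
    intro m hm hz
    rcases h.cos m hm hz with e | e | e | e
    · exact Or.inl (k1 _ e)
    · exact Or.inr (k1 _ e)
    · right
      have := mul_mem k4 (k1 _ e)
      rwa [mul_assoc, inv_mul_cancel_left] at this
    · exact Or.inl ((mul_mem_cancel_left k2).1 (k1 _ e))
  by_cases hz : g * z = z * g
  · exact k5 g hg hz
  rcases k5 _ (mul_mem h.sh.tS hg) (h.tM hg hz) with e | e
  · exact Or.inl ((mul_mem_cancel_left k3).1 e)
  · right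
    have := mul_mem k4 (mul_mem k3 e)
    rwa [show r * (t * r * t⁻¹)⁻¹ * (t * (r * (t * g))) = r * g by
      rw [← h.ti, inv_inv, h.ti]
      calc r * (t * r * t)⁻¹ * (t * (r * (t * g))) = r * g := by group] at this

theorem idxK : Local.IdxLeTwo (K2K a b t r) S := fun x hx y hy h1 h2 => by
  have e1 := (h.orK (inv_mem hx)).resolve_left (fun e => h1 (inv_mem_iff.1 e))
  have := mul_mem (inv_mem e1) ((h.orK hy).resolve_left h2)
  rwa [show (r * x⁻¹)⁻¹ * (r * y) = x * y by group] at this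

theorem invK (hw : w ∈ (S : Subgroup G)) (h2 : w * w = 1) : w ∈ K2K a b t r := by
  rw [h.memK]
  by_cases hz : w * z = z * w
  · rcases h.cos w hw hz with e | e | e | e
    · exact Or.inl (Or.inl e)
    · obtain ⟨x₁, x₂, h3, h4, rfl⟩ := h.dec1 e
      rw [sq0 (h.c1 h3 h4)] at h2
      exact (h.od1 h3 (h.one (AD (h.oda h3)) (mul_mem h4 h4) h2).1).elim
    · obtain ⟨x₁, x₂, h3, h4, rfl⟩ := h.dec2 e
      rw [sq0 (h.c2 h3 h4)] at h2
      exact (h.od1 h4 (h.one (mul_mem h3 h3) (AD (h.oda h4)) h2).2).elim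
    · exact Or.inl (Or.inr e)
  have key : ∀ x₁ x₂, t * w = x₁ * (t * x₂ * t⁻¹) → r * (x₂ * x₁) ∉ Dl a b := by
    intro x₁ x₂ e ho
    have e1 : x₂ * x₁ = t * (x₂ * x₁)⁻¹ * t⁻¹ := by
      have e2 : w = t⁻¹ * (x₁ * (t * x₂ * t⁻¹)) := by rw [← e]; group
      calc x₂ * x₁ = t⁻¹ * x₁⁻¹ * t * (t⁻¹ * x₁ * t * x₂ * (t * t)⁻¹ * x₁ * t * x₂ * t⁻¹) *
            t * x₂⁻¹ * t⁻¹ := by rw [h.t2]; group
        _ = t⁻¹ * x₁⁻¹ * t * (w * w) * t * x₂⁻¹ * t⁻¹ := by rw [e2]; group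
        _ = t⁻¹ * x₁⁻¹ * (t * t) * x₂⁻¹ * t⁻¹ := by rw [h2]; group
        _ = _ := by rw [h.t2]; nth_rewrite 1 [h.ti]; group
    have h3 := AD (b := b) (h.oda ho)
    generalize x₂ * x₁ = X at e1 ho h3
    refine h.od1 ho (h.sh.dis _ h3 _ (inv_mem h3) ?_)
    calc X * X = t * X⁻¹ * t⁻¹ * (t * X⁻¹ * t⁻¹) := by rw [← e1]
      _ = _ := by group
  rcases h.cos _ (mul_mem h.sh.tS hw) (h.tM hw hz) with e | e | e | e
  · exact Or.inr (Or.inl e)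
  · obtain ⟨x₁, x₂, h3, h4, e⟩ := h.dec1 e
    refine (key _ _ e ?_).elim
    have := mul_mem (h.rD h4) h3
    rwa [show r * x₂ * r⁻¹ * (r * x₁) = r * (x₂ * x₁) by group] at this
  · obtain ⟨x₁, x₂, h3, h4, e⟩ := h.dec2 e
    exact (key _ _ e (by rw [← mul_assoc]; exact mul_mem h4 h3)).elim
  · exact Or.inr (Or.inr e)

omit [Finite G] in
theorem u2 : r * b * (r * b) = z := by
  calc r * b * (r * b) = r * (b * r * b⁻¹) * (b * b) := by group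
    _ = z := by rw [h.h1, h.sh.dh.b2]; group

omit [Finite G] in
theorem uo : r * (r * b) ∈ Dl a b := by rw [← mul_assoc, h.r2]; exact mul_mem aD bD

omit [Finite G] in
theorem w2 : g * (r * b) * g⁻¹ * (g * (r * b) * g⁻¹) = g * z * g⁻¹ := by rw [← h.u2]; group

theorem i'2 : g * (t * a ^ 2 ^ k * t⁻¹) * g⁻¹ * (g * (t * a ^ 2 ^ k * t⁻¹) * g⁻¹) =
    g * (t * z * t⁻¹) * g⁻¹ := by
  rw [← h.sh.dh.i2]; generalize a ^ 2 ^ k = i; group

omit [Finite G] h in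
theorem cz' : IsConj z (g * (t * z * t⁻¹) * g⁻¹) := isConj_iff.2 ⟨g * t, by group⟩

omit [Finite G] h in
theorem cjc (e : x * y = y * x) : g * x * g⁻¹ * (g * y * g⁻¹) = g * y * g⁻¹ * (g * x * g⁻¹) := by
  calc g * x * g⁻¹ * (g * y * g⁻¹) = g * (x * y) * g⁻¹ := by group
    _ = _ := by rw [e]; group

theorem sqY (h1 : τ ∈ (S : Subgroup G)) (h2 : τ * τ ∈ YY a b t) (h3 : τ * w ∈ YY a b t) :
    w * w ∈ YY a b t := by
  have := mul_mem (mul_mem (mem_normalizer_conj' (h.sh.nY h1) h3) (inv_mem h2)) h3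
  rwa [show τ⁻¹ * (τ * w) * τ * (τ * τ)⁻¹ * (τ * w) = w * w by group] at this

/-- the centraliser in `C_S(z)` of an element outside -/
theorem cenw (hw : w ∈ (S : Subgroup G)) (hz : w * z ≠ z * w) (hY : w * w ∈ YY a b t)
    (hc : IsConj z (w * w)) (h1 : c ∈ (S : Subgroup G)) (h2 : c * z = z * c) (h3 : c * w = w * c) :
    c = 1 ∨ c = z * (t * z * t⁻¹) ∨ c = w * w ∨ c = z * (t * z * t⁻¹) * (w * w) := by
  obtain ⟨y₁, k1, y₂, k2, e⟩ := h.sh.memY.1 hY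
  have e1 := h.sh.diag hw hz k1 k2 (by rw [← e, mul_assoc])
  have e2 := (h.sh.swap hw hz).1
  obtain ⟨e3, e4⟩ := h.cj2 hc
  rw [e, sq0 (h.sh.com _ k1 _ k2)] at e3
  obtain ⟨e5, e6⟩ := h.one (mul_mem k1 k1) (mul_mem k2 k2) e3
  have r1 : Rf a b y₁ := (h.sh.dh.mem.1 k1).resolve_left fun k => by
    rcases h.sh.dh.inv k e5 with k | k
    · exact e4 (by rw [e, e1, k]; group)
    · rw [e, e1, k, e2] at hc; exact h.toD2.k0 hc
  have r2 : Rf a b y₂ := (h.sh.dh.mem.1 k2).resolve_left fun k => h.sh.dh.rfn r1 (by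
    rcases h.sh.dh.inv k e6 with k | k <;> rw [k] at e1
    · rw [show y₁ = 1 by simpa using e1.symm]; exact one_mem _
    · rw [← e2] at e1
      rw [← show z = y₁ by simpa using e1]; exact h.sh.dh.za')
  obtain ⟨s1, s2⟩ := h.sh.split h1 h2 k1 k2 (by
    rw [← e]; exact (Commute.mul_right h3 h3).eq)
  have hcY : c ∈ YY a b t := by
    refine (sup_le (le_sup_of_le_left ?_) (le_sup_of_le_right ?_) : _ ≤ YY a b t)
      (h.sh.cent _ _ r1 r2 c h1 h2 s1 s2) <;> refine sup_le (zpowers_le.2 ?_) (zpowers_le.2 ?_)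
    exacts [h.zD, k1, cj_le_iff.1 le_rfl _ h.zD, cj_le_iff.1 le_rfl _ k2]
  obtain ⟨c₁, l1, c₂, l2, f⟩ := h.sh.memY.1 hcY
  have f1 := h.sh.diag hw hz l1 l2 (by rw [← f, h3])
  have f2 : c₁ * y₁ = y₁ * c₁ := by
    have := (Commute.symm s1).mul_right (Commute.inv_right (h.sh.com _ k1 _ l2))
    rw [f, mul_inv_cancel_right] at this
    exact this.symm.eq
  have zy : z * y₁ = y₁ * z := (h.sh.dh.zc (h.sh.dh.le k1)).symm
  rw [f, f1]
  rcases (mem_F4 h.sh.dh.z2 e5 zy).1 (h.sh.dh.cenb r1 l1 f2) with k | k | k | k <;> rw [k]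
  · left; group
  · rw [e2]; simp
  · rw [e, e1]; simp
  · right; right; right
    calc z * y₁ * (w * (z * y₁) * w⁻¹) = z * (y₁ * (w * z * w⁻¹)) * (w * y₁ * w⁻¹) := by group
      _ = _ := by rw [e, e1, e2, h.sh.com _ k1 _ h.zD]; group

theorem out (hC : ∀ x ∈ (S : Subgroup G), x * (r * b) = r * b * x → g * x * g⁻¹ ∈ (S : Subgroup G))
    (hw : w = g * (r * b) * g⁻¹) (hz : w * z ≠ z * w) (hY : w * w ∈ YY a b t) : False := by
  have wS : w ∈ (S : Subgroup G) := hw ▸ hC _ (mul_mem h.rS (h.DS bD)) rfl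
  have e : w * w = g * z * g⁻¹ := hw ▸ h.w2
  have hc : IsConj z (w * w) := isConj_iff.2 ⟨g, e.symm⟩
  have k1 : ∀ x ∈ Dl a b, g * (t * x * t⁻¹) * g⁻¹ ∈ (S : Subgroup G) := fun x hx =>
    hC _ (h.D'S hx) (h.c1 h.uo hx).symm
  have k2 : ∀ x ∈ Dl a b, g * (t * x * t⁻¹) * g⁻¹ ∈ (S : Subgroup G) ⊓ C1 z → _ := fun x hx k =>
    h.cenw wS hz hY hc k.1 (mem_C1.1 k.2) (hw ▸ cjc (h.c1 h.uo hx).symm)
  have k3 : g * (t * z * t⁻¹) * g⁻¹ = z * (t * z * t⁻¹) * (g * z * g⁻¹) := by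
    rcases k2 z h.zD (h.i'2 ▸ h.sh.idx.mul_self_mem (k1 _ iD)) with k | k | k | k
    · exact ((h.cj2 cz').2 k).elim
    · exact (h.toD2.k0 (k ▸ cz')).elim
    · rw [e] at k; exact (h.sh.zz' (by simpa using k.symm)).elim
    · rw [k, e]
  have k4 : z * (t * z * t⁻¹) = g * (z * (t * z * t⁻¹)) * g⁻¹ := by
    calc z * (t * z * t⁻¹) = z * (t * z * t⁻¹) * (g * (z * z) * g⁻¹) := by rw [h.sh.dh.z2]; group
      _ = g * (t * z * t⁻¹) * g⁻¹ * (g * z * g⁻¹) := by rw [k3]; group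
      _ = _ := by rw [h.sh.zc']; group
  have k5 : ∀ x ∈ Dl a b, g * (t * x * t⁻¹) * g⁻¹ ∈ (S : Subgroup G) ⊓ C1 z → x = 1 ∨ x = z := by
    intro x hx k
    have k6 : ∀ y, 1 * (t * x * t⁻¹) ≠ z * (t * y * t⁻¹) ∨ y ∉ Dl a b := fun y =>
      or_iff_not_imp_right.2 fun hy k => h.sh.dh.z1
        (h.sh.uniq (one_mem _) hx h.zD (not_not.1 hy) k).1.symm
    rcases k2 x hx k with k | k | k | k
    · left; simpa using k
    · rw [k4] at k
      exact ((k6 z).elim (fun k' => k' (by simpa using k)) fun k' => k' h.zD).elim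
    · rw [e] at k
      exact ((k6 1).elim (fun k' => k' (by simpa using k)) fun k' => k' (one_mem _)).elim
    · rw [e, ← k3] at k; right; simpa using k
  have k6 : ∀ x ∈ Dl a b, g * (t * x * t⁻¹) * g⁻¹ ∈ (S : Subgroup G) ⊓ C1 z → x ∈ zpowers a := by
    intro x hx k
    rcases k5 x hx k with k | k <;> rw [k]
    exacts [one_mem _, h.sh.dh.za']
  have k7 := h.sh.idx _ (k1 _ iD) _ (k1 _ bD) (fun k => h.sh.dh.z1 (by
    rw [← h.sh.dh.i2]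
    rcases k5 _ iD k with k | k <;> rw [k]
    exacts [one_mul 1, h.sh.dh.z2])) fun k => h.sh.dh.bn (k6 _ bD k)
  rw [show g * (t * a ^ 2 ^ k * t⁻¹) * g⁻¹ * (g * (t * b * t⁻¹) * g⁻¹) =
    g * (t * (a ^ 2 ^ k * b) * t⁻¹) * g⁻¹ by generalize a ^ 2 ^ k = i; group] at k7
  exact h.sh.dh.bn ((mul_mem_cancel_left (pow_mem (mem_zpowers a) _)).1
    (k6 _ (mul_mem iD bD) k7))

theorem fin (hC : ∀ x ∈ (S : Subgroup G), x * (r * b) = r * b * x → g * x * g⁻¹ ∈ (S : Subgroup G))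
    (hY : g * (r * b) * g⁻¹ ∈ YY a b t) (gz : g * z * g⁻¹ = z) : False := by
  obtain ⟨y₁, k1, y₂, k2, e⟩ := h.sh.memY.1 hY
  have e1 := h.w2 (g := g)
  rw [e, sq0 (h.sh.com _ k1 _ k2), gz] at e1
  obtain ⟨e2, e3⟩ := h.sh.uniq (mul_mem k1 k1) (mul_mem k2 k2) h.zD (one_mem _)
    (by rw [e1]; group)
  have mS := hC _ (h.D'S (iD (k := k))) (h.c1 h.uo iD).symm
  have mz := cjc (g := g) (h.sh.com _ h.zD _ (iD (k := k))).symm
  rw [gz] at mz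
  have gz' : g * (t * z * t⁻¹) * g⁻¹ = t * z * t⁻¹ := by
    have := h.sqA mS mz (h.i'2 ▸ cz')
    rw [h.i'2] at this
    exact this.resolve_left fun k => h.sh.zz' (by simpa using gz.trans k.symm)
  have s2 := (h.sh.split mS mz k1 k2 (by rw [← e]; exact cjc (h.c1 h.uo iD).symm)).2
  have k3 : y₂ ∈ zpowers a := (h.sh.dh.mem.1 k2).resolve_right fun k => h.toD2.nphi' k (by
    rw [← gz', ← h.i'2]; exact sq_mem_Phi ⟨⟨mS, mem_C1.2 mz⟩, mem_C1.2 s2⟩)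
  have k4 : t * y₂ * t⁻¹ ∈ zpowers (t * z * t⁻¹) := by
    rcases h.sh.dh.inv k3 e3 with k | k <;> rw [k] <;> simp
  have z'M : t * z * t⁻¹ ∈ (S : Subgroup G) ⊓ C1 z := h.sh.dh'.zH
  have hU : (S : Subgroup G) ⊓ C1 z ≤ C1 z ⊓ C1 (t * z * t⁻¹) ⊓
      Ns (zpowers (a ^ 2 ^ k) ⊔ zpowers (t * z * t⁻¹)) := fun m hm => by
    have k := (h.sh.cz' hm.1).1 (mem_C1.1 hm.2)
    refine ⟨⟨hm.2, mem_C1.2 k⟩, mem_normalizer_of_cj_le ?_⟩
    rw [cj_sup, cj_zpowers, cj_zpowers, k, mul_inv_cancel_right]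
    refine sup_le_sup_right (zpowers_le.2 ?_) _
    rcases h.sh.dh.acti hm with k | k <;> rw [k] <;> simp
  have hg : cj g (zpowers (r * b) ⊔ zpowers (t * z * t⁻¹)) =
      zpowers (a ^ 2 ^ k) ⊔ zpowers (t * z * t⁻¹) := by
    rw [cj_sup, cj_zpowers, cj_zpowers, gz', e]
    have k5 : zpowers y₁ = zpowers (a ^ 2 ^ k) := by
      rcases h.sh.dh.sqz k1 e2 with k | k <;> rw [k]
      exact zpowers_inv
    rw [← k5]
    refine le_antisymm (sup_le (zpowers_le.2 ?_) le_sup_right) (sup_le (zpowers_le.2 ?_) le_sup_right)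
    · exact mul_mem (mem_sup_left (mem_zpowers _)) (mem_sup_right k4)
    · exact (mul_mem_cancel_right (mem_sup_right k4)).1 (mem_sup_left (mem_zpowers _))
  have hr : r * r ∈ Dl a b := h.r2 ▸ aD
  have c3 := h.c3 h.uo hr
  have rz' : t * r * t⁻¹ * (t * z * t⁻¹) = t * z * t⁻¹ * (t * r * t⁻¹) := cjc h.rz
  obtain ⟨c, hc, k5⟩ := ext_in (R := zpowers (t * r * t⁻¹))
    (h.toD2.syl.mono hU (inf_le_left.trans inf_le_left))
    (⟨mem_C1.2 (by rw [← gz]; nth_rewrite 1 [gz]; rw [gz, ← mul_inv_eq_iff_eq_mul, gz]),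
      mem_C1.2 (mul_inv_eq_iff_eq_mul.1 gz')⟩ : g ∈ C1 z ⊓ C1 (t * z * t⁻¹)) hg
    (S.isPGroup'.to_le (zpowers_le.2 h.r'S)) (zpowers_le.2 ⟨⟨mem_C1.2 (h.cr' h.zD).symm,
      mem_C1.2 rz'⟩, mem_normalizer_of_cj_le (by
        rw [cj_sup, cj_zpowers, cj_zpowers, rz', c3, ← mul_assoc, mul_inv_cancel_right,
          mul_inv_cancel_right]
        refine sup_le (zpowers_le.2 ?_) le_sup_right
        have k := mem_sup_left (T := zpowers (t * z * t⁻¹)) (mem_zpowers (r * b))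
        have k' := mul_mem k k
        rw [h.u2] at k'
        exact mul_mem (mul_mem k' (mem_sup_right (mem_zpowers _))) k)⟩)
  have mM := cj_le_iff.1 k5 _ (mem_zpowers _)
  have vU := mem_normalizer_conj hc.2 (hg ▸ cj_le_iff.1 le_rfl _ (mem_sup_left (mem_zpowers (r * b))))
  have hζ : ⁅c * g * (t * r * t⁻¹) * (c * g)⁻¹, c * (g * (r * b) * g⁻¹) * c⁻¹⁆ =
      z * (t * z * t⁻¹) := by
    calc _ = c * (g * (t * r * t⁻¹ * (r * b) * (r * b * (t * r * t⁻¹))⁻¹) * g⁻¹) * c⁻¹ := by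
          rw [commutatorElement_def]; group
      _ = c * (g * z * g⁻¹ * (g * (t * z * t⁻¹) * g⁻¹)) * c⁻¹ := by rw [c3]; group
      _ = c * z * c⁻¹ * (c * (t * z * t⁻¹) * c⁻¹) := by rw [gz, gz']; group
      _ = _ := by rw [mem_C1.1 hc.1.1, mem_C1.1 hc.1.2]; group
  generalize c * g * (t * r * t⁻¹) * (c * g)⁻¹ = m at mM hζ
  generalize c * (g * (r * b) * g⁻¹) * c⁻¹ = v at vU hζ
  have k6 : ∀ x ∈ zpowers (a ^ 2 ^ k), ⁅m, x⁆ ∈ Dl a b := fun x hx => by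
    have k := zpowers_le.2 (iD (a := a) (b := b) (k := k)) hx
    exact mul_mem (mem_normalizer_conj (h.sh.dh.nrm mM) k) (inv_mem k)
  have k7 : ⁅m, v⁆ ∈ Dl a b := by
    rw [mem_adj (fun x hx => by
      rw [← h.sh.com _ (zpowers_le.2 (iD (a := a) (b := b) (k := k)) hx) _ h.zD,
        mul_inv_cancel_right]; exact hx) (h.sh.dh'.z2 ▸ one_mem _)] at vU
    rcases vU with k | k
    · exact k6 _ k
    have k8 := mem_normalizer_conj (h.sh.dh.nrm z'M) (k6 _ k)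
    have k9 := (h.sh.cz' mM.1).1 (mem_C1.1 mM.2)
    generalize t * z * t⁻¹ = z' at k8 k9
    rwa [show z' * ⁅m, z'⁻¹ * v⁆ * z'⁻¹ = ⁅m, v⁆ by
      rw [commutatorElement_def, commutatorElement_def, ← mul_assoc m,
        (Commute.inv_right k9).eq]; group] at k8
  rw [hζ, mul_mem_cancel_left h.zD] at k7
  exact h.sh.dh'.z1 (h.sh.dis _ k7 _ h.zD rfl)

theorem false : False := by
  obtain ⟨g, wS, wK, hC⟩ := h.cx.toCtx.tr2 (M := K2K a b t r) (y := r * b) (fun x hx y hy => by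
      have := h.idxK.mul_mem_iff hx hy
      rw [commutatorElement_def, h.idxK.mul_mem_iff (mul_mem (mul_mem hx hy) (inv_mem hx))
        (inv_mem hy), h.idxK.mul_mem_iff (mul_mem hx hy) (inv_mem hx), inv_mem_iff, inv_mem_iff]
      tauto) (mul_mem h.rS (h.DS bD))
    (fun u hu n hc => h.invK hu (by
      obtain ⟨c, rfl⟩ := isConj_iff.1 hc
      rw [pow_succ', pow_mul, sq, h.u2]
      calc _ = c * (z ^ 2 ^ n * z ^ 2 ^ n) * c⁻¹ := by generalize z ^ 2 ^ n = y; group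
        _ = 1 := by rw [← (Commute.refl z).mul_pow, h.sh.dh.z2]; simp))
    fun u hu v hv _ _ => h.idxK u hu v hv
  have hc : IsConj z (g * (r * b) * g⁻¹ * (g * (r * b) * g⁻¹)) := isConj_iff.2 ⟨g, h.w2.symm⟩
  have tM : t ∉ (S : Subgroup G) ⊓ C1 z := fun k => h.sh.tz (mem_C1.1 k.2)
  have rM : r * (t * r * t⁻¹) ∈ (S : Subgroup G) ⊓ C1 z :=
    mul_mem ⟨h.rS, mem_C1.2 h.rz⟩ ⟨h.r'S, mem_C1.2 (h.cr' h.zD).symm⟩
  rw [h.memK] at wK
  by_cases hz : g * (r * b) * g⁻¹ * z = z * (g * (r * b) * g⁻¹)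
  · have wM : g * (r * b) * g⁻¹ ∈ (S : Subgroup G) ⊓ C1 z := ⟨wS, mem_C1.2 hz⟩
    have hq := h.sqA wS hz hc
    rcases wK with (k | k) | k | k
    · rw [h.w2] at hq
      rcases hq with e | e
      · exact h.fin hC k e
      refine h.fin (g := t * g) (fun x hx e => ?_) ?_ ?_
      · have := mul_mem (mul_mem h.sh.tS (hC x hx e)) (inv_mem h.sh.tS)
        rwa [show t * (g * x * g⁻¹) * t⁻¹ = t * g * x * (t * g)⁻¹ by group] at this
      · have := mem_normalizer_conj (h.sh.nY h.sh.tS) k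
        rwa [show t * (g * (r * b) * g⁻¹) * t⁻¹ = t * g * (r * b) * (t * g)⁻¹ by group] at this
      · calc t * g * z * (t * g)⁻¹ = t * (g * z * g⁻¹) * t⁻¹ := by group
          _ = z := by rw [e, h.tt]
    · obtain ⟨x₁, x₂, h3, h4, e⟩ := h.dec3 k
      rw [e, h.sq3 h3 h4] at hq
      have d1 := mul_mem (AD (b := b) (h.oda h3)) h.zD
      have d2 := mul_mem h.zD (AD (b := b) (h.oda h4))
      rcases hq with e | e
      · exact h.od1 h3 (by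
          simpa using (h.sh.uniq d1 d2 h.zD (one_mem _) (by rw [e]; group)).1)
      · exact h.od1 h4 (by
          simpa using (h.sh.uniq d1 d2 (one_mem _) h.zD (by rw [e]; group)).2)
    · exact tM ((mul_mem_cancel_right wM).1 (h.sh.YM k))
    · exact tM ((mul_mem_cancel_right wM).1 ((mul_mem_cancel_left rM).1 (h.sh.YM k)))
  refine h.out hC rfl hz ?_
  rcases wK with (k | k) | k | k
  · exact (hz (mem_C1.1 (h.sh.YM k).2)).elim
  · exact (hz (mem_C1.1 ((mul_mem_cancel_left rM).1 (h.sh.YM k)).2)).elim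
  · exact h.sqY h.sh.tS (h.t2 ▸ one_mem _) k
  · refine h.sqY (mul_mem h.rrS h.sh.tS) ?_ (by rwa [mul_assoc])
    refine h.sh.memY.2 ⟨a, aD, a, aD, ?_⟩
    calc r * (t * r * t⁻¹) * t * (r * (t * r * t⁻¹) * t)
        = r * (t * (r * r) * t⁻¹) * (t * t) * r := by group
      _ = r * (r * (t * a * t⁻¹)) := by rw [h.r2, h.t2, mul_one, mul_assoc, ← h.rc a aD]
      _ = _ := by rw [← mul_assoc, h.r2]

end K2H

theorem FV.k2 (h0 : FV S P d s z b a t r (k + 1)) (h1 : b * r * b⁻¹ = r⁻¹ * z)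
    (h2 : ⁅r, t * r * t⁻¹⁆ = z * (t * z * t⁻¹)) : False := K2H.false ⟨h0, h1, h2⟩

end Cfsg.Lib.GHM
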