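import Cfsg.Agent.GHM.Fr2
import Cfsg.Agent.GHM.PzN

/-!
# Simple groups of sectional 2-rank at most four: the extraspecial group of the twisted diagonal case
-/

set_option autoImplicit false
set_option linter.unusedSectionVars false
set_option linter.unusedSimpArgs false

namespace Cfsg.Lib.GHM

open Subgroup Cfsg.Lib.Trans Cfsg.Lib.Gold Cfsg.Lib.Rank2 Cfsg.Lib.GHB
open scoped commutatorElement

universe u

variable {G : Type u} [Group G] [Finite G] {S : Sylow 2 G} {P : Subgroup G}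
  {a b d e f g i j m s t v x y y' z ζ : G} {k : ℕ}

namespace K3a

/-- The relations between `i`, its conjugate `j`, `t` and `v`. -/
structure Rl (i j t v : G) : Prop where
  i4 : i * (i * (i * i)) = 1
  ji : j * i = i * j
  ti : t * i * t⁻¹ = j
  t2 : t * t = 1
  vi : v * i * v⁻¹ = i⁻¹
  vt : v * t = t * v
  v2 : v * v = i * (i * (j * j))

theorem asc {a b c : G} (h : a * b = c) (g : G) : a * (b * g) = c * g := by rw [← mul_assoc, h]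

theorem Rl.nf (h : Rl i j t v) : (i * (i * (i * i)) = 1 ∧ j * (j * (j * j)) = 1 ∧ j * i = i * j ∧
    t * i = j * t ∧ t * j = i * t ∧ t * t = 1 ∧ v * i = i * (i * (i * v)) ∧
    v * j = j * (j * (j * v)) ∧ v * t = t * v ∧ v * v = i * (i * (j * j)) ∧ i⁻¹ = i * (i * i) ∧
    j⁻¹ = j * (j * j) ∧ t⁻¹ = t) ∧ ∀ g, i * (i * (i * (i * g))) = g ∧ j * (j * (j * (j * g))) = g ∧
    j * (i * g) = i * (j * g) ∧ t * (i * g) = j * (t * g) ∧ t * (j * g) = i * (t * g) ∧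
    t * (t * g) = g ∧ v * (i * g) = i * (i * (i * (v * g))) ∧ v * (j * g) = j * (j * (j * (v * g))) ∧
    v * (t * g) = t * (v * g) ∧ v * (v * g) = i * (i * (j * (j * g))) := by
  have j4 : j * (j * (j * j)) = 1 := by
    rw [← h.ti, conj_mul, conj_mul, conj_mul, h.i4, mul_one, mul_inv_cancel]
  have e1 : i⁻¹ = i * (i * i) := inv_eq_of_mul_eq_one_right h.i4
  have e2 : j⁻¹ = j * (j * j) := inv_eq_of_mul_eq_one_right j4
  have e3 := GHM.inv_eq h.t2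
  have e4 : t * i = j * t := by rw [← h.ti, inv_mul_cancel_right]
  have e5 : t * j = i * t := by rw [← h.ti, e3, ← mul_assoc, ← mul_assoc, h.t2, one_mul]
  have e6 : v * i = i * (i * (i * v)) := by
    rw [mul_inv_eq_iff_eq_mul.1 h.vi, e1, mul_assoc, mul_assoc]
  have e7 : v * j = j * (j * (j * v)) := by
    have : v * j * v⁻¹ = j⁻¹ := by
      rw [← h.ti, conj_inv, ← h.vi]
      calc _ = v * t * i * (v * t)⁻¹ := by group
        _ = _ := by rw [h.vt]; group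
    rw [mul_inv_eq_iff_eq_mul.1 this, e2, mul_assoc, mul_assoc]
  refine ⟨⟨h.i4, j4, h.ji, e4, e5, h.t2, e6, e7, h.vt, h.v2, e1, e2, e3⟩, fun g => ⟨?_, ?_, ?_⟩⟩
  · simpa only [mul_assoc, one_mul] using congrArg (· * g) h.i4
  · simpa only [mul_assoc, one_mul] using congrArg (· * g) j4
  simp only [asc h.ji, asc e4, asc e5, asc h.t2, asc e6, asc e7, asc h.vt, asc h.v2, mul_assoc,
    one_mul, and_self]

theorem nsXT (h1 : f * z * f⁻¹ ∈ XT z t e v) (h2 : f * t * f⁻¹ ∈ XT z t e v)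
    (h3 : f * e * f⁻¹ ∈ XT z t e v) (h4 : f * v * f⁻¹ ∈ XT z t e v) : f ∈ Ns (XT z t e v) :=
  mem_normalizer_of_cj_le (cj_le_iff_le_cj_inv.2 ((closure_le _).2 (by
    rintro _ (rfl | rfl | rfl | rfl) <;> exact mem_cj_inv.2 ‹_›)))

theorem memXT : z ∈ XT z t e v ∧ t ∈ XT z t e v ∧ e ∈ XT z t e v ∧ v ∈ XT z t e v :=
  ⟨subset_closure (by simp), subset_closure (by simp), subset_closure (by simp),
    subset_closure (by simp)⟩

theorem Rl.xm (h : Rl i j t v) (n : i * i * (j * j) ≠ 1) :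
    XM (i * i * (j * j)) (i * i) t (i * j) v := by
  refine ⟨⟨n, ?_, ?_, ?_, ?_, .inl ?_, .inl ?_⟩, ⟨n, ?_, ?_, ?_, ?_, .inr ?_, .inr ?_⟩, ?_, ?_, ?_,
    ?_, ?_, ?_, ?_, ?_⟩ <;> simp only [mul_assoc, mul_one, h.nf]

theorem Rl.m12 (h : Rl i j t v) : i ∈ Ns (XT (i * i) t (i * j) v) ∧
    i * (i * i * (j * j)) = i * i * (j * j) * i ∧ i * (i * i * t * (i * j)) * i⁻¹ = t ∧
    i * v * i⁻¹ = v * (i * i) ∧ i⁻¹ * j = i * i * (i * j) := by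
  have m := memXT (z := i * i) (t := t) (e := i * j) (v := v)
  refine ⟨nsXT ?_ ?_ ?_ ?_, ?_, ?_, ?_, ?_⟩
  · convert m.1 using 1; simp only [mul_assoc, mul_one, h.nf]
  · convert mul_mem (mul_mem m.2.1 m.2.2.1) m.1 using 1; simp only [mul_assoc, mul_one, h.nf]
  · convert m.2.2.1 using 1; simp only [mul_assoc, mul_one, h.nf]
  · convert mul_mem m.2.2.2 m.1 using 1; simp only [mul_assoc, mul_one, h.nf]
  all_goals simp only [mul_assoc, mul_one, h.nf]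

theorem aD : a ∈ Dl a b := mem_sup_left (mem_zpowers a)

theorem bD : b ∈ Dl a b := mem_sup_right (mem_zpowers b)

variable (h0 : FD S P d s z b a t x k)
include h0

theorem i2 : a ^ 2 ^ k * a ^ 2 ^ k = z := by rw [← pow_add, ← two_mul, ← pow_succ', h0.sh.dh.za]

theorem z2 : z * z = 1 := by
  rw [← h0.sh.dh.za, ← pow_add, ← two_mul, ← pow_succ', ← h0.sh.dh.ord, pow_orderOf_eq_one]

theorem z1 : z ≠ 1 := fun e => h0.sh.tz (by rw [e, mul_one, one_mul])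

theorem zD : z ∈ Dl a b := h0.sh.dh.za ▸ pow_mem aD _

theorem cD (hy : y ∈ Dl a b) (hy' : y' ∈ Dl a b) : Commute y (t * y' * t⁻¹) := h0.sh.com _ hy _ hy'

theorem bi : b * a ^ 2 ^ k * b⁻¹ = (a ^ 2 ^ k)⁻¹ := by rw [← conj_pow, h0.sh.dh.ba, inv_pow]

theorem tt (y : G) : t * (t * y * t⁻¹) * t⁻¹ = y := by
  rw [← mul_assoc, ← mul_assoc, h0.t2, one_mul, mul_assoc, ← mul_inv_rev, h0.t2, inv_one, mul_one]

theorem xt (y : G) : x * (t * y * t⁻¹) * x⁻¹ = t * (x * y * x⁻¹) * t⁻¹ := by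
  rw [← mul_assoc, ← mul_assoc, ← h0.tx, mul_assoc, ← mul_inv_rev, ← h0.tx]; group

theorem xγ : x * (b * (t * b * t⁻¹)) * x⁻¹ = a * (t * a * t⁻¹) * (b * (t * b * t⁻¹)) := by
  rw [← conj_mul, xt h0, h0.xb, ← (cD h0 bD aD).mul_mul_mul_comm, conj_mul]

theorem ζ1 : z * (t * z * t⁻¹) ≠ 1 := fun e =>
  h0.sh.tz (mul_inv_eq_iff_eq_mul.1 (mul_left_cancel (e.trans (z2 h0).symm)))

theorem rl (hζ : ζ = z * (t * z * t⁻¹)) (hv : v = x * (b * (t * b * t⁻¹)))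
    (h1 : x * x = a * (t * a * t⁻¹) * ζ) : Rl (a ^ 2 ^ k) (t * a ^ 2 ^ k * t⁻¹) t v := by
  have c1 : Commute x (a * (t * a * t⁻¹)) := Commute.mul_right h0.xa h0.xa'
  refine ⟨by rw [← mul_assoc, i2 h0, z2 h0], (cD h0 (pow_mem aD _) (pow_mem aD _)).eq.symm, rfl,
    h0.t2, ?_, ?_, ?_⟩
  · calc _ = x * (b * (t * b * t⁻¹ * a ^ 2 ^ k * (t * b * t⁻¹)⁻¹) * b⁻¹) * x⁻¹ := by rw [hv]; group
      _ = _ := by
        rw [← (cD h0 (pow_mem aD _) bD).eq, mul_inv_cancel_right, bi h0,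
          ((show Commute x a from h0.xa).pow_right _).inv_right.eq, mul_inv_cancel_right]
  · rw [eq_comm, ← mul_inv_eq_iff_eq_mul, hv, ← conj_mul, ← conj_mul, tt h0, h0.tx,
      mul_inv_cancel_right, (cD h0 bD bD).eq]
  · have e1 : b * (t * b * t⁻¹) * (b * (t * b * t⁻¹)) = 1 := by
      rw [← (cD h0 bD bD).mul_mul_mul_comm, conj_mul, h0.sh.dh.b2]; simp
    have e2 := xγ h0
    rw [conj_mul, ← mul_assoc (a ^ 2 ^ k), i2 h0, ← hζ, hv]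
    generalize b * (t * b * t⁻¹) = γ, a * (t * a * t⁻¹) = α at *
    have e3 : γ * x = α⁻¹ * x * γ := by rw [mul_assoc, mul_inv_eq_iff_eq_mul.1 e2]; group
    calc _ = x * (γ * x) * γ := by group
      _ = α⁻¹ * (x * x) := by
        rw [e3, mul_assoc, mul_assoc, e1, mul_one, ← mul_assoc, c1.inv_right.eq, mul_assoc]
      _ = ζ := by rw [h1, inv_mul_cancel_left]

theorem memD (hy : y ∈ Dl a b) : (∃ l : ℤ, y = a ^ l) ∨ ∃ l : ℤ, y = b * a ^ l := by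
  rcases (mem_adj (fun c hc => mem_normalizer_conj (h0.sh.dh.na h0.sh.dh.bH) hc)
    (h0.sh.dh.b2 ▸ one_mem _)).1 hy with ⟨l, e⟩ | ⟨l, e⟩
  exacts [.inl ⟨l, e.symm⟩, .inr ⟨l, inv_mul_eq_iff_eq_mul.1 e.symm⟩]

theorem memY (hy : y ∈ YY a b t) : ∃ y₁ ∈ Dl a b, ∃ y₂ ∈ Dl a b, y = y₁ * (t * y₂ * t⁻¹) := by
  obtain ⟨y₁, h1, _, ⟨y₂, h2, rfl⟩, e⟩ := (Solv.Coprime.mem_sup_iff (by
    rintro _ ⟨c, hc, rfl⟩
    exact Cs_le_Ns (mem_Cs.2 fun y hy => cD h0 hy hc))).1 hy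
  exact ⟨y₁, h1, y₂, h2, e.symm⟩

theorem key (hm : m ∈ (S : Subgroup G)) (mz : m * z = z * m) (m2 : m * m = z)
    (hx : x * x = a * (t * a * t⁻¹) * (z * (t * z * t⁻¹)))
    (me : m * (a ^ 2 ^ k * (t * a ^ 2 ^ k * t⁻¹)) * m⁻¹ = a ^ 2 ^ k * (t * a ^ 2 ^ k * t⁻¹) * z) :
    False := by
  have iD : a ^ 2 ^ k ∈ Dl a b := pow_mem aD _
  have ni : (a ^ 2 ^ k)⁻¹ ≠ a ^ 2 ^ k := fun e =>
    z1 h0 (by rw [← i2 h0, ← inv_mul_cancel (a ^ 2 ^ k), e])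
  have cb : ∀ l : ℤ, b * a ^ l * a ^ 2 ^ k * (b * a ^ l)⁻¹ = (a ^ 2 ^ k)⁻¹ := fun l => by
    rw [← bi h0, mul_assoc b, ((Commute.refl a).pow_right _).zpow_left]; group
  have ca : ∀ l : ℤ, a ^ l * a ^ 2 ^ k * (a ^ l)⁻¹ = a ^ 2 ^ k := fun l => by
    rw [((Commute.refl a).pow_right _).zpow_left, mul_inv_cancel_right]
  have k1 : ∀ y₁ ∈ Dl a b, ∀ y₂ ∈ Dl a b,
      y₁ * (t * y₂ * t⁻¹) * (a ^ 2 ^ k * (t * a ^ 2 ^ k * t⁻¹)) * (y₁ * (t * y₂ * t⁻¹))⁻¹ =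
        a ^ 2 ^ k * (t * a ^ 2 ^ k * t⁻¹) * z →
      ∃ l l' : ℤ, y₁ = b * a ^ l ∧ y₂ = a ^ l' := fun y₁ h1 y₂ h2 e => by
    have m1 := mul_mem (mul_mem h1 iD) (inv_mem h1)
    have m2 := mul_mem (mul_mem h2 iD) (inv_mem h2)
    have e1 : y₁ * a ^ 2 ^ k * y₁⁻¹ * (t * (y₂ * a ^ 2 ^ k * y₂⁻¹) * t⁻¹) =
        a ^ 2 ^ k * z * (t * a ^ 2 ^ k * t⁻¹) := by
      rw [mul_assoc _ z, (cD h0 (zD h0) iD).eq, ← mul_assoc _ _ z, ← e, mul_assoc _ y₁⁻¹,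
        (cD h0 (inv_mem h1) m2).eq, mul_assoc y₁ (t * y₂ * t⁻¹), ← mul_assoc (t * y₂ * t⁻¹),
        ← (cD h0 iD h2).eq]
      group
    have e2 : (a ^ 2 ^ k * z)⁻¹ * (y₁ * a ^ 2 ^ k * y₁⁻¹) =
        t * (a ^ 2 ^ k * (y₂ * a ^ 2 ^ k * y₂⁻¹)⁻¹) * t⁻¹ := by
      rw [eq_mul_inv_of_mul_eq e1]; group
    have e3 := h0.sh.dis _ (mul_mem (inv_mem (mul_mem iD (zD h0))) m1) _
      (mul_mem iD (inv_mem m2)) e2
    rw [e3, eq_comm, mul_inv_eq_one, mul_eq_left, mul_inv_eq_one] at e2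
    rw [inv_mul_eq_one] at e3
    obtain ⟨l, rfl⟩ := (memD h0 h1).resolve_left (by
      rintro ⟨l, rfl⟩
      exact z1 h0 (mul_eq_left.1 (e3.trans (ca l))))
    obtain ⟨l', rfl⟩ := (memD h0 h2).resolve_right (by
      rintro ⟨l, rfl⟩
      exact ni ((cb l).symm.trans e2.symm))
    exact ⟨l, l', rfl, rfl⟩
  have bb : ∀ l : ℤ, b * a ^ l * b = a ^ (-l) := fun l => by
    rw [← inv_zpow', ← h0.sh.dh.ba, conj_zpow, GHM.inv_eq h0.sh.dh.b2]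
  rcases h0.cos m hm mz with hY | hY <;> obtain ⟨y₁, h1, y₂, h2, e⟩ := memY h0 hY
  · obtain ⟨l, l', rfl, rfl⟩ := k1 y₁ h1 y₂ h2 (e ▸ me)
    rw [e, ← (cD h0 h1 h2).mul_mul_mul_comm, conj_mul, ← mul_assoc (b * a ^ l) b, bb, _root_.zpow_neg,
      inv_mul_cancel, one_mul] at m2
    exact z1 h0 (h0.sh.dis _ (zD h0) _ (mul_mem h2 h2) m2.symm)
  have xa : Commute x a := h0.xa
  have xa' : Commute x (t * a * t⁻¹) := h0.xa'
  have xz : Commute x z := h0.sh.dh.za ▸ xa.pow_right _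
  have xi : Commute x (t * a ^ 2 ^ k * t⁻¹) := by rw [← conj_pow]; exact xa'.pow_right _
  obtain ⟨l, l', rfl, rfl⟩ := k1 y₁ h1 y₂ h2 (by
    rw [← e, mul_inv_rev, mul_assoc x, mul_assoc x, ← mul_assoc _ m⁻¹, me, ← mul_assoc,
      (((xa.pow_right _).mul_right xi).mul_right xz).eq,
      mul_inv_cancel_right])
  obtain rfl := eq_inv_mul_of_mul_eq e
  have c1 := cD h0 h1 h2
  have c2 : Commute x (t * a ^ l' * t⁻¹) := by rw [← conj_zpow]; exact xa'.zpow_right l'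
  have e1 : b * x⁻¹ = x⁻¹ * (a * b) := by rw [← h0.xb]; group
  have e2 : x⁻¹ * (b * a ^ l) * (x⁻¹ * (b * a ^ l)) = (x * x)⁻¹ * a := by
    calc _ = x⁻¹ * (b * (a ^ l * x⁻¹) * b * a ^ l) := by group
      _ = x⁻¹ * (b * x⁻¹ * a ^ l * b * a ^ l) := by rw [← (xa.zpow_right l).inv_left.eq]; group
      _ = x⁻¹ * x⁻¹ * a * (b * a ^ l * b * a ^ l) := by rw [e1]; group
      _ = _ := by rw [bb]; group
  rw [← mul_assoc x⁻¹ (b * a ^ l), ← (c2.inv_left.mul_left c1).mul_mul_mul_comm, e2, conj_mul,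
    mul_assoc, inv_mul_eq_iff_eq_mul, hx, (cD h0 (zD h0) (zD h0)).eq, mul_assoc _ _ z,
    mul_assoc _ z z, z2 h0, mul_one, mul_assoc a, mul_right_inj, conj_mul, mul_left_inj,
    mul_right_inj, ← h0.sh.dh.za, ← pow_succ', ← zpow_add, ← zpow_natCast, zpow_eq_zpow_iff_modEq,
    h0.sh.dh.ord] at m2
  have := (m2.of_dvd (show (2 : ℤ) ∣ _ from by exact_mod_cast dvd_pow_self 2 (by omega))).dvd
  push_cast at this
  omega

end K3a

namespace FD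

open K3a

variable (h0 : FD S P d s z b a t x k) (hζ : ζ = z * (t * z * t⁻¹))
  (he : e = a ^ 2 ^ k * (t * a ^ 2 ^ k * t⁻¹)) (hv : v = x * (b * (t * b * t⁻¹)))
  (h1 : x * x = a * (t * a * t⁻¹) * ζ)
include h0 hζ he hv h1

theorem xm : XM ζ z t e v := by
  have := (rl h0 hζ hv h1).xm (by rw [conj_mul, i2 h0]; exact ζ1 h0)
  rwa [conj_mul, i2 h0, ← hζ, ← he] at this

theorem trv : ∃ f ∈ Ns (XT z t e v), f * z = z * f ∧ f * t = t * f ∧ f * e = e * f ∧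
    (f * v * f⁻¹ = e * v ∨ f * v * f⁻¹ = ζ * (e * v)) := by
  have xa : Commute x a := h0.xa
  have xa' : Commute x (t * a * t⁻¹) := h0.xa'
  have c1 : Commute (x ^ 2 ^ k) z := (h0.sh.dh.za ▸ xa.pow_right _ : Commute x z).pow_left _
  have c2 : Commute (x ^ 2 ^ k) t := (show Commute t x from h0.tx).symm.pow_left _
  have c3 : Commute x e := he ▸ (xa.pow_right _).mul_right (by rw [← conj_pow]; exact xa'.pow_right _)
  have c4 : ∀ n : ℕ, x ^ n * (b * (t * b * t⁻¹)) * (x ^ n)⁻¹ =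
      (a * (t * a * t⁻¹)) ^ n * (b * (t * b * t⁻¹)) := fun n => by
    induction n with
    | zero => simp
    | succ n ih =>
      calc _ = x * (x ^ n * (b * (t * b * t⁻¹)) * (x ^ n)⁻¹) * x⁻¹ := by rw [pow_succ']; group
        _ = _ := by
          rw [ih, ← mul_assoc, ((xa.mul_right xa').pow_right n).eq, mul_assoc, mul_assoc,
            ← mul_assoc x, xγ h0, pow_succ, ← mul_assoc]
  have c5 : x ^ 2 ^ k * v * (x ^ 2 ^ k)⁻¹ = e * v := by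
    rw [hv, ← mul_assoc e, ← c3.eq, ← mul_assoc, ((Commute.refl x).pow_left _).eq, mul_assoc x,
      mul_assoc x, c4, (cD h0 aD aD).mul_pow, conj_pow, ← he, ← mul_assoc]
  have m := memXT (z := z) (t := t) (e := e) (v := v)
  exact ⟨x ^ 2 ^ k, nsXT (by rw [c1.eq, mul_inv_cancel_right]; exact m.1)
    (by rw [c2.eq, mul_inv_cancel_right]; exact m.2.1)
    (by rw [(c3.pow_left _).eq, mul_inv_cancel_right]; exact m.2.2.1) (c5 ▸ mul_mem m.2.2.1 m.2.2.2),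
    c1, c2, c3.pow_left _, .inl c5⟩

theorem m12 : ∃ f ∈ Ns (XT z t e v), f * ζ = ζ * f ∧
    (f * (z * t * e) * f⁻¹ = t ∨ f * (z * t * e) * f⁻¹ = t * ζ) := by
  have := (rl h0 hζ hv h1).m12
  rw [conj_mul, i2 h0, ← hζ, ← he] at this
  exact ⟨_, this.1, this.2.1, .inl this.2.2.1⟩

theorem nv (h2 : g * ζ = ζ * g) (h3 : g * z * g⁻¹ = z ∨ g * z * g⁻¹ = z * ζ)
    (h4 : g * v * g⁻¹ = e ∨ g * v * g⁻¹ = e * ζ) : False := by
  have : Fact (Nat.Prime 2) := ⟨Nat.prime_two⟩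
  have X := h0.xm hζ he hv h1
  obtain ⟨-, iζ, -, iv, ii⟩ := (rl h0 hζ hv h1).m12
  rw [conj_mul, i2 h0, ← hζ] at iζ
  rw [i2 h0] at iv
  rw [i2 h0, ← he] at ii
  have m4 : ∀ y, y ∈ F4 z ζ ↔ y = 1 ∨ y = z ∨ y = ζ ∨ y = z * ζ := fun y =>
    mem_F4 X.z2 X.zt.w2 X.zt.uw
  have zV : z ∈ F4 z ζ := (m4 _).2 (.inr (.inl rfl))
  have ζV : ζ ∈ F4 z ζ := (m4 _).2 (.inr (.inr (.inl rfl)))
  have cs : ∀ y, y * z = z * y → y * ζ = ζ * y → y ∈ Cs (F4 z ζ) := fun y e1 e2 =>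
    le_Cs_comm.1 (sup_le (zpowers_le.2 (Cs_zpowers y ▸ mem_C1.2 e1.symm))
      (zpowers_le.2 (Cs_zpowers y ▸ mem_C1.2 e2.symm))) (mem_zpowers y)
  have ns : ∀ y, y * ζ = ζ * y → y * z * y⁻¹ = z ∨ y * z * y⁻¹ = z * ζ → y ∈ Ns (F4 z ζ) :=
    fun y e1 e2 => mem_normalizer_of_cj_le (cj_le_iff_le_cj_inv.2 (sup_le
      (zpowers_le.2 (mem_cj_inv.2 (e2.elim (·.symm ▸ zV) (·.symm ▸ mul_mem zV ζV))))
      (zpowers_le.2 (mem_cj_inv.2 (by rwa [e1, mul_inv_cancel_right])))))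
  have tz : t * z * t⁻¹ = z * ζ := by rw [hζ, ← mul_assoc z z, X.z2, one_mul]
  have mK : ∀ y, y * z = z * y → y * ζ = ζ * y → ⁅y, e⁆ ∈ F4 z ζ → y ∈ C1 ζ ⊓ PzN.Cg (F4 z ζ) e :=
    fun y e1 e2 e3 => ⟨mem_C1.2 e2, Cs_le_Ns (cs y e1 e2), e3⟩
  have c1 : ∀ {y w : G}, y * w = w * y → ⁅y, w⁆ ∈ F4 z ζ := fun e => by
    rw [commutatorElement_eq_one_iff_mul_comm.2 e]; exact one_mem _
  have tK : t ∈ C1 ζ ⊓ PzN.Cg (F4 z ζ) e := ⟨mem_C1.2 X.zt.vw, ns t X.zt.vw (.inr tz), c1 X.te⟩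
  have az : Commute a z := mem_C1.1 h0.sh.dh.aH.2
  have bz : Commute b z := mem_C1.1 h0.sh.dh.bH.2
  have xa : Commute x a := h0.xa
  have xa' : Commute x (t * a * t⁻¹) := h0.xa'
  have xz : Commute x z := h0.sh.dh.za ▸ xa.pow_right _
  have DK : Dl a b ≤ C1 ζ ⊓ PzN.Cg (F4 z ζ) e := sup_le
    (zpowers_le.2 (mK a az (hζ ▸ az.mul_right (cD h0 aD (zD h0)))
      (c1 (he ▸ ((Commute.refl a).pow_right _).mul_right (cD h0 aD (pow_mem aD _))))))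
    (zpowers_le.2 (mK b bz (hζ ▸ bz.mul_right (cD h0 bD (zD h0))) (by
      rw [commutatorElement_def, he, ← conj_mul, bi h0, (cD h0 bD (pow_mem aD _)).eq,
        mul_inv_cancel_right, ii, ← he, mul_inv_cancel_right]
      exact zV)))
  have YK : YY a b t ≤ C1 ζ ⊓ PzN.Cg (F4 z ζ) e :=
    sup_le DK (cj_le_iff.2 fun y hy => mul_mem (mul_mem tK (DK hy)) (inv_mem tK))
  have xK : x ∈ C1 ζ ⊓ PzN.Cg (F4 z ζ) e := mK x xz
    (hζ ▸ xz.mul_right (by rw [← h0.sh.dh.za, ← conj_pow]; exact xa'.pow_right _))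
    (c1 (he ▸ (xa.pow_right _).mul_right (by rw [← conj_pow]; exact xa'.pow_right _)))
  have MK : (S : Subgroup G) ⊓ C1 z ≤ C1 ζ ⊓ PzN.Cg (F4 z ζ) e := fun m hm =>
    (h0.cos m hm.1 (mem_C1.1 hm.2)).elim (YK ·) fun e => (mul_mem_cancel_left xK).1 (YK e)
  have SK : (S : Subgroup G) ≤ C1 ζ ⊓ PzN.Cg (F4 z ζ) e := fun m hm => by
    by_cases e : m ∈ (S : Subgroup G) ⊓ C1 z
    exacts [MK e, (mul_mem_cancel_right tK).1 (MK (h0.sh.idx m hm t h0.sh.tS e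
      fun e => h0.sh.tz (mem_C1.1 e.2)))]
  have iC := cs _ (az.pow_left (2 ^ k)) iζ
  have eC := cs e X.ze.symm X.ev.uw
  have sq : ∀ h : G, h * a ^ 2 ^ k * h⁻¹ * (h * a ^ 2 ^ k * h⁻¹) = h * z * h⁻¹ := fun h => by
    rw [conj_mul, i2 h0]
  have st : ∀ h ∈ Ns (F4 z ζ), e⁻¹ * (h * v * h⁻¹) ∈ F4 z ζ →
      h * a ^ 2 ^ k * h⁻¹ * e * (h * a ^ 2 ^ k * h⁻¹)⁻¹ = e * (h * z * h⁻¹) := fun h hN hw => by
    have e1 := cs_conj (cs_ns iC hN) (inv_mem hw)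
    have e2 := cs_comm (sq h ▸ mul_mem (cs_ns iC hN) (cs_ns iC hN)) (inv_mem hw)
    generalize a ^ 2 ^ k = i at iv e1
    calc _ = h * (i * v * i⁻¹) * h⁻¹ *
          (h * i * h⁻¹ * (e⁻¹ * (h * v * h⁻¹))⁻¹ * (h * i * h⁻¹)⁻¹) := by group
      _ = h * v * h⁻¹ * (h * z * h⁻¹ * (e⁻¹ * (h * v * h⁻¹))⁻¹) := by rw [e1, iv]; group
      _ = _ := by rw [e2]; group
  have gN := ns g h2 h3
  have gw : e⁻¹ * (g * v * g⁻¹) ∈ F4 z ζ := by
    rcases h4 with e | e <;> rw [e]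
    exacts [by simp, by simpa using ζV]
  obtain ⟨c, hc, hS⟩ := (isSylowIn_of_le S SK).exists_cj_le
    (isPGroup_cj (pS (zpowers_le.2 (pow_mem h0.sh.dh.aH.1 (2 ^ k)))) g) (by
      rw [cj_zpowers, zpowers_le]
      refine ⟨mem_C1.2 (cs_comm (cs_ns iC gN) ζV), Cs_le_Ns (cs_ns iC gN), ?_⟩
      rw [commutatorElement_def, st g gN gw]
      exact mem_normalizer_conj (Cs_le_Ns eC) (mem_normalizer_conj gN zV))
  rw [cj_cj, cj_zpowers, zpowers_le] at hS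
  have hN := mul_mem hc.2.1 gN
  have e1 := st _ hN (by
    convert mul_mem (mem_normalizer_conj' (Cs_le_Ns eC) hc.2.2) (mem_normalizer_conj hc.2.1 gw)
      using 1
    rw [commutatorElement_def]; group)
  have e2 := sq (c * g)
  have e3 := cs_ns iC hN
  have e4 : c * g * z * (c * g)⁻¹ ≠ ζ := fun e => h0.sh.tz (by
    rw [mul_inv_eq_iff_eq_mul, ← (Commute.mul_left (mem_C1.1 hc.1) h2).eq, mul_right_inj] at e
    rw [e, X.zt.vw])
  rw [hζ] at h1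
  rcases (m4 _).1 (mem_normalizer_conj hN zV) with r | r | r | r
  · exact z1 h0 (conj_eq_one_iff.1 r)
  · exact key h0 hS (cs_comm e3 zV) (e2.trans r) h1 (he ▸ r ▸ e1)
  · exact e4 r
  have e5 : t * (z * ζ) * t⁻¹ = z := by
    rw [← conj_mul, tz, X.zt.vw, mul_inv_cancel_right, mul_assoc, X.zt.w2, mul_one]
  generalize c * g * a ^ 2 ^ k * (c * g)⁻¹ = m at hS e1 e2 e3
  refine key h0 (mul_mem (mul_mem h0.sh.tS hS) (inv_mem h0.sh.tS)) (cs_comm (cs_ns e3 tK.2.1) zV)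
    (by rw [conj_mul, e2, r, e5]) h1 ?_
  rw [← he, ← e5, ← r, ← mul_inv_cancel_right e t, ← X.te, conj_mul, conj_mul, conj_inv, conj_mul, e1]

end FD

end Cfsg.Lib.GHM
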