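import Cfsg.Agent.GHM.K3r

/-!
# Simple groups of sectional 2-rank at most four: the second frame of the twisted diagonal case
-/

set_option autoImplicit false
set_option linter.unusedSectionVars false

namespace Cfsg.Lib.GHM

open Subgroup Cfsg.Lib.Trans Cfsg.Lib.Gold Cfsg.Lib.Rank2 Cfsg.Lib.GHB
open scoped commutatorElement

universe u

variable {G : Type u} [Group G] [Finite G] {S : Sylow 2 G} {P : Subgroup G}
  {a b d e m s t t' v x z ζ : G} {k : ℕ}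

namespace FD
variable (h0 : FD S P d s z b a t x k) (hζ : ζ = z * (t * z * t⁻¹))
  (he : e = a ^ 2 ^ k * (t * a ^ 2 ^ k * t⁻¹)) (hv : v = x * (b * (t * b * t⁻¹)))
  (h1 : x * x = a * (t * a * t⁻¹) * ζ)
include h0 hζ he hv h1

/-- the coordinates of the named elements -/
theorem co43 : ∃ μ b' q, K3r.Rl (S : Subgroup G) μ z b b' t q ∧ x = μ 1 0 0 ∧ a = μ 0 1 0 ∧
    z = μ 0 (2 * q) 0 ∧ ζ = μ 0 (2 * q) (2 * q) ∧ e = μ 0 q q ∧ v = μ 1 0 0 * (b * b') ∧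
    t * b * t⁻¹ = b' := by
  obtain ⟨μ, b', h, hx, ha, hq⟩ := K3r.rl h0 (hζ ▸ h1)
  refine ⟨μ, b', _, h, hx, ha, h.hz, ?_, ?_, ?_, ?_⟩
  · rw [hζ, h.hz]; simp only [h.s, add_zero, zero_add]
  · rw [he, hq]; simp only [h.s, add_zero, zero_add]
  · rw [hv, hx]; simp only [h.s]
  · simp only [h.s]

/-- K3b: the centraliser of `t` -/
theorem cent_t (hm : m ∈ (S : Subgroup G)) (h2 : m * z = z * m) (h3 : m * t = t * m) :
    ∃ l : ℤ, m = x ^ l ∨ m = x ^ l * (b * (t * b * t⁻¹)) := by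
  obtain ⟨μ, b', q, h, hx, -, -, -, -, -, hb⟩ := h0.co43 hζ he hv h1
  obtain ⟨l, e1⟩ := h.cent hm h2 h3
  refine ⟨l, ?_⟩
  rwa [hb, hx, h.pow, mul_one, mul_zero]

/-- K3b: the second frame -/
theorem frame' (ht : t' = t * (x * (t * a * t⁻¹)⁻¹) * z) : FD S P d s z b a t' x k ∧
    t' * z * t'⁻¹ = t * z * t⁻¹ ∧ t' * a * t'⁻¹ = t * a * t⁻¹ ∧
    ∃ n ∈ (S : Subgroup G), cj n (XT z t' e (x * (b * (t' * b * t'⁻¹)))) = XT z t e v ∧
      (n * t' * n⁻¹ = z * t * v ∨ n * t' * n⁻¹ = z * t * v * ζ) := by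
  obtain ⟨μ, b', q, h, hx, ha, hz, hζ', he', hv', -⟩ := h0.co43 hζ he hv h1
  have et : t' = μ 1 (-1) (2 * q) * t := by
    rw [ht, hx, ha, hz]; simp only [h.s]; exact h.eq' 0 0 0 (by ring) (by ring) (by ring)
  have tS : t' ∈ (S : Subgroup G) := et ▸ mul_mem (h.mS _ _ _) h.tS
  have e1 : t' * z * t'⁻¹ = t * z * t⁻¹ := by
    rw [et, hz]; simp only [h.s]; exact h.eq 0 0 0 (by ring) (by ring) (by ring)
  have e2 : t' * a * t'⁻¹ = t * a * t⁻¹ := by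
    rw [et, ha]; simp only [h.s]; exact h.eq 0 0 0 (by ring) (by ring) (by ring)
  have tz : t' * z ≠ z * t' := fun e0 => h0.sh.zz' (by rw [← e1, e0, mul_inv_cancel_right])
  have tx : t' * x = x * t' := by
    rw [et, hx]; simp only [h.s]; exact h.eq' 0 0 0 (by ring) (by ring) (by ring)
  refine ⟨⟨⟨⟨h0.cx, h0.vf, (h0.sh.ret tS tz).1⟩, h0.xS, h0.xa, e2 ▸ h0.xa', h0.xb, ⟨1, odd_one, ?_⟩,
    ?_⟩, ?_, tx, .inr (by rw [e1, e2, h1, hζ])⟩, e1, e2, b' * μ (-2) 1 0,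
    mul_mem h.cS (h.mS _ _ _), ?_⟩
  · rw [zpow_one, ← h0.xb]
    calc _ = x * t' * b * (x * t')⁻¹ := by group
      _ = _ := by rw [← tx]; group
  · rw [h0.sh.retY tS tz]; exact h0.cos
  · rw [et]; simp only [h.s]; exact h.one 1 1 1 (by ring) (by ring) (by ring)
  have n1 : b' * μ (-2) 1 0 * z * (b' * μ (-2) 1 0)⁻¹ = z := by
    rw [hz]; simp only [h.s]; exact h.eq 0 0 0 (by ring) (by ring) (by ring)
  have n2 : b' * μ (-2) 1 0 * t' * (b' * μ (-2) 1 0)⁻¹ = z * t * v * ζ := by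
    rw [et, hv', hζ', hz]; simp only [h.s]; exact h.eq' 0 0 0 (by ring) (by ring) (by ring)
  have n3 : b' * μ (-2) 1 0 * e * (b' * μ (-2) 1 0)⁻¹ = e * (z * ζ) := by
    rw [he', hζ', hz]; simp only [h.s]; exact h.eq 0 (-1) (-1) (by ring) (by ring) (by ring)
  have n4 : b' * μ (-2) 1 0 * (x * (b * (t' * b * t'⁻¹))) * (b' * μ (-2) 1 0)⁻¹ = v := by
    rw [et, hv', hx]; simp only [h.s]; exact h.eq' 0 0 (-1) (by ring) (by ring) (by ring)
  refine ⟨?_, .inr n2⟩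
  rw [K3r.cj_XT, n1, n2, n3, n4]
  have e3 : ζ = e * e := by
    rw [he', hζ']; simp only [h.s]; exact h.eq 0 0 0 (by ring) (by ring) (by ring)
  have e4 : ζ = e * (z * ζ) * (e * (z * ζ)) := by
    rw [he', hζ', hz]; simp only [h.s]; exact h.eq 0 (-2) (-1) (by ring) (by ring) (by ring)
  apply le_antisymm
  · obtain ⟨m1, m2, m3, m4⟩ := K3r.memXT z t e v
    have m5 : ζ ∈ XT z t e v := e3 ▸ mul_mem m3 m3
    exact K3r.XT_le m1 (mul_mem (mul_mem (mul_mem m1 m2) m4) m5) (mul_mem m3 (mul_mem m1 m5)) m4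
  · obtain ⟨m1, m2, m3, m4⟩ := K3r.memXT z (z * t * v * ζ) (e * (z * ζ)) v
    have m5 := mul_mem m3 m3
    rw [← e4] at m5
    refine K3r.XT_le m1 ?_ ((mul_mem_cancel_right (mul_mem m1 m5)).1 m3) m4
    exact (mul_mem_cancel_left m1).1 ((mul_mem_cancel_right m4).1 ((mul_mem_cancel_right m5).1 m2))

end FD

end Cfsg.Lib.GHM
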