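import Cfsg.Agent.GHM.K3a
import Cfsg.Agent.GHM.K3b
import Cfsg.Agent.GHM.K3c
import Cfsg.Agent.GHM.K3d
import Cfsg.Agent.GHM.ShA
import Cfsg.Agent.GHM.Api

/-!
# Simple groups of sectional 2-rank at most four: the twisted diagonal case does not occur
-/

set_option autoImplicit false

namespace Cfsg.Lib.GHM

open Subgroup Cfsg.Lib.Trans Cfsg.Lib.Gold

universe u

variable {G : Type u} [Group G] [Finite G] {S : Sylow 2 G} {P : Subgroup G}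
  {a b d e s t v x z ζ : G} {k : ℕ}

namespace FD
variable (h0 : FD S P d s z b a t x k) (hζ : ζ = z * (t * z * t⁻¹))
  (he : e = a ^ 2 ^ k * (t * a ^ 2 ^ k * t⁻¹)) (hv : v = x * (b * (t * b * t⁻¹)))
  (h1 : x * x = a * (t * a * t⁻¹) * ζ)
include h0 hζ he hv h1

open K3d in
theorem false1 : False := by
  have X := h0.xm hζ he hv h1
  have hz := X.zt.w2
  obtain ⟨f, hf, f1, f2, f3, f4⟩ := h0.trv hζ he hv h1
  obtain ⟨g₁, n₁, c₁, k₁⟩ := h0.mv hζ he hv h1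
  obtain ⟨g₂, n₂, c₂, k₂⟩ := h0.m12 hζ he hv h1
  obtain ⟨h0', e1, e2, n, nS, hn, k₃⟩ := h0.frame' hζ he hv h1 rfl
  obtain ⟨g₄, n₄, c₄, k₄⟩ := h0'.mv (ζ := ζ) (e := e) (by rw [e1, hζ])
    (by rw [he, ← conj_pow, ← conj_pow, e2]) rfl (by rw [e2, h1])
  have nζ : n * ζ = ζ * n := hζ ▸ (cs_comm h0.sh.ζc nS).symm
  have nz : Cz ζ n z z := by
    by_cases c : n * z = z * n
    · exact Or.inl (by rw [c, mul_inv_cancel_right])
    · exact Or.inr (by rw [(h0.sh.swap nS c).1, hζ, ← mul_assoc, X.z2, one_mul])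
  have m4 : Cz ζ (n * (g₄ * n⁻¹)) (z * t * v) z :=
    ((Cz.symm k₃ hz nζ).trans k₄ hz c₄).trans nz hz nζ
  have gN : n * (g₄ * n⁻¹) ∈ Ns (XT z t e v) := by
    rw [← mul_assoc, ← hn]; exact (cj_normalizer n _).le (conj_mem_cj.2 n₄)
  have gζ : n * (g₄ * n⁻¹) * ζ = ζ * (n * (g₄ * n⁻¹)) :=
    (Commute.mul_left nζ (Commute.mul_left c₄ (inv_comm nζ))).eq
  have fζ : f * ζ = ζ * f := X.e2 ▸ (Commute.mul_right f3 f3).eq
  have m5 : Cz ζ f (z * t * e * v) (z * t * v) := by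
    have k : f * (z * t * e * v) * f⁻¹ = z * t * (e * (f * v * f⁻¹)) := by
      rw [cjm, cjm, cjm, f1, f2, f3]; group
    rcases f4 with e3 | e3 <;> rw [e3] at k
    · exact Or.inr (by rw [k, ← mul_assoc e, X.e2, ← X.ev.vw, mul_assoc (z * t)])
    · exact Or.inl (by rw [k, ← mul_assoc e, X.ev.uw, mul_assoc ζ, ← mul_assoc e, X.e2,
        ← mul_assoc ζ, hz, one_mul])
  obtain ⟨g, k1, k2, k3⟩ := X.s5 hf f1 f2 f3 f4 ⟨g₁, n₁, c₁, k₁⟩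
    ⟨g₁ * g₂, mul_mem n₁ n₂, (Commute.mul_left c₁ c₂).eq, Cz.trans k₂ k₁ hz c₁⟩ ⟨_, gN, gζ, m4⟩
    ⟨_, mul_mem gN hf, (Commute.mul_left gζ fζ).eq, m5.trans m4 hz gζ⟩
  exact h0.nv hζ he hv h1 k1 k2 k3

end FD

end Cfsg.Lib.GHM
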