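import Cfsg.Agent.GHM.ShA

/-!
# Simple groups of sectional 2-rank at most four: coordinates in the twisted diagonal case
-/

set_option autoImplicit false
set_option linter.unusedSectionVars false

namespace Cfsg.Lib.GHM

open Subgroup Cfsg.Lib.Trans Cfsg.Lib.Gold Cfsg.Lib.Rank2 Cfsg.Lib.GHB
open scoped commutatorElement

universe u

variable {G : Type u} [Group G]

namespace K3r

/-- Coordinates `m i j l = x ^ i a ^ j a' ^ l` on the abelian subgroup, and the rules. -/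
structure Rl (T : Subgroup G) (m : ℤ → ℤ → ℤ → G) (z b b' t : G) (q : ℤ) : Prop where
  mul : ∀ i j l i' j' l', m i j l * m i' j' l' = m (i + i') (j + j') (l + l')
  zero : m 0 0 0 = 1
  bm : ∀ i j l, b * m i j l = m i (-i - j) l * b
  cm : ∀ i j l, b' * m i j l = m i j (-i - l) * b'
  tm : ∀ i j l, t * m i j l = m i l j * t
  bb : b * b = 1
  cc : b' * b' = 1
  tt : t * t = 1
  cb : b' * b = b * b'
  tb : t * b = b' * t
  tc : t * b' = b * t
  hz : z = m 0 (2 * q) 0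
  rel : ∀ i j l, m i j l = 1 ↔
    ∃ u v w, i = 2 * u ∧ j = -(1 + 2 * q) * u + 4 * q * v ∧ l = -(1 + 2 * q) * u + 4 * q * w
  q0 : 0 < q
  mS : ∀ i j l, m i j l ∈ T
  bS : b ∈ T
  cS : b' ∈ T
  tS : t ∈ T
  nf : ∀ g ∈ T, g * z = z * g → ∃ i j l,
    g = m i j l ∨ g = m i j l * b ∨ g = m i j l * b' ∨ g = m i j l * (b * b')
  nf' : ∀ g ∈ T, g * z ≠ z * g → ∃ g' ∈ T, g' * z = z * g' ∧ g = g' * t

namespace Rl
variable {T : Subgroup G} {m : ℤ → ℤ → ℤ → G} {z b b' t g : G} {q : ℤ} (h : Rl T m z b b' t q)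
include h

theorem inv (i j l : ℤ) : (m i j l)⁻¹ = m (-i) (-j) (-l) :=
  inv_eq_of_mul_eq_one_right (by rw [h.mul]; simpa using h.zero)

theorem s : (∀ i j l i' j' l', m i j l * m i' j' l' = m (i + i') (j + j') (l + l')) ∧
    (∀ i j l i' j' l' g, m i j l * (m i' j' l' * g) = m (i + i') (j + j') (l + l') * g) ∧
    (∀ i j l, b * m i j l = m i (-i - j) l * b) ∧
    (∀ i j l g, b * (m i j l * g) = m i (-i - j) l * (b * g)) ∧
    (∀ i j l, b' * m i j l = m i j (-i - l) * b') ∧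
    (∀ i j l g, b' * (m i j l * g) = m i j (-i - l) * (b' * g)) ∧
    (∀ i j l, t * m i j l = m i l j * t) ∧
    (∀ i j l g, t * (m i j l * g) = m i l j * (t * g)) ∧
    b * b = 1 ∧ (∀ g, b * (b * g) = g) ∧ b' * b' = 1 ∧ (∀ g, b' * (b' * g) = g) ∧
    t * t = 1 ∧ (∀ g, t * (t * g) = g) ∧ b' * b = b * b' ∧ (∀ g, b' * (b * g) = b * (b' * g)) ∧
    t * b = b' * t ∧ (∀ g, t * (b * g) = b' * (t * g)) ∧
    t * b' = b * t ∧ (∀ g, t * (b' * g) = b * (t * g)) ∧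
    (∀ i j l, (m i j l)⁻¹ = m (-i) (-j) (-l)) ∧ b⁻¹ = b ∧ b'⁻¹ = b' ∧ t⁻¹ = t ∧
    (∀ x y w : G, x * y * w = x * (y * w)) ∧ (∀ x y : G, (x * y)⁻¹ = y⁻¹ * x⁻¹) ∧
    (∀ x : G, x * 1 = x) ∧ (∀ x : G, 1 * x = x) :=
  ⟨h.mul, fun _ _ _ _ _ _ _ => by rw [← mul_assoc, h.mul], h.bm,
    fun _ _ _ _ => by rw [← mul_assoc, h.bm, mul_assoc], h.cm,
    fun _ _ _ _ => by rw [← mul_assoc, h.cm, mul_assoc], h.tm,
    fun _ _ _ _ => by rw [← mul_assoc, h.tm, mul_assoc], h.bb,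
    fun _ => by rw [← mul_assoc, h.bb, one_mul], h.cc,
    fun _ => by rw [← mul_assoc, h.cc, one_mul], h.tt,
    fun _ => by rw [← mul_assoc, h.tt, one_mul], h.cb,
    fun _ => by rw [← mul_assoc, h.cb, mul_assoc], h.tb,
    fun _ => by rw [← mul_assoc, h.tb, mul_assoc], h.tc,
    fun _ => by rw [← mul_assoc, h.tc, mul_assoc], h.inv, inv_eq h.bb, inv_eq h.cc, inv_eq h.tt,
    mul_assoc, mul_inv_rev, mul_one, one_mul⟩

theorem eq_iff {i j l i' j' l' : ℤ} : m i j l = m i' j' l' ↔ ∃ u v w, i - i' = 2 * u ∧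
    j - j' = -(1 + 2 * q) * u + 4 * q * v ∧ l - l' = -(1 + 2 * q) * u + 4 * q * w := by
  rw [← mul_inv_eq_one, h.inv, h.mul, h.rel]
  simp only [sub_eq_add_neg]

theorem eq (u v w : ℤ) {i j l i' j' l' : ℤ} (h1 : i - i' = 2 * u)
    (h2 : j - j' = -(1 + 2 * q) * u + 4 * q * v) (h3 : l - l' = -(1 + 2 * q) * u + 4 * q * w) :
    m i j l = m i' j' l' := h.eq_iff.2 ⟨u, v, w, h1, h2, h3⟩

theorem eq' (u v w : ℤ) {i j l i' j' l' : ℤ} (h1 : i - i' = 2 * u)
    (h2 : j - j' = -(1 + 2 * q) * u + 4 * q * v) (h3 : l - l' = -(1 + 2 * q) * u + 4 * q * w) :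
    m i j l * g = m i' j' l' * g := by rw [h.eq u v w h1 h2 h3]

theorem one (u v w : ℤ) {i j l : ℤ} (h1 : i = 2 * u)
    (h2 : j = -(1 + 2 * q) * u + 4 * q * v) (h3 : l = -(1 + 2 * q) * u + 4 * q * w) :
    m i j l = 1 := (h.rel _ _ _).2 ⟨u, v, w, h1, h2, h3⟩

theorem pow (i j l n : ℤ) : m i j l ^ n = m (n * i) (n * j) (n * l) := by
  induction n using Int.induction_on with
  | zero => simp [h.zero]
  | succ n ih => rw [zpow_add_one, ih, h.mul]; congr 1 <;> ring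
  | pred n ih => rw [zpow_sub_one, ih, h.inv, h.mul]; congr 1 <;> ring

theorem two (v : ℤ) : 2 ≠ 4 * q * v := by
  intro e
  have : 2 * (q * v) = 1 := by linarith
  omega

/-- `b`, `b'` and `b b'` are not in the abelian subgroup -/
theorem nb (i j l : ℤ) : b ≠ m i j l := by
  intro e
  have e1 : b * m 0 1 0 = m 0 1 0 * b := by rw [e, h.mul, h.mul]; congr 1 <;> ring
  rw [h.bm, mul_left_inj, h.eq_iff] at e1
  obtain ⟨u, v, w, h1, h2, -⟩ := e1
  obtain rfl : u = 0 := by omega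
  exact h.two (-v) (by linarith)

theorem nc (i j l : ℤ) : b' ≠ m i j l := by
  intro e
  have e1 : b' * m 0 0 1 = m 0 0 1 * b' := by rw [e, h.mul, h.mul]; congr 1 <;> ring
  rw [h.cm, mul_left_inj, h.eq_iff] at e1
  obtain ⟨u, v, w, h1, -, h2⟩ := e1
  obtain rfl : u = 0 := by omega
  exact h.two (-w) (by linarith)

theorem nγ (i j l : ℤ) : b * b' ≠ m i j l := by
  intro e
  have e1 : b * b' * m 0 1 0 = m 0 1 0 * (b * b') := by rw [e, h.mul, h.mul]; congr 1 <;> ring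
  simp only [h.s, mul_left_inj] at e1
  obtain ⟨u, v, w, h1, h2, -⟩ := h.eq_iff.1 e1
  obtain rfl : u = 0 := by omega
  exact h.two (-v) (by linarith)

theorem nγ1 (i j l : ℤ) : m i j l * (b * b') ≠ 1 := fun e =>
  h.nγ (-i) (-j) (-l) (by rw [← h.inv]; exact eq_inv_of_mul_eq_one_right e)

/-- the centraliser of `t` -/
theorem cent (hg : g ∈ T) (h2 : g * z = z * g) (h3 : g * t = t * g) :
    ∃ l : ℤ, g = m l 0 0 ∨ g = m l 0 0 * (b * b') := by
  have key : ∀ i j l, m i j l = m i l j → m i j l = m (i + 2 * j + 4 * q * j) 0 0 := by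
    intro i j l e
    obtain ⟨u, v, w, h1, h2, -⟩ := h.eq_iff.1 e
    obtain rfl : u = 0 := by omega
    exact h.eq (-(j + 2 * q * j)) (-j - q * j) (-j - q * j - v) (by ring) (by ring)
      (by linear_combination -h2)
  obtain ⟨i, j, l, rfl | rfl | rfl | rfl⟩ := h.nf g hg h2
  · rw [h.tm, mul_left_inj] at h3
    exact ⟨_, .inl (key _ _ _ h3)⟩
  · exfalso
    have e : m i j l * b * t * (t * b' * (m i j l)⁻¹) = t * (m i j l * b) * (t * b' * (m i j l)⁻¹) := by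
      rw [h3]
    simp only [h.s] at e
    exact h.nγ _ _ _ (by rw [eq_inv_mul_iff_mul_eq.2 e, h.inv, h.mul])
  · exfalso
    have e : m i j l * b' * t * (t * b * (m i j l)⁻¹) = t * (m i j l * b') * (t * b * (m i j l)⁻¹) := by
      rw [h3]
    simp only [h.s] at e
    exact h.nγ _ _ _ (by rw [eq_inv_mul_iff_mul_eq.2 e, h.inv, h.mul])
  · simp only [h.s, mul_left_inj] at h3
    exact ⟨_, .inr (by rw [key _ _ _ h3])⟩

/-- squares -/
theorem sq (hg : g ∈ T) : g * g * (g * g) = 1 ∨ ∃ J L, g * g = m 0 J L := by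
  have key : ∀ i j l, ∃ J L, m (i + i) j l = m 0 J L := fun i j l =>
    ⟨j + (1 + 2 * q) * i, l + (1 + 2 * q) * i, h.eq i 0 0 (by ring) (by ring) (by ring)⟩
  by_cases hz : g * z = z * g
  · obtain ⟨i, j, l, rfl | rfl | rfl | rfl⟩ := h.nf g hg hz <;>
    · simp only [h.s]
      exact .inr (key _ _ _)
  · obtain ⟨g', hg', h2, rfl⟩ := h.nf' g hg hz
    obtain ⟨i, j, l, rfl | rfl | rfl | rfl⟩ := h.nf g' hg' h2
    · simp only [h.s]
      exact .inr (key _ _ _)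
    · left
      simp only [h.s]
      exact h.one (2 * i) i i (by ring) (by ring) (by ring)
    · left
      simp only [h.s]
      exact h.one (2 * i) i i (by ring) (by ring) (by ring)
    · simp only [h.s]
      exact .inr (key _ _ _)

/-- an involution commuting with an element with two odd components -/
theorem v0 {J L : ℤ} (hJ : Odd J) (hL : Odd L) (hg : g ∈ T) (h2 : g * z = z * g) (h3 : g * g = 1)
    (h4 : g * m 0 J L = m 0 J L * g) :
    g = 1 ∨ g = m 0 (2 * q) 0 ∨ g = m 0 0 (2 * q) ∨ g = m 0 (2 * q) (2 * q) := by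
  obtain ⟨J, rfl⟩ := hJ
  obtain ⟨L, rfl⟩ := hL
  obtain ⟨i, j, l, rfl | rfl | rfl | rfl⟩ := h.nf g hg h2
  · rw [h.mul, h.rel] at h3
    obtain ⟨u, v, w, e1, e2, e3⟩ := h3
    obtain rfl : u = i := by omega
    obtain ⟨i, rfl⟩ : ∃ i, u = 2 * i := ⟨-(j + q * u - 2 * (q * v)) , by linarith [e2]⟩
    obtain ⟨v, rfl | rfl⟩ := Int.even_or_odd' v <;> obtain ⟨w, rfl | rfl⟩ := Int.even_or_odd' w
    · exact .inl (h.one i v w rfl (by linarith) (by linarith))
    · exact .inr (.inr (.inl (h.eq i v w (by ring) (by linarith) (by linarith))))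
    · exact .inr (.inl (h.eq i v w (by ring) (by linarith) (by linarith)))
    · exact .inr (.inr (.inr (h.eq i v w (by ring) (by linarith) (by linarith))))
  all_goals
    exfalso
    simp only [h.s, mul_left_inj] at h4
    obtain ⟨u, v, w, e1, e2, e3⟩ := h.eq_iff.1 h4
    obtain rfl : u = 0 := by omega
    have e4 : 4 * q * v = 4 * (q * v) := by ring
    have e5 : 4 * q * w = 4 * (q * w) := by ring
    omega

/-- the involutions outside `C(z)` -/
theorem invol (hg : g ∈ T) (h2 : g * z ≠ z * g) (h3 : g * g = 1) :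
    ∃ δ ∈ T, δ * z = z * δ ∧ (δ * g * δ⁻¹ = t ∨ δ * g * δ⁻¹ = m 1 (-1) (2 * q) * t) := by
  have key : ∀ i j l, m i j l * t * (m i j l * t) = 1 → ∃ p, m 0 p 0 * (m i j l * t) * (m 0 p 0)⁻¹ = t ∨
      m 0 p 0 * (m i j l * t) * (m 0 p 0)⁻¹ = m 1 (-1) (2 * q) * t := by
    intro i j l e
    simp only [h.s] at e ⊢
    obtain ⟨u, v, w, e1, e2, -⟩ := (h.rel _ _ _).1 e
    obtain rfl : u = i := by omega
    obtain ⟨i, rfl | rfl⟩ := Int.even_or_odd' u
    · refine ⟨-(j + (1 + 2 * q) * i), .inl ?_⟩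
      rw [h.one i 0 v (by ring) (by ring) (by linarith), one_mul]
    · exact ⟨-1 - (j + (1 + 2 * q) * i), .inr (h.eq' i 0 (v - 1) (by ring) (by ring) (by linarith))⟩
  have hz : ∀ p, m 0 p 0 * z = z * m 0 p 0 := fun p => by
    rw [h.hz, h.mul, h.mul, add_comm p]
  obtain ⟨g', hg', h4, rfl⟩ := h.nf' g hg h2
  obtain ⟨i, j, l, rfl | rfl | rfl | rfl⟩ := h.nf g' hg' h4
  · obtain ⟨p, e⟩ := key i j l h3
    exact ⟨_, h.mS _ _ _, hz p, e⟩
  · simp only [h.s] at h3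
    exact absurd h3 (h.nγ1 _ _ _)
  · simp only [h.s] at h3
    exact absurd h3 (h.nγ1 _ _ _)
  · have e0 : b * (m i j l * (b * b') * t) * b⁻¹ = m i (-i - j) l * t := by simp only [h.s]
    obtain ⟨p, e⟩ := key i (-i - j) l (by rw [← e0, conj_mul, h3]; simp)
    refine ⟨m 0 p 0 * b, mul_mem (h.mS _ _ _) h.bS, ?_, ?_⟩
    · rw [h.hz]
      simp only [h.s]
      exact h.eq' 0 (-1) 0 (by ring) (by ring) (by ring)
    · rw [← e0] at e
      simpa only [mul_assoc, mul_inv_rev] using e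

end Rl

/-- the coordinates exist -/
theorem rl [Finite G] {S : Sylow 2 G} {P : Subgroup G} {d s z b a t x : G} {k : ℕ}
    (h0 : FD S P d s z b a t x k)
    (h1 : x * x = a * (t * a * t⁻¹) * (z * (t * z * t⁻¹))) :
    ∃ m b', Rl (S : Subgroup G) m z b b' t (2 ^ k) ∧ x = m 1 0 0 ∧ a = m 0 1 0 ∧
      a ^ 2 ^ k = m 0 (2 ^ k) 0 := by
  have hd := h0.sh.dh
  have aD : a ∈ Dl a b := mem_sup_left (mem_zpowers a)
  have bD : b ∈ Dl a b := mem_sup_right (mem_zpowers b)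
  obtain ⟨a', ha'⟩ : ∃ a', a' = t * a * t⁻¹ := ⟨_, rfl⟩
  obtain ⟨b', hb'⟩ : ∃ b', b' = t * b * t⁻¹ := ⟨_, rfl⟩
  have aS : a ∈ (S : Subgroup G) := hd.aH.1
  have bS : b ∈ (S : Subgroup G) := hd.bH.1
  have ti : t⁻¹ = t := inv_eq h0.t2
  have c1 : Commute x a := h0.xa
  have c2 : Commute x a' := ha' ▸ h0.xa'
  have c3 : Commute a a' := ha' ▸ h0.sh.com a aD a aD
  have c4 : Commute b a' := ha' ▸ h0.sh.com b bD a aD
  have c5 : Commute b b' := hb' ▸ h0.sh.com b bD b bD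
  have tx : t * x * t⁻¹ = x := mul_inv_eq_iff_eq_mul.2 h0.tx
  have ta : t * a' * t⁻¹ = a := by
    rw [ha', ti]; simp only [mul_assoc, h0.t2, mul_one]; rw [← mul_assoc, h0.t2, one_mul]
  have tb : t * b' * t⁻¹ = b := by
    rw [hb', ti]; simp only [mul_assoc, h0.t2, mul_one]; rw [← mul_assoc, h0.t2, one_mul]
  have bx : b * x * b⁻¹ = x * a⁻¹ := by
    have e := h0.xb
    calc b * x * b⁻¹ = a⁻¹ * (a * b) * x * b⁻¹ := by group
      _ = a⁻¹ * x * (b * b⁻¹) := by rw [← e]; group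
      _ = x * a⁻¹ := by rw [mul_inv_cancel, mul_one, c1.inv_right.eq]
  obtain ⟨m, hm⟩ : ∃ m : ℤ → ℤ → ℤ → G, ∀ i j l, m i j l = x ^ i * a ^ j * a' ^ l :=
    ⟨_, fun _ _ _ => rfl⟩
  have mul : ∀ i j l i' j' l', m i j l * m i' j' l' = m (i + i') (j + j') (l + l') := by
    intro i j l i' j' l'
    simp only [hm, zpow_add, mul_assoc]
    rw [← (c2.zpow_zpow i' l).left_comm, ← (c3.zpow_zpow j' l).left_comm,
      ← (c1.zpow_zpow i' j).left_comm]
  have bm : ∀ i j l, b * m i j l = m i (-i - j) l * b := by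
    intro i j l
    rw [← mul_inv_eq_iff_eq_mul, hm, hm, ← conj_mul, ← conj_mul, ← conj_zpow, ← conj_zpow,
      ← conj_zpow, bx, hd.ba, c4.eq, mul_inv_cancel_right, c1.inv_right.mul_zpow]
    group
  have tm : ∀ i j l, t * m i j l = m i l j * t := by
    intro i j l
    rw [← mul_inv_eq_iff_eq_mul, hm, hm, ← conj_mul, ← conj_mul, ← conj_zpow, ← conj_zpow,
      ← conj_zpow, tx, ta, ← ha', mul_assoc, mul_assoc, (c3.zpow_zpow l j).eq]
  have zz : z = a ^ (2 * 2 ^ k : ℤ) := by rw [← hd.zz, pow_succ']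
  have p1 : ∀ l : ℤ, a ^ l = 1 ↔ ∃ v, l = 4 * 2 ^ k * v := fun l => by
    rw [← zpow_zero a, hd.pow_eq, Int.modEq_zero_iff_dvd, show (2 : ℤ) ^ (k + 1 + 1) = 4 * 2 ^ k by ring]
    rfl
  have pa : ∀ l : ℤ, a' ^ l = t * a ^ l * t⁻¹ := fun l => by rw [ha', conj_zpow]
  have x2 : ∀ u j l : ℤ, m (2 * u) j l =
      a ^ ((1 + 2 * 2 ^ k) * u + j) * a' ^ ((1 + 2 * 2 ^ k) * u + l) := by
    intro u j l
    have e : m 2 0 0 = m 0 (1 + 2 * 2 ^ k) (1 + 2 * 2 ^ k) := by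
      simp only [hm, zpow_zero, mul_one, one_mul, zpow_add, zpow_one]
      rw [zpow_two, h1, ← ha', zz, ← pa, mul_assoc, mul_assoc,
        ← (c3.zpow_left _).left_comm]
    have e1 : m (2 * u) 0 0 = m 2 0 0 ^ u := by simp [hm, zpow_mul]
    have e2 : m (2 * u) j l = m (2 * u) 0 0 * m 0 j l := by rw [mul]; simp
    rw [e2, e1, e]
    simp only [hm, zpow_zero, one_mul]
    rw [(c3.zpow_zpow _ _).mul_zpow, ← zpow_mul, ← zpow_mul, zpow_add, zpow_add, mul_assoc, mul_assoc,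
      (c3.zpow_zpow j _).left_comm]
  have mS : ∀ i j l, m i j l ∈ (S : Subgroup G) := fun i j l => by
    rw [hm, pa]
    exact mul_mem (mul_mem (zpow_mem h0.xS _) (zpow_mem aS _))
      (mul_mem (mul_mem h0.sh.tS (zpow_mem aS _)) (inv_mem h0.sh.tS))
  have nY : ∀ y ∈ YY a b t, ∃ j l,
      y = m 0 j l ∨ y = m 0 j l * b ∨ y = m 0 j l * b' ∨ y = m 0 j l * (b * b') := by
    intro y hy
    obtain ⟨y₁, hy₁, y₂, hy₂, rfl⟩ := h0.sh.memY.1 hy
    simp only [hm, zpow_zero, one_mul]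
    rcases hd.mem.1 hy₁ with ⟨j, rfl⟩ | ⟨j, rfl⟩ <;> rcases hd.mem.1 hy₂ with ⟨l, rfl⟩ | ⟨l, rfl⟩ <;>
      refine ⟨j, l, ?_⟩
    · exact .inl (by rw [pa])
    · exact .inr (.inr (.inl (by rw [← conj_mul, ← pa, ← hb', mul_assoc])))
    · exact .inr (.inl (by rw [← pa, mul_assoc, (c4.zpow_right l).eq, mul_assoc]))
    · exact .inr (.inr (.inr (by
        rw [← conj_mul, ← pa, ← hb', mul_assoc, (c4.zpow_right l).left_comm, mul_assoc])))
  refine ⟨m, b', ⟨mul, by simp [hm], bm, ?_, tm, hd.b2, ?_, h0.t2, c5.eq.symm, ?_, ?_, ?_, ?_,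
    by positivity, mS, bS, ?_, h0.sh.tS, ?_, ?_⟩, by simp [hm], by simp [hm], ?_⟩
  · intro i j l
    rw [hb', ti, mul_assoc, mul_assoc, tm, ← mul_assoc b, bm, mul_assoc, ← mul_assoc t, tm]
    simp only [mul_assoc]
  · rw [hb', conj_mul, hd.b2]; simp
  · rw [hb', inv_mul_cancel_right]
  · rw [← mul_inv_eq_iff_eq_mul, tb]
  · simp [hm, zz]
  · intro i j l
    constructor
    · intro e
      have e1 : m i (-i - j) l = 1 := by
        have := bm i j l
        rwa [e, mul_one, right_eq_mul] at this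
      have e2 : m 0 (i + 2 * j) 0 = 1 := by
        have := mul 0 (i + 2 * j) 0 i (-i - j) l
        rw [e1, mul_one] at this
        rw [this, ← e]; congr 1 <;> ring
      simp only [hm, zpow_zero, mul_one, one_mul, p1] at e2
      obtain ⟨v, hv⟩ := e2
      obtain ⟨u, rfl⟩ : ∃ u, i = 2 * u := ⟨2 * 2 ^ k * v - j, by linarith⟩
      rw [x2, pa] at e
      have e3 := h0.sh.dis _ (zpow_mem aD _) _ (inv_mem (zpow_mem aD _))
        (by rw [← conj_inv]; exact eq_inv_of_mul_eq_one_left e)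
      rw [e3, one_mul, conj_eq_one_iff, p1] at e
      obtain ⟨v', hv'⟩ := (p1 _).1 e3
      obtain ⟨w, hw⟩ := e
      exact ⟨u, v', w, rfl, by linarith, by linarith⟩
    · rintro ⟨u, v, w, rfl, rfl, rfl⟩
      rw [x2, pa, (p1 _).2 ⟨v, by ring⟩, (p1 _).2 ⟨w, by ring⟩]
      simp
  · rw [hb']; exact mul_mem (mul_mem h0.sh.tS bS) (inv_mem h0.sh.tS)
  · intro g hg hz
    rcases h0.cos g hg hz with hy | hy
    · obtain ⟨j, l, e⟩ := nY g hy
      exact ⟨0, j, l, e⟩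
    · obtain ⟨j, l, e⟩ := nY _ hy
      have e1 : x⁻¹ * m 0 j l = m (-1) j l := by simp [hm, mul_assoc]
      refine ⟨-1, j, l, ?_⟩
      simpa only [← e1, mul_assoc, eq_inv_mul_iff_mul_eq] using e
  · intro g hg hz
    have := h0.sh.idx g hg t h0.sh.tS (fun e => hz (mem_C1.1 e.2)) (fun e => h0.sh.tz (mem_C1.1 e.2))
    exact ⟨g * t, this.1, mem_C1.1 this.2, by rw [mul_assoc, h0.t2, mul_one]⟩
  · simp only [hm, zpow_zero, mul_one, one_mul]; norm_cast

theorem XT_le {K : Subgroup G} {z t e v : G} (h1 : z ∈ K) (h2 : t ∈ K) (h3 : e ∈ K) (h4 : v ∈ K) :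
    XT z t e v ≤ K := (closure_le _).2 (by rintro y (rfl | rfl | rfl | rfl) <;> assumption)

theorem memXT (z t e v : G) : z ∈ XT z t e v ∧ t ∈ XT z t e v ∧ e ∈ XT z t e v ∧ v ∈ XT z t e v :=
  ⟨subset_closure (by simp), subset_closure (by simp), subset_closure (by simp),
    subset_closure (by simp)⟩

theorem cj_XT (g z t e v : G) : cj g (XT z t e v) =
    XT (g * z * g⁻¹) (g * t * g⁻¹) (g * e * g⁻¹) (g * v * g⁻¹) := by
  rw [cj_closure]
  simp only [Set.image_insert_eq, Set.image_singleton]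

end K3r

end Cfsg.Lib.GHM
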