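import Cfsg.Agent.GHM.Tool
import Cfsg.Agent.GHM.DhA

/-!
# The dihedral tower over a four-group in a `2`-group
-/

set_option autoImplicit false

namespace Cfsg.Lib.GHM

open Subgroup Cfsg.Lib.Trans Cfsg.Lib.Gold Cfsg.Lib.GHB
open scoped commutatorElement

universe u

variable {G : Type u} [Group G] [Finite G] {H M P : Subgroup G} {a b b' c g w x y y' z : G} {k : ℕ}

namespace LemD

omit [Finite G] in
theorem comm_phi (hx : x ∈ P) (hy : y ∈ P) : ⁅x, y⁆ ∈ Phi P := by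
  rw [comm_eq_sq, show y⁻¹ * (x * x)⁻¹ * y⁻¹⁻¹ = y⁻¹ * x⁻¹ * y * (y⁻¹ * x⁻¹ * y) by group]
  exact mul_mem (mul_mem (sq_mem_Phi (mul_mem hx hy))
    (sq_mem_Phi (mul_mem (mul_mem (inv_mem hy) (inv_mem hx)) hy))) (inv_mem (sq_mem_Phi hy))

omit [Finite G] in
theorem rf0 : Rf a b b := ⟨0, by simp⟩

theorem ns_of (h : ∀ p ∈ P, g * p * g⁻¹ ∈ P) : g ∈ Ns P := mem_normalizer_fintype h

/-- An element acting evenly fixes a reflection. -/
theorem exB (h0 : Dh M k a b z) (hg : g ∈ M) {l : ℤ} (hl : Even l) (e : g * b * g⁻¹ = a ^ l * b)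
    (h : ∀ u ∈ zpowers a, u * u = z → u * g ≠ g * u) : ∃ y, Rf a b y ∧ g * y = y * g := by
  obtain ⟨l, rfl⟩ := hl
  obtain ⟨κ, -, hκ, e1, -⟩ := h0.act hg
  have k1 : ∀ m : ℤ, κ * m + (l + l) ≡ m [ZMOD 2 ^ (k + 1)] → ∃ y, Rf a b y ∧ g * y = y * g :=
    fun m hm => ⟨_, ⟨m, rfl⟩, mul_inv_eq_iff_eq_mul.1 (by
      rw [← conj_mul, ← conj_zpow, e1, e, ← zpow_mul, ← mul_assoc, ← zpow_add, h0.pow_eq.2 hm])⟩
  cases k with
  | zero => exact k1 0 (Int.modEq_iff_dvd.2 ⟨-l, by ring⟩)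
  | succ k =>
    obtain ⟨q, rfl | rfl⟩ : ∃ q, κ = 4 * q + 1 ∨ κ = 4 * q + 3 := ⟨κ / 4, by
      obtain ⟨_, rfl⟩ := hκ; omega⟩
    · refine absurd (mul_inv_eq_iff_eq_mul.1 ?_).symm (h _ (pow_mem (mem_zpowers a) _) h0.i2)
      rw [← conj_pow, e1, ← zpow_natCast, ← zpow_natCast, ← zpow_mul, h0.pow_eq]
      exact Int.modEq_iff_dvd.2 ⟨-q, by push_cast; ring⟩
    · obtain ⟨α, β, e2⟩ := (show IsCoprime (2 * q + 1) 2 from ⟨1, -q, by ring⟩).pow_right (n := k + 1)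
      exact k1 (-l * α) (Int.modEq_iff_dvd.2 ⟨-l * β, by linear_combination (2 * l) * e2⟩)

/-- Such an element fixes only two reflections. -/
theorem uniqB (h0 : Dh M k a b z) (h : ∀ u ∈ zpowers a, u * u = z → u * g ≠ g * u)
    (hy : Rf a b y) (hy' : Rf a b y') (e : g * y = y * g) (e' : g * y' = y' * g) :
    y' = y ∨ y' = z * y := by
  have k1 : ∀ j : ℕ, ∀ u ∈ zpowers a, u * g = g * u → u ^ 2 ^ j = 1 → u * u = 1 := fun j => by
    induction j with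
    | zero => intro u _ _ e; rw [pow_zero, pow_one] at e; rw [e, one_mul]
    | succ j ih =>
      intro u hu c e
      rw [pow_succ', pow_mul, sq] at e
      exact (h0.inv (mul_mem hu hu) (ih _ (mul_mem hu hu) (Commute.mul_left c c) e)).resolve_right
        fun e => h u hu e c
  have hu : y' * y⁻¹ ∈ zpowers a := by
    obtain ⟨i, rfl⟩ := hy
    obtain ⟨j, rfl⟩ := hy'
    exact ⟨j - i, by group⟩
  refine (h0.inv hu (k1 (k + 1) _ hu (Commute.mul_left (a := y') e'.symm (Commute.inv_left e.symm)) ?_)).imp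
    mul_inv_eq_one.1 mul_inv_eq_iff_eq_mul.1
  rw [← h0.ord]
  exact orderOf_dvd_iff_pow_eq_one.1 (orderOf_dvd_of_mem_zpowers hu)

theorem up (h1 : Dh M k (c * c) b z) (h2 : Dh M k (c * c) b' z) (hc : c = b * b') (hx : x ∈ Ns M)
    (x2 : x * x ∈ M) (e : x * b * x⁻¹ = b') : Dh (M ⊔ zpowers x) (k + 1) c b z := by
  have : Fact (Nat.Prime 2) := ⟨Nat.prime_two⟩
  have xM : ∀ m ∈ M, x * m * x⁻¹ ∈ M := fun m => (mem_normalizer_iff.1 hx m).1
  have ba : b * c * b⁻¹ = c⁻¹ := by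
    rw [hc, ← mul_assoc, h1.b2, one_mul, mul_inv_rev, inv_eq_of_sq h2.b2]
  have e1 : b' = c ^ (-1 : ℤ) * b := by
    rw [zpow_neg_one, ← ba, inv_mul_cancel_right, hc, ← mul_assoc, h1.b2, one_mul]
  have za : c ^ 2 ^ (k + 1) = z := by rw [pow_succ', pow_mul, sq, h1.za]
  have p2 : ∀ j : ℤ, (c * c) ^ j = c ^ (2 * j) := fun j => by rw [zpow_mul, zpow_two]
  have cb : ∀ h ∈ M ⊔ zpowers x, ∃ j : ℤ, h * b * h⁻¹ = c ^ j * b := fun h hh => by
    rcases (mem_adj xM x2).1 hh with hh | hh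
    · obtain ⟨j, e⟩ := h1.cb h hh
      exact ⟨_, p2 j ▸ e⟩
    · obtain ⟨j, e'⟩ := h2.cb _ (xM _ hh)
      exact ⟨2 * j + -1, by rw [zpow_add, mul_assoc (c ^ _), ← e1, ← p2, ← e', ← e]; group⟩
  refine ⟨mem_sup_left (hc ▸ mul_mem h1.bH h2.bH), mem_sup_left h1.bH,
    orderOf_eq_prime_pow (za ▸ h1.z1) (by rw [pow_succ, pow_mul, za, sq, h1.z2]), za, h1.b2, ba,
    fun ⟨j, e⟩ => ?_, fun h hh => ns_of ?_, cb, fun j => ?_⟩
  · have : c * c = 1 := by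
      rw [← eq_inv_iff_mul_eq_one, ← ba, ← e]
      group
    exact h1.z1 (by rw [← h1.za, this, one_pow])
  · rintro _ ⟨i, rfl⟩
    rw [← conj_zpow]
    refine zpow_mem ?_ i
    obtain ⟨j, e2⟩ := cb h hh
    obtain ⟨j', e3⟩ := cb _ (mul_mem hh (mem_sup_right (mem_zpowers x)))
    refine ⟨j - j', ?_⟩
    calc _ = c ^ j * (c⁻¹ ^ j' * (b * b)) := by rw [h1.b2]; group
      _ = c ^ j * b * (c ^ j' * b) := by
        rw [← ba, conj_zpow, mul_assoc (b * c ^ j'), inv_mul_cancel_left]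
        group
      _ = _ := by rw [← e2, ← e3, hc, ← e]; group
  · obtain ⟨i, rfl | rfl⟩ : ∃ i, j = 2 * i ∨ j = 2 * i + -1 := ⟨(j + 1) / 2, by omega⟩
    · obtain ⟨h, hh, e⟩ := h1.tr i
      exact ⟨h, mem_sup_left hh, p2 i ▸ e⟩
    · obtain ⟨h, hh, e'⟩ := h2.tr i
      exact ⟨h * x, mul_mem_sup hh (mem_zpowers x), by
        rw [zpow_add, mul_assoc (c ^ _), ← e1, ← p2, ← e', ← e]; group⟩

theorem step (zc : ∀ x ∈ H, x * z = z * x) (phi : z ∉ Phi (H ⊓ C1 b)) (hM : M ≤ H)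
    (hN : H ⊓ Ns (H ⊓ C1 b) ≤ M) (h0 : Dh M k a b z) (xH : x ∈ H) (hx : x ∈ Ns M) (xM : x ∉ M)
    (x2 : x * x ∈ M) : ∃ c, Dh (M ⊔ zpowers x) (k + 1) c b z := by
  have PM : H ⊓ C1 b ≤ M := le_trans (le_inf inf_le_left le_normalizer) hN
  have cM : ∀ m ∈ M, x * m * x⁻¹ ∈ M := fun m => (mem_normalizer_iff.1 hx m).1
  have h1 := h0.cj x
  rw [mem_Ns_iff.1 hx, zc x xH, mul_inv_cancel_right] at h1
  obtain ⟨K', -, -, K1', K2'⟩ := h1.par
  obtain ⟨l, e⟩ := h0.cb _ h1.bH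
  obtain ⟨l', e'⟩ := h1.cb _ h0.bH
  have pp : Even l ↔ Even l' := by
    rw [← K2' _ h0.bH _ rf0 l' e', ← K2' _ (cM _ h1.bH) _ rf0 l (by
      rw [conj_zpow, conj_mul (a := a ^ l), ← e]; group),
      show x * (x * b * x⁻¹) * x⁻¹ = x * x * b * (x * x)⁻¹ by group]
    exact ⟨fun h => by
      simpa [mul_assoc] using K1'.conj_mem (inv_mem x2) (mul_mem (mul_mem x2 h0.bH) (inv_mem x2)) h,
      K1'.conj_mem x2 h0.bH⟩
  by_cases c : Even l
  · exfalso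
    have n1 : ∀ u ∈ H, u * u = z → u * b ≠ b * u := fun u hu e c =>
      phi (e ▸ sq_mem_Phi ⟨hu, mem_C1.2 c⟩)
    have n2 : ∀ u ∈ zpowers (x * a * x⁻¹), u * u = z → u * b ≠ b * u := fun u hu =>
      n1 u (hM (zpowers_le.2 h1.aH hu))
    obtain ⟨y, hy, c1⟩ := exB h1 h0.bH (pp.1 c) e' n2
    obtain ⟨m, hm, e1⟩ := h1.rft hy
    have e2 : m * x * b * (m * x)⁻¹ = y := by rw [← e1]; group
    have mx : m * x ∈ H := mul_mem (hM hm) xH
    have mx2 : m * x * (m * x) ∈ M := by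
      simpa [mul_assoc] using mul_mem (mul_mem hm (cM m hm)) x2
    refine xM ((mul_mem_cancel_left hm).1 (hN ⟨mx, ?_⟩))
    generalize m * x = v at e2 mx mx2
    have yH : y ∈ H := e2 ▸ mul_mem (mul_mem mx (hM h0.bH)) (inv_mem mx)
    have c2 : v * y * v⁻¹ = b ∨ v * y * v⁻¹ = z * b := uniqB h0 (g := y) (fun u hu e c =>
      n1 (v⁻¹ * u * v) (mul_mem (mul_mem (inv_mem mx) (hM (zpowers_le.2 h0.aH hu))) mx) (by
        calc _ = v⁻¹ * (u * u * v) := by group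
          _ = _ := by rw [e, ← zc v mx, inv_mul_cancel_left]) (by
        calc _ = v⁻¹ * (u * y) * v := by rw [← e2]; group
          _ = _ := by rw [c, ← e2]; group)) rf0
      (by simpa [← e2, mul_assoc] using h0.rfc rf0 mx2) c1.symm (by
        nth_rw 1 [← e2]
        rw [conj_mul, c1, ← conj_mul, e2])
    refine ns_of fun p hp => mem_inf.2 ⟨mul_mem (mul_mem mx hp.1) (inv_mem mx), mem_C1.2 ?_⟩
    have c3 : p * y * p⁻¹ = y := (uniqB h1 n2 hy (h1.rfc hy (PM hp)) c1 (by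
      have : Commute b p := (mem_C1.1 hp.2).symm
      exact (this.mul_right c1).mul_right this.inv_right)).resolve_right fun e => phi (by
        rw [show z = ⁅p, y⁆ by rw [commutatorElement_def, e, mul_inv_cancel_right]]
        exact comm_phi hp ⟨yH, mem_C1.2 c1.symm⟩)
    have c4 : Commute (v * p * v⁻¹) (v * y * v⁻¹) := by
      rw [Commute, SemiconjBy, conj_mul, conj_mul, mul_inv_eq_iff_eq_mul.1 c3]
    rcases c2 with c2 | c2 <;> rw [c2] at c4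
    · exact c4
    · have : Commute (v * p * v⁻¹) z := zc _ (mul_mem (mul_mem mx hp.1) (inv_mem mx))
      simpa only [inv_mul_cancel_left] using (this.inv_right.mul_right c4).eq
  · have o1 : Odd (-l) := (Int.not_even_iff_odd.1 c).neg
    have o2 : Odd l' := Int.not_even_iff_odd.1 (mt pp.2 c)
    have d1 := (h0.repow o1).1
    have d2 := (h1.repow o2).1
    generalize hb : x * b * x⁻¹ = b' at *
    rw [show a ^ (-l) = b * b' * (b * b') by
      rw [← inv_zpow', ← h0.ba, conj_zpow, mul_assoc b, mul_assoc b, ← mul_assoc b',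
        inv_eq_of_sq h0.b2, ← e, inv_eq_of_sq h1.b2]] at d1
    rw [show (x * a * x⁻¹) ^ l' = b * b' * (b * b') by
      rw [eq_mul_inv_iff_mul_eq.2 e'.symm, inv_eq_of_sq h0.b2, inv_eq_of_sq h1.b2, mul_assoc]] at d2
    exact ⟨_, up d1 d2 rfl hx x2 hb⟩

end LemD

open LemD in
theorem lemD (hH : IsPGroup 2 H) (zH : z ∈ H) (bH : b ∈ H) (z2 : z * z = 1) (z1 : z ≠ 1)
    (b2 : b * b = 1) (zc : ∀ x ∈ H, x * z = z * x) (phi : z ∉ Phi (H ⊓ C1 b))
    (hN : ∀ x ∈ H, x ∈ Ns (H ⊓ C1 b) → x * b * x⁻¹ = b ∨ x * b * x⁻¹ = z * b)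
    (wH : w ∈ H) (hw : w * b * w⁻¹ = z * b) : ∃ k a, Dh H k a b z := by
  have : Fact (Nat.Prime 2) := ⟨Nat.prime_two⟩
  have key : ∀ M : Subgroup G, M ≤ H → H ⊓ Ns (H ⊓ C1 b) ≤ M → ∀ k a, Dh M k a b z →
      ∃ k a, Dh H k a b z := fun M => by
    induction M using WellFoundedGT.induction with
    | ind M ih =>
      intro h1 h2 k a h0
      by_cases c : H ≤ M
      · exact ⟨k, a, le_antisymm h1 c ▸ h0⟩
      obtain ⟨x, xH, hx, xM, x2⟩ := grow2 hH h1 c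
      obtain ⟨c, h⟩ := step zc phi h1 h2 h0 xH hx xM x2
      exact ih _ (lt_of_le_of_ne le_sup_left fun e => xM (e ▸ mem_sup_right (mem_zpowers x)))
        (sup_le h1 (zpowers_le.2 xH)) (h2.trans le_sup_left) _ _ h
  have oz : orderOf z = 2 := orderOf_eq_prime (by rw [sq, z2]) z1
  have zp : ∀ j : ℤ, z ^ j = 1 ∨ z ^ j = z := fun j => by
    obtain ⟨i, rfl | rfl⟩ := Int.even_or_odd' j
    · exact .inl (by rw [zpow_mul, zpow_two, z2, one_zpow])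
    · exact .inr (by rw [zpow_add, zpow_mul, zpow_two, z2, one_zpow, one_mul, zpow_one])
  have PN : H ⊓ C1 b ≤ H ⊓ Ns (H ⊓ C1 b) := le_inf inf_le_left le_normalizer
  refine key _ inf_le_left le_rfl 0 z ⟨PN ⟨zH, mem_C1.2 (zc b bH).symm⟩, PN ⟨bH, mem_C1.2 rfl⟩, oz,
    pow_one z, b2, by rw [zc b bH, mul_inv_cancel_right, inv_eq_of_sq z2], fun ⟨j, e⟩ => ?_,
    fun h hh => Cs_le_Ns (by rw [Cs_zpowers]; exact mem_C1.2 (zc h hh.1)), fun h hh => ?_, fun j => ?_⟩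
  · have : w * b = b * w := e ▸ (Commute.zpow_right (zc w wH) j)
    rw [this, mul_inv_cancel_right] at hw
    exact z1 (mul_eq_right.1 hw.symm)
  · rcases hN h hh.1 hh.2 with e | e
    exacts [⟨0, by simpa using e⟩, ⟨1, by simpa using e⟩]
  · rcases zp j with e | e <;> rw [e]
    · exact ⟨1, one_mem _, by simp⟩
    · refine ⟨w, ⟨wH, ns_of fun p hp => mem_inf.2 ⟨mul_mem (mul_mem wH hp.1) (inv_mem wH), mem_C1.2 ?_⟩⟩, hw⟩
      have c1 : Commute (w * p * w⁻¹) (z * b) := by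
        rw [← hw, Commute, SemiconjBy, conj_mul, conj_mul, mem_C1.1 hp.2]
      have c2 : Commute (w * p * w⁻¹) z := zc _ (mul_mem (mul_mem wH hp.1) (inv_mem wH))
      simpa only [inv_mul_cancel_left] using (c2.inv_right.mul_right c1).eq

end Cfsg.Lib.GHM
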