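import Cfsg.Agent.GHM.ModW
import Cfsg.Agent.PCore.Emb

/-!
# Simple groups of sectional 2-rank at most four: the model of type `PSp₄(q)`
-/

set_option autoImplicit false

namespace Cfsg.Lib.GHM

open Subgroup Cfsg.Lib.Trans Cfsg.Lib.Gold Cfsg.Lib.Rank2 Cfsg.Lib.GHB
open scoped commutatorElement

universe u

variable {G : Type u} [Group G] [Finite G] {S : Sylow 2 G} {P : Subgroup G}
  {a b d s z t x : G} {k : ℕ}

open ModW in
theorem FD.out (h0 : FD S P d s z b a t x k) (h1 : x * x = a * (t * a * t⁻¹)) : False := by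
  have hS := h0.sh
  have ti : t⁻¹ = t := inv_eq_of_mul_eq_one_right h0.t2
  have bi : b⁻¹ = b := inv_eq_of_mul_eq_one_right hS.dh.b2
  have bD : b ∈ Dl a b := mem_sup_right (mem_zpowers b)
  have aD : a ∈ Dl a b := mem_sup_left (mem_zpowers a)
  have ζ1 := hS.ζ1
  have z2 := hS.dh'.z2
  have an : a ^ 2 ^ (k + 2) = 1 := hS.dh.ord ▸ pow_orderOf_eq_one a
  obtain ⟨c, hc⟩ : ∃ c, c = t * a * t⁻¹ := ⟨_, rfl⟩
  have cz : c ^ 2 ^ (k + 1) = t * z * t⁻¹ := by rw [hc, conj_pow, hS.dh.za]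
  have cn : c ^ 2 ^ (k + 2) = 1 := by rw [hc, conj_pow, an, mul_one, mul_inv_cancel]
  have ac : Commute a c := hc ▸ hS.com a aD a aD
  have xa : Commute x a := h0.xa
  have xc : Commute x c := hc ▸ h0.xa'
  have tc : t * c * t⁻¹ = a := by
    rw [hc, ti, ← mul_assoc, ← mul_assoc, h0.t2, one_mul, mul_assoc, h0.t2, mul_one]
  have tx : t * x * t⁻¹ = x := by rw [h0.tx, mul_inv_cancel_right]
  rw [← hc] at h1
  obtain ⟨y, hy⟩ : ∃ y, y = x * c⁻¹ := ⟨_, rfl⟩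
  have xy : Commute x y := hy ▸ (Commute.refl x).mul_right xc.inv_right
  have yx : y * x = a := by rw [← xy.eq, hy, ← mul_assoc, h1, mul_inv_cancel_right]
  have yi : y⁻¹ = x * a⁻¹ := by rw [← yx, mul_inv_rev, mul_inv_cancel_left]
  have yy : y * y = a * c⁻¹ := by
    rw [hy, mul_assoc, ← mul_assoc c⁻¹, ← xc.inv_right.eq, ← mul_assoc, ← mul_assoc, h1,
      mul_inv_cancel_right]
  have bx : b * x * b⁻¹ = y⁻¹ := by
    have e : x * b = a * b * x := by rw [← h0.xb, inv_mul_cancel_right]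
    rw [yi, bi, mul_assoc, e, ← mul_assoc, ← mul_assoc, xa.inv_right.eq, ← hS.dh.ba, bi]
  have by' : b * y * b⁻¹ = x⁻¹ := by
    rw [← inv_inv y, ← bx, bi]
    simp only [mul_inv_rev, bi, mul_assoc, hS.dh.b2, mul_one]
    rw [← mul_assoc, hS.dh.b2, one_mul]
  have ty : t * y * t⁻¹ = y⁻¹ :=
    calc _ = t * x * t⁻¹ * (t * c * t⁻¹)⁻¹ := by rw [hy]; group
      _ = _ := by rw [tx, tc, yi]
  have ty' : t * y⁻¹ * t⁻¹ = y :=
    calc _ = (t * y * t⁻¹)⁻¹ := by group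
      _ = _ := by rw [ty, inv_inv]
  have cx : t * b * t⁻¹ * x * (t * b * t⁻¹)⁻¹ = y :=
    calc _ = t * b * t⁻¹ * (t * x * t⁻¹) * (t * b * t⁻¹)⁻¹ := by rw [tx]
      _ = t * (b * x * b⁻¹) * t⁻¹ := by group
      _ = _ := by rw [bx, ty']
  have cy : t * b * t⁻¹ * y * (t * b * t⁻¹)⁻¹ = x :=
    calc _ = t * b * t⁻¹ * (t * y⁻¹ * t⁻¹) * (t * b * t⁻¹)⁻¹ := by rw [ty']
      _ = t * (b * y * b⁻¹)⁻¹ * t⁻¹ := by group
      _ = _ := by rw [by', inv_inv, tx]
  have xn : x ^ 2 ^ (k + 1 + 2) = 1 := by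
    rw [pow_succ', pow_mul, sq, h1, ac.mul_pow, an, cn, mul_one]
  have yn : y ^ 2 ^ (k + 1 + 2) = 1 := by
    rw [pow_succ', pow_mul, sq, yy, ac.inv_right.mul_pow, an, inv_pow, cn, inv_one, mul_one]
  obtain ⟨A, addA, negA, hA⟩ := exists_pow _ xn
  obtain ⟨B, addB, negB, hB⟩ := exists_pow _ yn
  have AB : ∀ u v, A u * B v = B v * A u := fun u v => by rw [hA, hB]; exact (xy.pow_pow _ _).eq
  have vh : (PCore.Pm (k + 1)).h.val = 2 ^ (k + 2) :=
    ZMod.val_cast_of_lt (Nat.pow_lt_pow_right one_lt_two (by omega))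
  have hR : PCore.PS.Rel (PCore.Pm (k + 1)) (fun v u => B v * A u) b (t * b * t⁻¹) t := by
    refine ⟨fun v u v' u' => ?_, ?_, fun v u => ?_, fun v u => ?_, fun v u => ?_, hS.dh.b2,
      hS.dh'.b2, h0.t2, (hS.com b bD b bD).symm, (inv_mul_cancel_right _ _).symm⟩
    · rw [addA, addB, mul_assoc, mul_assoc, ← mul_assoc (B v'), ← AB, mul_assoc]
    · rw [hA, hB, vh, ← xy.symm.mul_pow, yx, an]
    · rw [← AB, negA, negB, hA, hA, hB, hB, ← inv_pow, ← inv_pow, ← bx, ← by', conj_pow, conj_pow]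
      group
    · rw [← AB v u, hA, hA, hB, hB]
      have e1 := conj_pow (a := t * b * t⁻¹) (b := x) (i := u.val)
      have e2 := conj_pow (a := t * b * t⁻¹) (b := y) (i := v.val)
      rw [cx] at e1
      rw [cy] at e2
      rw [e1, e2]
      group
    · rw [negB, hA, hB, ← inv_pow, ← ty, conj_pow]
      rw [mul_assoc, mul_assoc, ((Commute.pow_right h0.tx u.val).symm).eq, inv_mul_cancel_left,
        mul_assoc]
  obtain ⟨φ, hφ⟩ := hR.exists_hom
  have A0 : A 0 = 1 := by rw [hA, ZMod.val_zero, pow_zero]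
  have B0 : B 0 = 1 := by rw [hB, ZMod.val_zero, pow_zero]
  have : Fact (1 < 2 ^ (k + 1 + 2)) := ⟨Nat.one_lt_pow (by omega) one_lt_two⟩
  have xR : x ∈ φ.range := ⟨PCore.PS.mk 1 1 false false false ⟨1, rfl⟩, by
    simp [hφ 1 1 false false false 1 rfl, B0, hA, ZMod.val_one]⟩
  have yR : y ∈ φ.range := ⟨PCore.PS.mk 1 (-1) false false false ⟨0, by ring⟩, by
    simp [hφ 1 (-1) false false false 0 (by ring), A0, hB, ZMod.val_one]⟩
  have bR : b ∈ φ.range := ⟨PCore.PS.mk 0 0 false true false ⟨0, rfl⟩, by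
    simp [hφ 0 0 false true false 0 rfl, A0, B0]⟩
  have tR : t ∈ φ.range := ⟨PCore.PS.mk 0 0 true false false ⟨0, rfl⟩, by
    simp [hφ 0 0 true false false 0 rfl, A0, B0]⟩
  have hY : YY a b t ≤ φ.range := YY_le (yx ▸ mul_mem yR xR) bR tR
  have hle : (S : Subgroup G) ≤ φ.range := le_of hS tR fun m hm hz =>
    (h0.cos m hm hz).elim (fun h => hY h) fun h => (mul_mem_cancel_left xR).1 (hY h)
  refine h0.cx.out (Or.inr (Or.inl ⟨k + 1, ⟨φ, PCore.PS.injective (PCore.Pm (k + 1))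
    (PCore.isPGroup_SS _) φ ?_, odd_of_le hle⟩⟩))
  have h2 := hφ (PCore.Pm (k + 1)).h (PCore.Pm (k + 1)).h false false false 0
    (by rw [(PCore.Pm (k + 1)).hh, add_zero])
  simp only [cond_false, mul_one, sub_zero, A0] at h2
  rw [h2, hB, vh, pow_succ', pow_mul, sq, yy, ac.inv_right.mul_pow, hS.dh.za, inv_pow, cz,
    inv_eq_of_mul_eq_one_right z2]
  exact ζ1

end Cfsg.Lib.GHM
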