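import Cfsg.Agent.GHM.D16
import Cfsg.Agent.GHB.Invol
import Cfsg.Agent.SylT.Basic

/-!
# A group of order 64 acting non-singularly on a normal `E₁₆`
-/

set_option autoImplicit false

namespace Cfsg.Lib.GHM

open Subgroup Cfsg.Lib.Trans Cfsg.Lib.Gold Cfsg.Lib.Rank2 Cfsg.Lib.GHB
open scoped commutatorElement

universe u

variable {G : Type u} [Group G] {U B V : Subgroup G} {a b c g p q r v w x y : G}

/-- The hypotheses of `tt_or`. -/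
structure Nsg (U B V : Subgroup G) : Prop where
  h1 : V ≤ B
  h2 : B ≤ U
  h3 : Nat.card V = 4
  h4 : Nat.card B = 16
  h5 : Nat.card U = 64
  h6 : ∀ b ∈ B, b * b = 1
  h7 : V ≤ Cs U
  h8 : ∀ p ∈ U, ∀ b ∈ B, ⁅p, b⁆ ∈ V
  h9 : ∀ p ∈ U, ∀ b ∈ B, p * b = b * p → p ∈ B ∨ b ∈ V

namespace Nsg

variable (k : Nsg U B V)
include k

theorem cV (hp : p ∈ U) (hv : v ∈ V) : p * v = v * p := mem_Cs.1 (k.h7 hv) p hp

theorem sqV : ∀ v ∈ V, v * v = 1 := fun v hv => k.h6 v (k.h1 hv)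

theorem cjB (hp : p ∈ U) (hb : b ∈ B) : p * b * p⁻¹ ∈ B :=
  conj_of_comm k.h1 (k.h8 p hp) b hb

theorem exB : ∃ b ∈ B, b ∉ V := L34.exists_not_mem (by rw [k.h3, k.h4]; omega) (by rw [k.h3]; omega)

theorem sq (hp : p ∈ U) : p * p ∈ V := by
  by_cases e : p ∈ B
  · rw [k.h6 p e]; exact one_mem _
  obtain ⟨b, hb, hV⟩ := k.exB
  have e1 := k.h8 p hp b hb
  have e2 : p * b * p⁻¹ = ⁅p, b⁆ * b := by rw [commutatorElement_def]; group
  generalize ⁅p, b⁆ = v at e1 e2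
  have e3 : p * p * b = b * (p * p) := by
    refine mul_inv_eq_iff_eq_mul.1 ?_
    calc _ = p * (p * b * p⁻¹) * p⁻¹ := by group
      _ = p * v * p⁻¹ * (p * b * p⁻¹) := by rw [e2, ← e2]; nth_rewrite 1 [e2]; group
      _ = b := by rw [k.cV hp e1, mul_inv_cancel_right, e2, ← mul_assoc, k.sqV v e1, one_mul]
  have e4 := (k.h9 _ (mul_mem hp hp) b hb e3).resolve_right hV
  exact (k.h9 p hp _ e4 (mul_assoc p p p).symm).resolve_left e

theorem ea : EA V U :=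
  ⟨k.h1.trans k.h2, fun _ => k.sq, fun x hx v hv => by rwa [k.cV hx hv, mul_inv_cancel_right]⟩

theorem onto (hg : g ∈ U) (hB : g ∉ B) (hv : v ∈ V) : ∃ b ∈ B, ⁅g, b⁆ = v := by
  obtain ⟨a, ha, a1⟩ := k.exB
  have c1 : ∀ u ∈ V, a * u * a⁻¹ ∈ V := k.ea.nrm a (k.h2 ha)
  have s1 := k.sq (k.h2 ha)
  obtain ⟨b, hb, b1⟩ := L34.exists_not_mem (U := V ⊔ zpowers a) (A := B)
    (by rw [card_adj c1 s1 a1, k.h3, k.h4]; omega) (by rw [card_adj c1 s1 a1, k.h3]; omega)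
  rw [mem_adj c1 s1, not_or] at b1
  have n : ∀ u ∈ B, u ∉ V → ⁅g, u⁆ ≠ 1 := fun u hu u1 e =>
    (k.h9 g hg u hu (commutatorElement_eq_one_iff_mul_comm.1 e)).elim hB u1
  have m : ⁅g, a * b⁆ = ⁅g, a⁆ * ⁅g, b⁆ := by
    calc _ = ⁅g, a⁆ * (a * ⁅g, b⁆ * a⁻¹) := by simp only [commutatorElement_def]; group
      _ = _ := by rw [k.cV (k.h2 ha) (k.h8 g hg b hb), mul_inv_cancel_right]
  rcases L34.four_cases k.h3 k.sqV (k.h8 g hg a ha) (n a ha a1) (k.h8 g hg b hb) (n b hb b1.1)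
    (fun e => n _ (mul_mem ha hb) (by rw [← inv_eq_of_sq (k.h6 a ha)]; exact b1.2)
      (by rw [m, e, k.sqV _ (k.h8 g hg a ha)])) hv with e | e | e | e
  exacts [⟨1, one_mem _, by simp [e]⟩, ⟨a, ha, e.symm⟩, ⟨b, hb, e.symm⟩,
    ⟨_, mul_mem ha hb, m.trans e.symm⟩]

theorem exists_inv (hg : g ∈ U) (hB : g ∉ B) : ∃ b ∈ B, g * b * (g * b) = 1 := by
  obtain ⟨b, hb, e⟩ := k.onto (inv_mem hg) (mt inv_mem_iff.1 hB) (inv_mem (k.sq hg))
  refine ⟨b, hb, ?_⟩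
  calc _ = g * g * ⁅g⁻¹, b⁆ * (b * b) := by simp only [commutatorElement_def]; group
    _ = 1 := by rw [e, k.h6 b hb]; group

theorem uniq (hg : g ∈ U) (hB : g ∉ B) (g2 : g * g = 1) (x2 : x * x = 1) (h : g * x ∈ B) :
    g * x ∈ V := by
  refine (k.h9 g hg _ h ?_).resolve_left hB
  nth_rewrite 2 [← inv_eq_of_sq (k.h6 _ h)]
  rw [mul_inv_rev, inv_eq_of_sq x2, inv_eq_of_sq g2, ← mul_assoc, g2, mul_assoc, g2, one_mul, mul_one]

theorem mulE (_ : b ∈ U) (hp : p ∈ U) (e1 : p * a ∈ V) (e2 : q * b ∈ V) (ha : a ∈ U) (hq : q ∈ U) :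
    p * q * (a * b) ∈ V := by
  convert mul_mem (mul_mem (k.ea.nrm p hp _ (k.ea.comm hq ha)) e1) e2 using 1
  simp only [commutatorElement_def]; group

theorem trE (hb : b ∈ U) (e1 : a * b ∈ V) (e2 : b * c ∈ V) : a * c ∈ V := by
  convert mul_mem (mul_mem e1 (inv_mem (k.sq hb))) e2 using 1
  group

theorem sw1 (hp : p ∈ U) (hq : q ∈ U) (_ : r ∈ U) (e : p * q * r * w ∈ V) : q * p * r * w ∈ V := by
  convert mul_mem (k.ea.comm hq hp) e using 1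
  simp only [commutatorElement_def]; group

theorem sw2 (hp : p ∈ U) (hq : q ∈ U) (hr : r ∈ U) (e : p * q * r * w ∈ V) : p * r * q * w ∈ V := by
  convert mul_mem (k.ea.nrm p hp _ (k.ea.comm hr hq)) e using 1
  simp only [commutatorElement_def]; group

theorem cmE (hg : g ∈ U) (e1 : g * a ∈ V) (e2 : g * b ∈ V) : a * b = b * a := by
  have c1 : Commute (g * a) g⁻¹ := (k.cV (inv_mem hg) e1).symm
  have c2 : Commute g⁻¹ (g * b) := k.cV (inv_mem hg) e2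
  have c3 : Commute (g * a) (g * b) := comm_of_sq k.sqV _ e1 _ e2
  have := ((Commute.refl g⁻¹).mul_right c2).mul_left (c1.mul_right c3)
  simpa only [inv_mul_cancel_left] using this.eq

theorem fin (hp : p ∈ U) (hq : q ∈ U) (hr : r ∈ U) (ha : a ∈ U) (hb : b ∈ U) (hc : c ∈ U)
    (e1 : p * a ∈ V) (e2 : q * b ∈ V) (e3 : r * c ∈ V) (e : p * q * r * w ∈ V) :
    a * b * c * w ∈ V := by
  have m := k.mulE hc (mul_mem hp hq) (k.mulE hb hp e1 e2 ha hq) e3 (mul_mem ha hb) hr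
  have hu := mul_mem (mul_mem hp hq) hr
  refine k.trE hu ?_ e
  convert k.ea.nrm _ (inv_mem hu) _ m using 1
  group

theorem nV (hx : x ∈ Ns U) (hB : x ∈ Ns B) : x ∈ Ns V := by
  obtain ⟨g, hg, g1⟩ := L34.exists_not_mem (U := B) (A := U) (by rw [k.h5, k.h4]; omega)
    (by rw [k.h4]; omega)
  have e : V = B ⊓ Cs U := le_antisymm (le_inf k.h1 k.h7) fun b hb =>
    (k.h9 g hg b hb.1 (mem_Cs.1 hb.2 g hg)).resolve_left g1
  exact e ▸ mem_Ns_inf hB (mem_Ns_Cs hx)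

theorem exists_two [Finite G] : ∃ a ∈ U, ∃ c ∈ U, a * a = 1 ∧ c * c = 1 ∧ a ∉ B ∧ c ∉ B ∧ a * c ∉ B ∧
    B ⊔ zpowers c ⊔ zpowers a = U ∧
    ∀ x ∈ U, x ∈ B ∨ a * x ∈ B ∨ c * x ∈ B ∨ c * (a * x) ∈ B := by
  obtain ⟨g, hg, g1⟩ := L34.exists_not_mem (U := B) (A := U) (by rw [k.h5, k.h4]; omega)
    (by rw [k.h4]; omega)
  obtain ⟨b, hb, c2⟩ := k.exists_inv hg g1
  have hc := mul_mem hg (k.h2 hb)
  have c1 : g * b ∉ B := mt (mul_mem_cancel_right hb).1 g1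
  generalize g * b = c at c2 hc c1
  have n1 : ∀ b ∈ B, c * b * c⁻¹ ∈ B := fun _ => k.cjB hc
  have s1 : c * c ∈ B := c2 ▸ one_mem B
  obtain ⟨g', hg', g2⟩ := L34.exists_not_mem (U := B ⊔ zpowers c) (A := U)
    (by rw [card_adj n1 s1 c1, k.h5, k.h4]; omega) (by rw [card_adj n1 s1 c1, k.h4]; omega)
  obtain ⟨b', hb', a2⟩ := k.exists_inv hg' fun e => g2 (mem_sup_left e)
  have ha := mul_mem hg' (k.h2 hb')
  have a1 : g' * b' ∉ B ⊔ zpowers c := mt (mul_mem_cancel_right (mem_sup_left hb')).1 g2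
  generalize g' * b' = a at a2 ha a1
  have l : B ⊔ zpowers c ≤ U := sup_le k.h2 (zpowers_le.2 hc)
  have n2 : ∀ b ∈ B ⊔ zpowers c, a * b * a⁻¹ ∈ B ⊔ zpowers c :=
    conj_of_comm (k.h1.trans le_sup_left) fun b hb => k.ea.comm ha (l hb)
  have s2 : a * a ∈ B ⊔ zpowers c := a2 ▸ one_mem _
  have e : B ⊔ zpowers c ⊔ zpowers a = U := eq_of_le_of_card_ge (sup_le l (zpowers_le.2 ha))
    (by rw [card_adj n2 s2 a1, card_adj n1 s1 c1, k.h4, k.h5])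
  refine ⟨a, ha, c, hc, a2, c2, fun m => a1 (mem_sup_left m), c1, fun m => a1
    ((mul_mem_cancel_right (mem_sup_right (mem_zpowers c))).1 (mem_sup_left m)), e, fun x hx => ?_⟩
  rw [← e, mem_adj n2 s2, mem_adj n1 s1, mem_adj n1 s1, inv_eq_of_sq a2, inv_eq_of_sq c2] at hx
  tauto

theorem tt (ha : a ∈ U) (hc : c ∈ U) (a2 : a * a = 1) (c2 : c * c = 1) (a1 : a ∉ B) (c1 : c ∉ B)
    (ac : a * c ∉ B) (e : B ⊔ zpowers c ⊔ zpowers a = U) (hac : a * c = c * a) :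
    L34.TT U B (V ⊔ zpowers c ⊔ zpowers a) V := by
  have cb : ∀ {g}, g ∈ U → ∀ v ∈ V, ⁅g, v⁆ ∈ (⊥ : Subgroup G) := fun hg v hv =>
    mem_bot.2 (commutatorElement_eq_one_iff_mul_comm.2 (k.cV hg hv))
  have e0 : EA ⊥ V := EA.bot k.sqV
  have c3 : c * c ∈ (⊥ : Subgroup G) := mem_bot.2 c2
  have m := e0.comm_adj (cb hc) c3 (cb ha) (mem_bot.2 (commutatorElement_eq_one_iff_mul_comm.2 hac))
  have e2 := (e0.adj (cb hc) c3).adj m (mem_bot.2 a2)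
  have n1 : ∀ b ∈ V, c * b * c⁻¹ ∈ V := k.ea.nrm c hc
  have s1 : c * c ∈ V := k.sq hc
  have n2 := conj_of_comm bot_le m
  have s2 : a * a ∈ V ⊔ zpowers c := mem_sup_left (k.sq ha)
  have l : V ⊔ zpowers c ⊔ zpowers a ≤ U :=
    sup_le (sup_le k.ea.le (zpowers_le.2 hc)) (zpowers_le.2 ha)
  have i : ∀ x ∈ B, x ∈ V ⊔ zpowers c ⊔ zpowers a → x ∈ V := fun x hx h => by
    rw [mem_adj n2 s2, mem_adj n1 s1, mem_adj n1 s1, inv_eq_of_sq a2, inv_eq_of_sq c2] at h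
    rcases h with (h | h) | h | h
    exacts [h, absurd ((mul_mem_cancel_right hx).1 (k.h1 h)) c1,
      absurd ((mul_mem_cancel_right hx).1 (k.h1 h)) a1,
      absurd ((mul_mem_cancel_right hx).1 (by rw [hac, mul_assoc]; exact k.h1 h)) ac]
  have a3 : a ∉ V ⊔ zpowers c := fun h => ((mem_adj n1 s1).1 h).elim (fun h => a1 (k.h1 h))
    fun h => ac (by rw [hac, ← inv_eq_of_sq c2]; exact k.h1 h)
  refine ⟨k.h6, fun x hx => mem_bot.1 (e2.sq x hx), k.h4, ?_, k.h3, le_antisymm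
    (fun x hx => i x hx.1 hx.2) (le_inf k.h1 (le_sup_left.trans le_sup_left)), le_antisymm
    (sup_le k.h2 l) ?_, fun x hx y hy => k.ea.comm (k.h2 hx) (l hy), fun x hx y hy h =>
      (k.h9 y (l hy) x hx h.symm).elim (fun h => .inr (i y h hy)) .inl⟩
  · rw [card_adj n2 s2 a3, card_adj n1 s1 fun h => c1 (k.h1 h), k.h3]
  · rw [← e]
    exact sup_le (sup_le le_sup_left ((le_sup_right.trans le_sup_left).trans le_sup_right))
      (le_sup_right.trans le_sup_right)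

end Nsg

theorem tt_or [Finite G] (h1 : V ≤ B) (h2 : B ≤ U) (h3 : Nat.card V = 4) (h4 : Nat.card B = 16)
    (h5 : Nat.card U = 64) (h6 : ∀ b ∈ B, b * b = 1) (h7 : V ≤ Cs U)
    (h8 : ∀ p ∈ U, ∀ b ∈ B, ⁅p, b⁆ ∈ V) (h9 : ∀ p ∈ U, ∀ b ∈ B, p * b = b * p → p ∈ B ∨ b ∈ V) :
    (∃ A, L34.TT U B A V) ∨ ∃ w ∈ B, w ∉ V ∧ (∀ x ∈ Ns U, x ∈ Ns B → ⁅x, w⁆ ∈ V) ∧
      ∃ g₁ ∈ U, ∃ g₂ ∈ U, ∃ g₃ ∈ U, g₁ * g₁ = 1 ∧ g₂ * g₂ = 1 ∧ g₃ * g₃ = 1 ∧ g₁ * g₂ * g₃ = w ∧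
        g₁ ∉ B ∧ g₂ ∉ B ∧ g₃ ∉ B ∧ g₁ * g₂ ≠ g₂ * g₁ ∧ g₂ * g₃ ≠ g₃ * g₂ ∧ g₁ * g₃ ≠ g₃ * g₁ ∧
        ∀ x ∈ U, x * x = 1 → x ∈ B ∨ g₁ * x ∈ V ∨ g₂ * x ∈ V ∨ g₃ * x ∈ V := by
  have k : Nsg U B V := ⟨h1, h2, h3, h4, h5, h6, h7, h8, h9⟩
  obtain ⟨a, ha, c, hc, a2, c2, a1, c1, ac, e, hU⟩ := k.exists_two
  by_cases hac : a * c = c * a
  · exact .inl ⟨_, k.tt ha hc a2 c2 a1 c1 ac e hac⟩
  obtain ⟨w, hw, g2⟩ := k.exists_inv (inv_mem (mul_mem ha hc)) (mt inv_mem_iff.1 ac)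
  have hg := mul_mem (inv_mem (mul_mem ha hc)) (h2 hw)
  have g1 : (a * c)⁻¹ * w ∉ B := mt (fun m => inv_mem_iff.1 ((mul_mem_cancel_right hw).1 m)) ac
  have ew : a * c * ((a * c)⁻¹ * w) = w := mul_inv_cancel_left _ _
  generalize (a * c)⁻¹ * w = g at g2 hg g1 ew
  have sq : ∀ {s t : G}, s * s = 1 → t * t = 1 → s * t = t * s → s * t * (s * t) = 1 :=
    fun {s t} s2 t2 h => by rw [mul_assoc, ← mul_assoc t, ← h, mul_assoc s, t2, mul_one, s2]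
  have w1 : w ∉ V := fun m => hac (by
    have e1 : a * c = w * g := by rw [← ew, mul_assoc _ g, g2, mul_one]
    have e2 := sq (k.sqV w m) g2 (k.cV hg m).symm
    rw [← e1] at e2
    rw [eq_inv_of_mul_eq_one_left e2, mul_inv_rev, inv_eq_of_sq a2, inv_eq_of_sq c2])
  have n2 : c * g ≠ g * c := fun h => w1 (by
    rw [← ew, mul_assoc]; exact k.uniq ha a1 a2 (sq c2 g2 h) (by rwa [← mul_assoc, ew]))
  have n3 : a * g ≠ g * a := fun h => w1 (by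
    have e1 : c * (a * g) = ⁅c, a⁆ * w := by rw [← ew, commutatorElement_def]; group
    have m := k.ea.comm hc ha
    have := k.uniq hc c1 c2 (sq a2 g2 h) (e1 ▸ mul_mem (h1 m) hw)
    rwa [e1, mul_mem_cancel_left m] at this)
  have cl : ∀ x ∈ U, x * x = 1 → x ∈ B ∨ a * x ∈ V ∨ c * x ∈ V ∨ g * x ∈ V := fun x hx x2 => by
    refine (hU x hx).imp_right (Or.imp (k.uniq ha a1 a2 x2) (Or.imp (k.uniq hc c1 c2 x2)
      fun m => k.uniq hg g1 g2 x2 ?_))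
    convert mul_mem m (k.cjB (inv_mem hx) hw) using 1
    rw [← ew]
    calc _ = c * (a * a) * c * g * x := by rw [a2, mul_one, c2, one_mul]
      _ = _ := by group
  refine .inr ⟨w, hw, w1, fun x hx hB => ?_, a, ha, c, hc, g, hg, a2, c2, g2, ew, a1, c1, g1, hac,
    n2, n3, cl⟩
  have cj2 : ∀ {s : G}, s ∈ U → s * s = 1 → s ∉ B →
      a * (x * s * x⁻¹) ∈ V ∨ c * (x * s * x⁻¹) ∈ V ∨ g * (x * s * x⁻¹) ∈ V := fun {s} hs s2 s1 =>
    (cl _ (mem_normalizer_conj hx hs) (by rw [conj_mul', s2]; group)).resolve_left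
      fun m => s1 ((mem_normalizer_iff.1 hB s).2 m)
  have nc : ∀ {s t u : G}, s * t ≠ t * s → u ∈ U → u * (x * s * x⁻¹) ∈ V → u * (x * t * x⁻¹) ∈ V →
      False := fun {s t u} h hu m1 m2 => h (by
    have := k.cmE hu m1 m2
    rwa [conj_mul', conj_mul', mul_left_inj, mul_right_inj] at this)
  have w0 : a * c * g * w ∈ V := by rw [ew, h6 w hw]; exact one_mem _
  have fn : ∀ {p q r : G}, p ∈ U → q ∈ U → r ∈ U → p * (x * a * x⁻¹) ∈ V → q * (x * c * x⁻¹) ∈ V →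
      r * (x * g * x⁻¹) ∈ V → p * q * r * w ∈ V → ⁅x, w⁆ ∈ V := fun hp hq hr e1 e2 e3 e4 => by
    have := k.fin hp hq hr (mem_normalizer_conj hx ha) (mem_normalizer_conj hx hc)
      (mem_normalizer_conj hx hg) e1 e2 e3 e4
    rwa [commutatorElement_def, inv_eq_of_sq (h6 w hw), ← ew, ← conj_mul', ← conj_mul', ew]
  rcases cj2 ha a2 a1 with p | p | p <;> rcases cj2 hc c2 c1 with q | q | q <;>
    rcases cj2 hg g2 g1 with r | r | r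
  all_goals first
    | exact (nc hac (by assumption) p q).elim
    | exact (nc n2 (by assumption) q r).elim
    | exact (nc n3 (by assumption) p r).elim
    | skip
  exacts [fn ha hc hg p q r w0, fn ha hg hc p q r (k.sw2 ha hc hg w0),
    fn hc ha hg p q r (k.sw1 ha hc hg w0), fn hc hg ha p q r (k.sw2 hc ha hg (k.sw1 ha hc hg w0)),
    fn hg ha hc p q r (k.sw1 ha hg hc (k.sw2 ha hc hg w0)),
    fn hg hc ha p q r (k.sw1 hc hg ha (k.sw2 hc ha hg (k.sw1 ha hc hg w0)))]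

end Cfsg.Lib.GHM
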