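import Cfsg.Agent.GHM.D16

/-!
# Coordinates on an elementary abelian section and quadratic maps on `E₁₆`
-/

set_option autoImplicit false
set_option linter.unusedSectionVars false

namespace Cfsg.Lib.GHM.PzC

open Subgroup Cfsg.Lib.Trans Cfsg.Lib.Gold Cfsg.Lib.GHB
open scoped commutatorElement

universe u

section alg

variable {V W : Type*} [AddCommGroup V] [AddCommGroup W] {q : V → W} {b : V → V → W}
  {E X T : V ≃+ V} {a c : V}

/-- A quadratic map on an elementary abelian group of order sixteen. -/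
structure QD (q : V → W) (b : V → V → W) : Prop where
  twoV : ∀ v : V, v + v = 0
  twoW : ∀ w : W, w + w = 0
  card : Nat.card V = 16
  q_add : ∀ v w, q (v + w) = q v + q w + b v w
  b_add : ∀ u v w, b u (v + w) = b u v + b u w

theorem eq_of_add {V : Type*} [AddCommGroup V] (h : ∀ v : V, v + v = 0) {v w : V} :
    v + w = 0 ↔ v = w := ⟨fun e => add_right_cancel (e.trans (h w).symm), fun e => e ▸ h v⟩

namespace QD

variable (h : QD q b)
include h

theorem b_eq (v w : V) : b v w = q (v + w) + q v + q w := by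
  rw [h.q_add, show q v + q w + b v w + q v + q w = b v w + (q v + q v) + (q w + q w) by abel,
    h.twoW, h.twoW, add_zero, add_zero]

theorem b_comm (v w : V) : b v w = b w v := by rw [h.b_eq, h.b_eq, add_comm v, add_right_comm]

theorem b_zero (v : V) : b v 0 = 0 := by simpa using h.b_add v 0 0

theorem q_zero : q 0 = 0 := by simpa [h.b_zero, h.twoW] using h.q_add 0 0

theorem b_self (v : V) : b v v = 0 := by rw [h.b_eq, h.twoV, h.q_zero, zero_add, h.twoW]

theorem b_add' (u v w : V) : b (u + v) w = b u w + b v w := by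
  rw [h.b_comm, h.b_add, h.b_comm w, h.b_comm w]

theorem b_inv (hq : ∀ v, q (E v) = q v) (v w : V) : b (E v) (E w) = b v w := by
  rw [h.b_eq, h.b_eq, ← map_add, hq, hq, hq]

theorem span (a₀ a₁ a₂ a₃ : V) : ∃ φ : (Fin 4 → ZMod 2) →+ V, φ ![1, 0, 0, 0] = a₀ ∧
    φ ![0, 1, 0, 0] = a₁ ∧ φ ![0, 0, 1, 0] = a₂ ∧ φ ![0, 0, 0, 1] = a₃ ∧
    ((∀ c, φ c = 0 → c = 0) → Function.Surjective φ) := by
  let : Module (ZMod 2) V := AddCommGroup.zmodModule fun v => by rw [two_smul, h.twoV]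
  have : Finite V := Nat.finite_of_card_ne_zero (by rw [h.card]; norm_num)
  refine ⟨AddMonoidHom.mk' (fun c => c 0 • a₀ + c 1 • a₁ + c 2 • a₂ + c 3 • a₃) fun c d => by
    simp only [Pi.add_apply, add_smul]; abel, by simp, by simp, by simp, by simp, fun k => ?_⟩
  exact ((Nat.bijective_iff_injective_and_card _).2
    ⟨(injective_iff_map_eq_zero _).2 k, by rw [h.card]; simp⟩).2

end QD

/-- The companion matrix. -/
def R5 (c : Fin 4 → ZMod 2) : Fin 4 → ZMod 2 := ![c 3, c 0 + c 3, c 1 + c 3, c 2 + c 3]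

theorem R5_add (c d : Fin 4 → ZMod 2) : R5 (c + d) = R5 c + R5 d := by
  funext i; fin_cases i <;> simp [R5] <;> ring

theorem R5_orb : ∀ c : Fin 4 → ZMod 2, c = 0 ∨ ∃ i : Fin 5, c = R5^[i] ![1, 0, 0, 0] ∨
    c = R5^[i] (![1, 0, 0, 0] + ![0, 1, 0, 0]) ∨ c = R5^[i] (![1, 0, 0, 0] + ![0, 0, 1, 0]) := by
  decide +kernel

theorem c_ind (P : (Fin 4 → ZMod 2) → Prop) (h0 : P 0) (h1 : P ![1, 0, 0, 0]) (h2 : P ![0, 1, 0, 0])
    (h3 : P ![0, 0, 1, 0]) (h4 : P ![0, 0, 0, 1]) (h : ∀ c d, P c → P d → P (c + d))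
    (c : Fin 4 → ZMod 2) : P c := by
  have k : ∀ (a : ZMod 2) x, P x → P (a • x) := fun a x hx => by
    rcases (show a = 0 ∨ a = 1 by revert a; decide) with rfl | rfl
    · rwa [zero_smul]
    · rwa [one_smul]
  have := h _ _ (h _ _ (h _ _ (k (c 0) _ h1) (k (c 1) _ h2)) (k (c 2) _ h3)) (k (c 3) _ h4)
  rwa [show c 0 • ![1, 0, 0, 0] + c 1 • ![0, 1, 0, 0] + c 2 • ![0, 0, 1, 0] + c 3 • ![0, 0, 0, 1] = c
    from funext fun i => by fin_cases i <;> simp] at this

/-- An automorphism of order five. -/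
theorem QD.five (h : QD q b) (h5 : ∀ v, E (E (E (E (E v)))) = v) (fp : ∀ v, E v = v → v = 0)
    (hq : ∀ v, q (E v) = q v) (ha : a ≠ 0) (hc : c = E a + E (E (E (E a)))) :
    c ≠ 0 ∧ a + c ≠ 0 ∧ b a c = 0 ∧ ∀ v, v ≠ 0 → q v = q a ∨ q v = q c ∨ q v = q a + q c := by
  have fp2 : ∀ v, E (E v) = v → v = 0 := fun v e => fp v (by
    have := h5 v
    rwa [e, e] at this)
  have s0 : a + E a + E (E a) + E (E (E a)) + E (E (E (E a))) = 0 :=
    fp _ (by simp only [map_add, h5]; abel)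
  have s4 : E (E (E (E a))) = a + E a + E (E a) + E (E (E a)) := ((eq_of_add h.twoV).1 s0).symm
  have n1 : a + E a ≠ 0 := fun e => ha (fp a ((eq_of_add h.twoV).1 e).symm)
  have n2 : a + E (E a) ≠ 0 := fun e => ha (fp2 a ((eq_of_add h.twoV).1 e).symm)
  have e1 : c = E (E (E (E (a + E (E a))))) := by simp only [hc, map_add, h5]; abel
  have e2 : a + c = E (E (a + E a)) := by
    rw [hc, s4, map_add, map_add, show a + (E a + (a + E a + E (E a) + E (E (E a)))) =
      (a + a) + (E a + E a) + (E (E a) + E (E (E a))) by abel, h.twoV, h.twoV, zero_add, zero_add]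
  have e3 : b a c = 0 := by
    rw [hc, h.b_add, ← h.b_inv hq a (E (E (E (E a)))), h5, h.b_comm (E a), h.twoW]
  refine ⟨by simpa only [e1, ne_eq, EmbeddingLike.map_eq_zero_iff] using n2,
    by simpa only [e2, ne_eq, EmbeddingLike.map_eq_zero_iff] using n1, e3, fun v hv => ?_⟩
  obtain ⟨φ, p0, p1, p2, p3, hs⟩ := h.span a (E a) (E (E a)) (E (E (E a)))
  have r1 : ∀ c, φ (R5 c) = E (φ c) := c_ind _ (by rw [show R5 0 = 0 by decide]; simp)
    (by rw [p0, ← p1]; rfl) (by rw [p1, ← p2]; rfl) (by rw [p2, ← p3]; rfl)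
    (by rw [p3, s4, ← p3, ← p2, ← p1, ← p0, ← map_add, ← map_add, ← map_add]; congr 1; decide)
    fun c d hc hd => by rw [R5_add, map_add, map_add, map_add, hc, hd]
  have r2 : ∀ (i : ℕ) c, q (φ (R5^[i] c)) = q (φ c) ∧ (φ (R5^[i] c) = 0 → φ c = 0) := fun i c => by
    induction i with
    | zero => exact ⟨rfl, id⟩
    | succ i ih =>
      rw [Function.iterate_succ_apply', r1, hq]
      exact ⟨ih.1, fun e => ih.2 (by simpa using e)⟩
  obtain ⟨x, rfl⟩ := hs (fun x e => by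
    rcases R5_orb x with k | ⟨i, rfl | rfl | rfl⟩
    · exact k
    · exact absurd (p0 ▸ (r2 _ _).2 e) ha
    · exact absurd (by simpa only [map_add, p0, p1] using (r2 _ _).2 e) n1
    · exact absurd (by simpa only [map_add, p0, p2] using (r2 _ _).2 e) n2) v
  rcases R5_orb x with rfl | ⟨i, rfl | rfl | rfl⟩
  · exact absurd (map_zero φ) hv
  · exact .inl (by rw [(r2 _ _).1, p0])
  · refine .inr (.inr ?_)
    rw [(r2 _ _).1, map_add, p0, p1, ← hq, ← hq, ← e2, h.q_add, e3, add_zero]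
  · exact .inr (.inl (by rw [(r2 _ _).1, map_add, p0, p2, e1, hq, hq, hq, hq]))

/-- The orbit under an automorphism of order three. -/
def Orb (E : V ≃+ V) (a w : V) : Prop := w = a ∨ w = E a ∨ w = E (E a)

theorem three_sum (h3 : ∀ v, E (E (E v)) = v) (fp : ∀ v, E v = v → v = 0) (v : V) :
    v + E v + E (E v) = 0 := fp _ (by simp only [map_add, h3]; abel)

theorem Orb.fix (hX : ∀ v, X (E v) = E (X v)) (ha : X a = a) {w : V} (hw : Orb E a w) : X w = w := by
  rcases hw with rfl | rfl | rfl <;> simp only [hX, ha]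

theorem Orb.q_eq (hq : ∀ v, q (E v) = q v) {w : V} (hw : Orb E a w) : q w = q a := by
  rcases hw with rfl | rfl | rfl <;> simp only [hq]

/-- Two commuting automorphisms of order three. -/
theorem QD.nine (h : QD q b) (h3 : ∀ v, E (E (E v)) = v) (fp : ∀ v, E v = v → v = 0)
    (hX : ∀ v, X (E v) = E (X v)) (ha : a ≠ 0) (hc : c ≠ 0) (ha' : X a = a) (hc' : X (E c) = c)
    (v : V) : ∃ w w', (w = 0 ∨ Orb E a w) ∧ (w' = 0 ∨ Orb E c w') ∧ v = w + w' := by
  obtain ⟨φ, p0, p1, p2, p3, hs⟩ := h.span a (E a) c (E c)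
  have s : ∀ v, v + E v = E (E v) := fun v => (eq_of_add h.twoV).1 (three_sum h3 fp v)
  have key : ∀ x : Fin 4 → ZMod 2, ∃ y y', x = y + y' ∧ (y = 0 ∨ Orb E a (φ y)) ∧
      (y' = 0 ∨ Orb E c (φ y')) := fun x => by
    have k := (by decide : ∀ a b : ZMod 2, ![a, b, 0, 0] = 0 ∨ ![a, b, 0, 0] = ![1, 0, 0, 0] ∨
      ![a, b, 0, 0] = ![0, 1, 0, 0] ∨ ![a, b, 0, 0] = ![1, 0, 0, 0] + ![0, 1, 0, 0]) (x 0) (x 1)
    have k' := (by decide : ∀ a b : ZMod 2, ![0, 0, a, b] = 0 ∨ ![0, 0, a, b] = ![0, 0, 1, 0] ∨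
      ![0, 0, a, b] = ![0, 0, 0, 1] ∨ ![0, 0, a, b] = ![0, 0, 1, 0] + ![0, 0, 0, 1]) (x 2) (x 3)
    refine ⟨_, _, funext fun i => by fin_cases i <;> simp, k.imp_right ?_, k'.imp_right ?_⟩ <;>
      rintro (e | e | e) <;> simp only [e, Orb, map_add, p0, p1, p2, p3, s, true_or, or_true]
  have nz : ∀ a w, a ≠ 0 → Orb E a w → w ≠ 0 := by
    rintro a w ha (rfl | rfl | rfl) <;> simpa using ha
  obtain ⟨x, rfl⟩ := hs (fun x e => by
    obtain ⟨y, y', rfl, k, k'⟩ := key x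
    rw [map_add, eq_of_add h.twoV] at e
    rcases k with rfl | k <;> rcases k' with rfl | k'
    · exact add_zero 0
    · exact absurd (e.symm.trans (map_zero φ)) (nz _ _ hc k')
    · exact absurd (e.trans (map_zero φ)) (nz _ _ ha k)
    have h1 := k.fix hX ha'
    have h2 : X (E _) = _ := k'.fix (X := E.trans X) (fun v => hX (E v)) hc'
    rw [← e, hX, h1] at h2
    exact absurd (fp _ h2) (nz _ _ ha k)) v
  obtain ⟨y, y', rfl, k, k'⟩ := key x
  exact ⟨φ y, φ y', k.imp_left fun e => by rw [e, map_zero], k'.imp_left fun e => by rw [e, map_zero],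
    map_add φ _ _⟩

theorem QD.nine_b (h : QD q b) (h3 : ∀ v, E (E (E v)) = v) (fp : ∀ v, E v = v → v = 0)
    (hX : ∀ v, X (E v) = E (X v)) (hq : ∀ v, q (X v) = q v) {w w' : V} (h1 : X w = w)
    (h2 : X (E w') = w') : b w w' = 0 := by
  have e1 : b w (E w') = b w w' := by rw [← h.b_inv hq, h1, h2]
  have e2 : b w (E (E w')) = b w (E w') := by rw [← h.b_inv hq, h1, hX, h2]
  have := h.b_zero w
  rwa [← three_sum h3 fp w', h.b_add, h.b_add, e2, e1, h.twoW, zero_add] at this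

theorem QD.b_three (h : QD q b) (h3 : ∀ v, E (E (E v)) = v) (fp : ∀ v, E v = v → v = 0)
    (hq : ∀ v, q (E v) = q v) (v : V) : b v (E v) = q v := by
  rw [h.b_eq, (eq_of_add h.twoV).1 (three_sum h3 fp v), hq, hq, h.twoW, zero_add]

/-- The fixed points of an involution inverting a fixed point free automorphism. -/
theorem QD.fixT (h : QD q b) (hT : ∀ v, T (T v) = v) (fp : ∀ v, E (E v) = v → v = 0)
    (hi : ∀ v, E (T (E v)) = T v) {v : V} (hv : T v = v) : ∃ w, v = w + T w := by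
  have : Finite V := Nat.finite_of_card_ne_zero (by rw [h.card]; norm_num)
  let f : V →+ V := AddMonoidHom.id V + T.toAddMonoidHom
  have hk : ∀ v, v ∈ f.ker ↔ T v = v := fun v => (eq_of_add h.twoV).trans eq_comm
  have h1 : f.range ≤ f.ker := by
    rintro _ ⟨w, rfl⟩
    exact (hk _).2 (by change T (w + T w) = w + T w; rw [map_add, hT, add_comm])
  have h2 := Nat.card_le_card_of_injective (fun p : f.ker × f.ker => p.1.1 + E p.2.1) (by
    rintro ⟨x, y⟩ ⟨x', y'⟩ e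
    have e1 : x.1 + x'.1 = E (y.1 + y'.1) := by
      rw [← eq_of_add h.twoV, map_add, add_add_add_comm]
      exact (eq_of_add h.twoV).2 e
    have e2 := hi (y.1 + y'.1)
    rw [← e1, (hk _).1 (add_mem x.2 x'.2), (hk _).1 (add_mem y.2 y'.2), e1] at e2
    have e3 := fp _ e2
    rw [e3, map_zero] at e1
    exact Prod.ext (Subtype.ext ((eq_of_add h.twoV).1 e1)) (Subtype.ext ((eq_of_add h.twoV).1 e3)))
  have h3 := f.ker.card_mul_index
  rw [AddSubgroup.index_ker, h.card] at h3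
  rw [Nat.card_prod, h.card] at h2
  have h4 : f.range = f.ker := AddSubgroup.eq_of_le_of_card_ge h1 (by nlinarith)
  obtain ⟨w, e⟩ := h4.ge ((hk v).2 hv)
  exact ⟨w, e.symm⟩

theorem QD.exists_fix (h : QD q b) (hT : ∀ v, T (T v) = v) (hi : ∀ v, X (T (X v)) = T v)
    (ha : a ≠ 0) (ha' : X a = a) : ∃ a, a ≠ 0 ∧ X a = a ∧ T a = a := by
  by_cases e : a = T a
  · exact ⟨a, ha, ha', e.symm⟩
  have := hi a
  rw [ha'] at this
  exact ⟨a + T a, fun k => e ((eq_of_add h.twoV).1 k), by rw [map_add, ha', this],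
    by rw [map_add, hT, add_comm]⟩

theorem QD.exists_ne (h : QD q b) : ∃ a : V, a ≠ 0 := by
  have : Finite V := Nat.finite_of_card_ne_zero (by rw [h.card]; norm_num)
  have : Nontrivial V := Finite.one_lt_card_iff_nontrivial.1 (by rw [h.card]; norm_num)
  exact _root_.exists_ne 0

theorem QD.five' (h : QD q b) (h5 : ∀ v, E (E (E (E (E v)))) = v) (fp : ∀ v, E v = v → v = 0)
    (hq : ∀ v, q (E v) = q v) (hT : ∀ v, T (T v) = v) (hi : ∀ v, E (T (E v)) = T v) :
    ∃ a c, T a = a ∧ T c = c ∧ a ≠ 0 ∧ c ≠ 0 ∧ a + c ≠ 0 ∧ b a c = 0 ∧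
      ∀ v, v ≠ 0 → q v = q a ∨ q v = q c ∨ q v = q a + q c := by
  obtain ⟨a, ha⟩ := h.exists_ne
  obtain ⟨a, ha, -, Ta⟩ := h.exists_fix (X := .refl V) hT (fun _ => rfl) ha rfl
  have e : T (E a) = E (E (E (E a))) := by rw [← h5 (T (E a)), hi, Ta]
  exact ⟨a, _, Ta, by rw [← e, map_add, hT, add_comm], ha, h.five h5 fp hq ha rfl⟩

/-- Two of `X`, `X E`, `X E²` have fixed points. -/
theorem QD.two_fix (h : QD q b) (h3 : ∀ v, E (E (E v)) = v) (fp : ∀ v, E v = v → v = 0)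
    (hX : ∀ v, X (E v) = E (X v)) (x3 : ∀ v, X (X (X v)) = v) (n0 : ¬ ∀ v, X v = v)
    (n1 : ¬ ∀ v, X (E v) = v) (n2 : ¬ ∀ v, X (E (E v)) = v) :
    ((∃ a, a ≠ 0 ∧ X a = a) ∧ ∃ a, a ≠ 0 ∧ X (E a) = a) ∨
      ((∃ a, a ≠ 0 ∧ X (E a) = a) ∧ ∃ a, a ≠ 0 ∧ X (E (E a)) = a) ∨
      ((∃ a, a ≠ 0 ∧ X (E (E a)) = a) ∧ ∃ a, a ≠ 0 ∧ X a = a) := by
  have k : ∀ Y : V ≃+ V, (∀ v, Y (Y (Y v)) = v) →
      (∃ a, a ≠ 0 ∧ Y a = a) ∨ (∀ v, v + Y v + Y (Y v) = 0) := fun Y y3 => by
    refine or_iff_not_imp_left.2 fun n => three_sum y3 fun v e => by_contra fun k => n ⟨v, k, e⟩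
  have k' : ∀ Y : V ≃+ V, (∀ v, v + Y v + Y (Y v) = v) → ∀ v, Y v = v := fun Y e v => by
    have := e v
    rw [add_assoc, add_eq_left, eq_of_add h.twoV] at this
    exact (Y.injective this).symm
  have s : ∀ v, (v + X v + X (X v)) + (v + X (E v) + X (E (X (E v)))) +
      (v + X (E (E v)) + X (E (E (X (E (E v)))))) = v := fun v => by
    have e1 := three_sum h3 fp (X v)
    have e2 := three_sum h3 fp (X (X v))
    simp only [hX, h3]
    rw [show v + X v + X (X v) + (v + E (X v) + E (E (X (X v)))) + (v + E (E (X v)) + E (X (X v))) =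
      v + (v + v) + (X v + E (X v) + E (E (X v))) + (X (X v) + E (X (X v)) + E (E (X (X v)))) by abel,
      e1, e2, h.twoV, add_zero, add_zero, add_zero]
  rcases k X x3 with a0 | a0 <;>
    rcases k (E.trans X) (fun v => by simp only [AddEquiv.trans_apply, hX, h3, x3]) with a1 | a1 <;>
    rcases k ((E.trans E).trans X) (fun v => by simp only [AddEquiv.trans_apply, hX, h3, x3])
      with a2 | a2 <;> simp only [AddEquiv.trans_apply] at a1 a2
  · exact .inl ⟨a0, a1⟩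
  · exact .inl ⟨a0, a1⟩
  · exact .inr (.inr ⟨a2, a0⟩)
  · exact absurd (k' X fun v => by simpa only [a1, a2, add_zero] using s v) n0
  · exact .inr (.inl ⟨a1, a2⟩)
  · exact absurd (k' (E.trans X) fun v => by
      simpa only [AddEquiv.trans_apply, a0, a2, add_zero, zero_add] using s v) n1
  · exact absurd (k' ((E.trans E).trans X) fun v => by
      simpa only [AddEquiv.trans_apply, a0, a1, zero_add] using s v) n2
  · obtain ⟨v, hv⟩ := h.exists_ne
    exact absurd (by simpa only [a0, a1, a2, add_zero] using (s v).symm) hv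

theorem QD.nine' (h : QD q b) (h3 : ∀ v, E (E (E v)) = v) (fp : ∀ v, E v = v → v = 0)
    (hX : ∀ v, X (E v) = E (X v)) (hq : ∀ v, q (E v) = q v) (hq' : ∀ v, q (X v) = q v)
    (hi : ∀ v, E (T (E v)) = T v) (ha : a ≠ 0) (hc : c ≠ 0) (ha' : X a = a) (hc' : X (E c) = c)
    (Ta : T a = a) (Tc : T c = c) (nd : ∀ v, (∀ w, b v w = 0) → v = 0) (p : V → Prop)
    (p0 : p (a + c)) (pE : ∀ v, p v → p (E v)) (pX : ∀ v, p v → p (X v)) :
    a + c ≠ 0 ∧ b a c = 0 ∧ q a ≠ 0 ∧ q c ≠ 0 ∧ ∀ v, v ≠ 0 → q v = q a ∨ q v = q c ∨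
      (q v = q a + q c ∧ p v ∧ (T v = v → v = a + c)) := by
  have z0 : ∀ w, X w = w → X (E w) = w → w = 0 := fun w e1 e2 => fp w (by rwa [hX, e1] at e2)
  have fa : ∀ w, w = 0 ∨ Orb E a w → X w = w := by
    rintro w (rfl | k)
    exacts [map_zero X, k.fix hX ha']
  have fc : ∀ w, w = 0 ∨ Orb E c w → X (E w) = w := by
    rintro w (rfl | k)
    exacts [by simp, k.fix (X := E.trans X) (fun v => hX (E v)) hc']
  have bb := fun w w' => h.nine_b (w := w) (w' := w') h3 fp hX hq'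
  have rad : ∀ v w, q v = 0 → w = 0 ∨ Orb E v w → b v w = 0 := by
    rintro v w e (rfl | rfl | rfl | rfl)
    exacts [h.b_zero v, h.b_self _, (h.b_three h3 fp hq v).trans e,
      by rw [← h.b_inv hq, h3, h.b_comm, h.b_three h3 fp hq, e]]
  have TE : ∀ v, T (E v) = E (E (T v)) := fun v => by rw [← h3 (T (E v)), hi]
  have oT : ∀ a w, a ≠ 0 → T a = a → Orb E a w → Orb E a (T w) ∧ (T w = w → w = a) := by
    rintro a w ha Ta (rfl | rfl | rfl) <;> simp only [TE, Ta, h3, Orb, true_or, or_true, true_and]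
    · exact id
    · exact fun e => absurd (fp _ (E.injective e)) ha
    · exact fun e => absurd (fp _ (E.injective e).symm) ha
  have k1 : ∀ w w', X w = w → X (E w') = w' → p (w + w') → p (E w + w') := fun w w' e e' k => by
    simpa only [map_add, e', hX w, e] using pX _ (pE _ k)
  have k2 : ∀ w w', X w = w → X (E w') = w' → p (w + w') → p (w + E w') := fun w w' e e' k => by
    have e1 : X (E (E w')) = E w' := by rw [hX, e']
    have e2 : X (E w) = E w := by rw [hX, e]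
    simpa only [h3] using k1 (E (E w)) _ (by rw [hX, e2]) e1 (k1 (E w) _ e2 e1
      (map_add E _ _ ▸ pE _ k))
  refine ⟨fun e => ha (z0 a ha' (by rwa [(eq_of_add h.twoV).1 e])), bb _ _ ha' hc',
    fun e => ha (nd a fun v => ?_), fun e => hc (nd c fun v => ?_), fun v hv => ?_⟩ <;>
    obtain ⟨w, w', k, k', rfl⟩ := h.nine h3 fp hX ha hc ha' hc' v
  · rw [h.b_add, rad a w e k, bb _ _ ha' (fc _ k'), add_zero]
  · rw [h.b_add, rad c w' e k', h.b_comm, bb _ _ (fa _ k) hc', add_zero]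
  have e := h.q_add w w'
  rw [bb _ _ (fa _ k) (fc _ k'), add_zero] at e
  rcases k with rfl | k <;> rcases k' with rfl | k'
  · exact absurd (add_zero 0) hv
  · exact .inr (.inl (by rw [zero_add, k'.q_eq hq]))
  · exact .inl (by rw [add_zero, k.q_eq hq])
  refine .inr (.inr ⟨by rw [e, k.q_eq hq, k'.q_eq hq], ?_, fun e => ?_⟩)
  · have c1 : X (E (E c)) = E c := by rw [hX, hc']
    have : p (a + w') := by
      rcases k' with rfl | rfl | rfl
      exacts [p0, k2 _ _ ha' hc' p0, k2 _ _ ha' c1 (k2 _ _ ha' hc' p0)]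
    have c2 := fc _ (.inr k')
    rcases k with rfl | rfl | rfl
    exacts [this, k1 _ _ ha' c2 this, k1 _ _ (by rw [hX, ha']) c2 (k1 _ _ ha' c2 this)]
  have e1 : T w + w = T w' + w' := by
    rw [← eq_of_add h.twoV, add_add_add_comm, ← map_add, e, h.twoV]
  have e2 : T w + w = 0 := z0 _ (by rw [map_add, fa _ (.inr k), fa _ (.inr (oT a w ha Ta k).1)])
    (by rw [e1, map_add, map_add, fc _ (.inr k'), fc _ (.inr (oT c w' hc Tc k').1)])
  rw [(oT a w ha Ta k).2 ((eq_of_add h.twoV).1 e2),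
    (oT c w' hc Tc k').2 ((eq_of_add h.twoV).1 (e1 ▸ e2))]

theorem QD.q_triv (h : QD q b) (fp : ∀ v, E v = v → v = 0) (hq : ∀ v, q (E v) = q v)
    (hb : ∀ v w, b v w = 0) (v : V) : q v = 0 := by
  have : Finite V := Nat.finite_of_card_ne_zero (by rw [h.card]; norm_num)
  obtain ⟨w, rfl⟩ := Finite.surjective_of_injective ((injective_iff_map_eq_zero
    (AddMonoidHom.id V + E.toAddMonoidHom)).2 fun w e => fp w ((eq_of_add h.twoV).1 e).symm) v
  change q (w + E w) = 0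
  rw [h.q_add, hq, hb, h.twoW, add_zero]

end alg

variable {G : Type u} [Group G] {Z P : Subgroup G}

/-- Coordinates on the section `P / Z`. -/
structure Sc (Z P : Subgroup G) {V : Type u} [AddCommGroup V] (π : G → V) (A : G → V ≃+ V) :
    Prop where
  mul : ∀ {x y}, x ∈ P → y ∈ P → π (x * y) = π x + π y
  zero : ∀ {x}, x ∈ P → (π x = 0 ↔ x ∈ Z)
  sur : ∀ v, ∃ x ∈ P, π x = v
  card : Nat.card V * Nat.card Z = Nat.card P
  two : ∀ v : V, v + v = 0
  act : ∀ {n x}, n ∈ Ns P → x ∈ P → π (n * x * n⁻¹) = A n (π x)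

theorem exists_sc (hE : EA Z P) (hN : Ns P ≤ Ns Z) :
    ∃ (V : Type u) (_ : AddCommGroup V) (π : G → V) (A : G → V ≃+ V), Sc Z P π A := by
  classical
  have : (Z.subgroupOf P).Normal := ⟨fun k hk x => hE.nrm x x.2 k hk⟩
  let : CommGroup (P ⧸ Z.subgroupOf P) := { (inferInstance : Group (P ⧸ Z.subgroupOf P)) with
    mul_comm := fun a b => QuotientGroup.induction_on a fun a => QuotientGroup.induction_on b fun b =>
      QuotientGroup.eq.2 (by simpa [mem_subgroupOf, commutatorElement_def, mul_assoc] using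
        (hE.comm (inv_mem b.2) (inv_mem a.2) :)) }
  have he : ∀ (n : G) (h : n ∈ Ns P), (Z.subgroupOf P).map (P.normalizerMonoidHom ⟨n, h⟩ : P ≃* P) =
      Z.subgroupOf P := fun n h => by
    ext x
    refine mem_map_equiv.trans ?_
    rw [mem_subgroupOf, mem_subgroupOf, mem_normalizer_iff.1 (hN h)]
    simp [mul_assoc]
  refine ⟨Additive (P ⧸ Z.subgroupOf P), inferInstance,
    fun x => if h : x ∈ P then Additive.ofMul (QuotientGroup.mk ⟨x, h⟩) else 0,
    fun n => if h : n ∈ Ns P then MulEquiv.toAdditive (QuotientGroup.congr _ _ _ (he n h)) else .refl _,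
    fun hx hy => ?_, fun hx => ?_, fun v => ?_, ?_, fun v => ?_, fun hn hx => ?_⟩
  · rw [dif_pos hx, dif_pos hy, dif_pos (mul_mem hx hy)]; rfl
  · rw [dif_pos hx]; exact QuotientGroup.eq_one_iff _
  · obtain ⟨x, e⟩ := QuotientGroup.mk_surjective (Additive.toMul v)
    exact ⟨x, x.2, by rw [dif_pos x.2]; exact e⟩
  · exact Solv.relIndex_mul_card_of_le hE.le
  · obtain ⟨x, e⟩ := QuotientGroup.mk_surjective (Additive.toMul v)
    change Additive.toMul v * Additive.toMul v = 1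
    rw [← e]
    exact (QuotientGroup.eq_one_iff _).2 (hE.sq x x.2)
  · rw [dif_pos hx, dif_pos hn, dif_pos (mem_normalizer_conj hn hx)]; rfl

namespace Sc

variable {V : Type u} [AddCommGroup V] {π : G → V} {A : G → V ≃+ V} (h : Sc Z P π A)
  {x y n m : G}
include h

theorem inv (hx : x ∈ P) : π x⁻¹ = π x := by
  rw [← eq_of_add h.two, ← h.mul (inv_mem hx) hx, inv_mul_cancel, h.zero (one_mem _)]
  exact one_mem _

theorem eq_iff (hx : x ∈ P) (hy : y ∈ P) : π x = π y ↔ x * y⁻¹ ∈ Z := by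
  rw [← h.zero (mul_mem hx (inv_mem hy)), h.mul hx (inv_mem hy), h.inv hy, eq_of_add h.two]

theorem eq_iff' (hx : x ∈ P) (hy : y ∈ P) : π x = π y ↔ x * y ∈ Z := by
  rw [← h.zero (mul_mem hx hy), h.mul hx hy, eq_of_add h.two]

theorem comm_iff (hn : n ∈ Ns P) (hx : x ∈ P) : ⁅n, x⁆ ∈ Z ↔ A n (π x) = π x := by
  rw [← h.act hn hx, h.eq_iff (mem_normalizer_conj hn hx) hx, commutatorElement_def]

theorem A_mul (hn : n ∈ Ns P) (hm : m ∈ Ns P) (v : V) : A (n * m) v = A n (A m v) := by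
  obtain ⟨x, hx, rfl⟩ := h.sur v
  rw [← h.act hm hx, ← h.act hn (mem_normalizer_conj hm hx), ← h.act (mul_mem hn hm) hx]
  congr 1; group

theorem A_K (hn : n ∈ Kn P) (v : V) : A n v = v := by
  obtain ⟨c, hc, p, hp, rfl⟩ := (Solv.Coprime.mem_sup_iff' Cs_le_Ns).1 hn
  obtain ⟨x, hx, rfl⟩ := h.sur v
  have := mul_mem (mul_mem hp hx) (inv_mem hp)
  rw [← h.act (mul_mem (Cs_le_Ns hc) (le_normalizer hp)) hx,
    show c * p * x * (c * p)⁻¹ = c * (p * x * p⁻¹) * c⁻¹ by group, ← mem_Cs.1 hc _ this,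
    mul_inv_cancel_right, h.mul (mul_mem hp hx) (inv_mem hp), h.mul hp hx, h.inv hp, add_right_comm,
    h.two, zero_add]

theorem A_inv (hn : n ∈ Ns P) (v : V) : A n (A n⁻¹ v) = v := by
  rw [← h.A_mul hn (inv_mem hn), mul_inv_cancel, h.A_K (one_mem _)]

end Sc

end Cfsg.Lib.GHM.PzC
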