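import Cfsg.Agent.GHM.Fr2

/-!
# Homocyclic groups of rank two and normal quaternion subgroups
-/

set_option autoImplicit false

namespace Cfsg.Lib.GHM

open Subgroup Cfsg.Lib.Trans Cfsg.Lib.Gold Cfsg.Lib.Rank2 Cfsg.Lib.GHB
open scoped commutatorElement

universe u

namespace QGk

variable {G : Type u} [Group G] {H B : Subgroup G} {a b f g j p w z σ α : G} {k : ℕ}
  {x y x' y' κ : ℤ}

theorem nr (hg : g ∈ Ns H) (hx : w ∈ H) : g * w * g⁻¹ ∈ H := (mem_normalizer_iff.1 hg _).1 hx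

theorem nr' (hg : g ∈ Ns H) (hx : w ∈ H) : g⁻¹ * w * g ∈ H := by
  simpa using nr (inv_mem hg) hx

theorem one_of (h : ∀ w ∈ B, w * w = 1 → w = 1) (m : ℕ) (hw : w ∈ B) (h1 : w ^ 2 ^ m = 1) :
    w = 1 := by
  induction m with
  | zero => simpa using h1
  | succ m ih => exact ih (h _ (pow_mem hw _) (by rw [← pow_add, ← two_mul, ← pow_succ', h1]))

theorem zp_one (ho : orderOf a = 2 ^ (k + 2)) : a ^ x = 1 ↔ (2 ^ (k + 2) : ℤ) ∣ x := by
  rw [← orderOf_dvd_iff_zpow_eq_one, ho]; push_cast; rfl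

theorem h2 (ho : orderOf a = 2 ^ (k + 2)) : a ^ 2 ^ (k + 1) * a ^ 2 ^ (k + 1) = 1 := by
  rw [← pow_add, ← two_mul, ← pow_succ', ← ho, pow_orderOf_eq_one]

theorem h1 (ho : orderOf a = 2 ^ (k + 2)) : a ^ 2 ^ (k + 1) ≠ 1 :=
  pow_ne_one_of_lt_orderOf (by positivity) (by
    rw [ho]; exact Nat.pow_lt_pow_right one_lt_two (by omega))

theorem cyc_inv (ho : orderOf a = 2 ^ (k + 2)) (hw : w ∈ zpowers a) (h : w * w = 1) :
    w = 1 ∨ w = a ^ 2 ^ (k + 1) := by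
  obtain ⟨m, rfl⟩ := mem_zpowers_iff.1 hw
  rw [← zpow_add, zp_one ho, ← two_mul, pow_succ' _ (k + 1)] at h
  obtain ⟨t, rfl⟩ := (mul_dvd_mul_iff_left two_ne_zero).1 h
  rw [← mem_zp (h2 ho), zpow_mul]
  exact zpow_mem (by rw [← zpow_natCast]; push_cast; exact mem_zpowers _) t

theorem pow_n (ho : orderOf a = 2 ^ (k + 2)) (hw : w ∈ zpowers a) : w ^ 2 ^ (k + 2) = 1 := by
  obtain ⟨m, rfl⟩ := mem_zpowers_iff.1 hw
  rw [← zpow_natCast, ← zpow_mul, zp_one ho]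
  push_cast
  exact dvd_mul_left _ _

theorem ord_conj (ho : orderOf a = 2 ^ (k + 2)) (g : G) : orderOf (g * a * g⁻¹) = 2 ^ (k + 2) :=
  ((MulAut.conj g).orderOf_eq a).trans ho

theorem dis_of (ha : orderOf a = 2 ^ (k + 2)) (hb : orderOf b = 2 ^ (k + 2))
    (h : a ^ 2 ^ (k + 1) ≠ b ^ 2 ^ (k + 1)) (h1 : w ∈ zpowers a) (h2 : w ∈ zpowers b) : w = 1 :=
  one_of (B := zpowers a ⊓ zpowers b) (fun v hv e => by
    rcases cyc_inv ha hv.1 e with e1 | e1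
    · exact e1
    · exact (cyc_inv hb hv.2 e).resolve_right fun e2 => h (e1.symm.trans e2)) _ ⟨h1, h2⟩
    (pow_n ha h1)

theorem com_of (h : ∀ w ∈ zpowers a, w ∈ zpowers b → w = 1) (h1 : a * b * a⁻¹ ∈ zpowers b)
    (h2 : b * a * b⁻¹ ∈ zpowers a) : a * b = b * a := by
  refine commutatorElement_eq_one_iff_mul_comm.1 (h _ ?_ (mul_mem h1 (inv_mem (mem_zpowers b))))
  have := mul_mem (mem_zpowers a) (inv_mem h2)
  rwa [show a * (b * a * b⁻¹)⁻¹ = ⁅a, b⁆ by rw [commutatorElement_def]; group] at this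

/-- `⟨a, b⟩` is homocyclic of rank two. -/
structure HA (k : ℕ) (a b : G) : Prop where
  oa : orderOf a = 2 ^ (k + 2)
  ob : orderOf b = 2 ^ (k + 2)
  com : a * b = b * a
  dis : ∀ w ∈ zpowers a, w ∈ zpowers b → w = 1

/-- Coordinates. -/
def E (a b : G) (x y : ℤ) : G := a ^ x * b ^ y

theorem E10 (x : ℤ) : a ^ x = E a b x 0 := by simp [E]

theorem E01 (y : ℤ) : b ^ y = E a b 0 y := by simp [E]

theorem Ea : E a b 1 0 = a := by simp [E]

theorem Eb : E a b 0 1 = b := by simp [E]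

theorem Eab : E a b 1 1 = a * b := by simp [E]

theorem En0 (m : ℕ) : a ^ 2 ^ m = E a b (2 ^ m) 0 := by
  rw [← zpow_natCast, E10]; push_cast; rfl

theorem E0n (m : ℕ) : b ^ 2 ^ m = E a b 0 (2 ^ m) := by
  rw [← zpow_natCast, E01]; push_cast; rfl

theorem E_mem : E a b x y ∈ Dl a b :=
  mul_mem (mem_sup_left (zpow_mem (mem_zpowers a) x)) (mem_sup_right (zpow_mem (mem_zpowers b) y))

theorem conjE (g : G) : g * E a b x y * g⁻¹ = (g * a * g⁻¹) ^ x * (g * b * g⁻¹) ^ y := by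
  rw [conj_zpow, conj_zpow, E]; group

namespace HA

variable (h : HA k a b)
include h

theorem mul : E a b x y * E a b x' y' = E a b (x + x') (y + y') := by
  have e : b ^ y * a ^ x' = a ^ x' * b ^ y := (Commute.zpow_zpow h.com.symm y x').eq
  rw [E, E, E, zpow_add, zpow_add, mul_assoc, ← mul_assoc (b ^ y), e]
  group

theorem inv : (E a b x y)⁻¹ = E a b (-x) (-y) :=
  inv_eq_of_mul_eq_one_right (by rw [h.mul]; simp [E])

theorem one : E a b x y = 1 ↔ (2 ^ (k + 2) : ℤ) ∣ x ∧ (2 ^ (k + 2) : ℤ) ∣ y := by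
  rw [← zp_one h.oa, ← zp_one h.ob, E]
  refine ⟨fun e => ?_, fun e => by rw [e.1, e.2, mul_one]⟩
  have e1 : a ^ x = 1 := h.dis _ (zpow_mem (mem_zpowers a) x) (by
    rw [eq_inv_of_mul_eq_one_left e]; exact inv_mem (zpow_mem (mem_zpowers b) y))
  exact ⟨e1, by rwa [e1, one_mul] at e⟩

theorem eq : E a b x y = E a b x' y' ↔
    (2 ^ (k + 2) : ℤ) ∣ x - x' ∧ (2 ^ (k + 2) : ℤ) ∣ y - y' := by
  rw [← mul_inv_eq_one, h.inv, h.mul, h.one, sub_eq_add_neg, sub_eq_add_neg]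

theorem zpow (m : ℤ) : E a b x y ^ m = E a b (x * m) (y * m) := by
  rw [E, (Commute.zpow_zpow h.com x y).mul_zpow, ← zpow_mul, ← zpow_mul, E]

theorem mem : α ∈ Dl a b ↔ ∃ x y, α = E a b x y := by
  refine ⟨fun hα => ?_, by rintro ⟨x, y, rfl⟩; exact E_mem⟩
  obtain ⟨_, ⟨x, rfl⟩, _, ⟨y, rfl⟩, rfl⟩ := (Solv.mem_sup_of_le_normalizer
    (zpowers_le.2 (centralizer_le_normalizer _ (by
      rintro _ ⟨m, rfl⟩
      exact (Commute.zpow_left h.com m).eq)))).1 hα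
  exact ⟨x, y, rfl⟩

theorem ab (h1 : α ∈ Dl a b) (h2 : w ∈ Dl a b) : α * w = w * α := by
  obtain ⟨x, y, rfl⟩ := h.mem.1 h1
  obtain ⟨x', y', rfl⟩ := h.mem.1 h2
  rw [h.mul, h.mul, add_comm x, add_comm y]

theorem pow_n (h1 : α ∈ Dl a b) : α ^ 2 ^ (k + 2) = 1 := by
  obtain ⟨x, y, rfl⟩ := h.mem.1 h1
  rw [← zpow_natCast, h.zpow, h.one]
  push_cast
  exact ⟨dvd_mul_left _ _, dvd_mul_left _ _⟩

theorem invol (h1 : α ∈ Dl a b) (h3 : α * α = 1) : α = 1 ∨ α = a ^ 2 ^ (k + 1) ∨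
    α = b ^ 2 ^ (k + 1) ∨ α = a ^ 2 ^ (k + 1) * b ^ 2 ^ (k + 1) := by
  obtain ⟨x, y, rfl⟩ := h.mem.1 h1
  rw [h.mul, h.one, ← zp_one h.oa, ← zp_one h.ob, zpow_add, zpow_add] at h3
  rcases cyc_inv h.oa (zpow_mem (mem_zpowers a) x) h3.1 with e | e <;>
    rcases cyc_inv h.ob (zpow_mem (mem_zpowers b) y) h3.2 with e' | e' <;> simp [E, e, e']

theorem actF (h1 : f * a * f⁻¹ = b) (h2 : f * b * f⁻¹ = (a * b)⁻¹) :
    f * E a b x y * f⁻¹ = E a b (-y) (x - y) := by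
  rw [conjE, h1, h2, ← Eab (a := a) (b := b), h.inv, h.zpow, E01 (a := a) (b := b), h.mul]
  congr 1 <;> ring

theorem actS (h1 : σ * a * σ⁻¹ = a⁻¹) (h2 : σ * b * σ⁻¹ = a * b) :
    σ * E a b x y * σ⁻¹ = E a b (y - x) y := by
  rw [conjE, h1, h2, ← Eab (a := a) (b := b), h.zpow, inv_zpow', E10 (a := a) (b := b), h.mul]
  congr 1 <;> ring

omit h in
theorem actP (h1 : p * a * p⁻¹ = a ^ κ) (h2 : p * b * p⁻¹ = b ^ κ) :
    p * E a b x y * p⁻¹ = E a b (κ * x) (κ * y) := by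
  rw [conjE, h1, h2, ← zpow_mul, ← zpow_mul, E]

theorem ns [Finite G] (h1 : g * a * g⁻¹ ∈ Dl a b) (h2 : g * b * g⁻¹ ∈ Dl a b) : g ∈ Ns (Dl a b) :=
  ns_of fun α hα => by
    obtain ⟨x, y, rfl⟩ := h.mem.1 hα
    rw [conjE]
    exact mul_mem (zpow_mem h1 x) (zpow_mem h2 y)

end HA

theorem dvd_three {m : ℕ} (h : (2 ^ m : ℤ) ∣ 3 * x) : (2 ^ m : ℤ) ∣ x :=
  (IsCoprime.pow_left (show IsCoprime (2 : ℤ) 3 from ⟨-1, 1, by norm_num⟩)).dvd_of_dvd_mul_left h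

theorem HA.fixF (h : HA k a b) (h1 : f * a * f⁻¹ = b) (h2 : f * b * f⁻¹ = (a * b)⁻¹)
    (h3 : α ∈ Dl a b) (h4 : f * α = α * f) : α = 1 := by
  obtain ⟨x, y, rfl⟩ := h.mem.1 h3
  rw [← mul_inv_eq_iff_eq_mul, h.actF h1 h2, h.eq] at h4
  have e : (2 ^ (k + 2) : ℤ) ∣ y := dvd_three (by
    have := (dvd_add h4.1 h4.2).neg_right
    rwa [show -(-y - x + (x - y - y)) = 3 * y by ring] at this)
  refine h.one.2 ⟨?_, e⟩
  have := (dvd_add h4.1 e).neg_right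
  rwa [show -(-y - x + y) = x by ring] at this

section qh

variable (h : Qh H k a j z)
include h

theorem q_z2 : z * z = 1 := h.za ▸ h2 h.ord

theorem q_z1 : z ≠ 1 := h.za ▸ h1 h.ord

theorem q_za : z ∈ zpowers a := h.za ▸ pow_mem (mem_zpowers a) _

theorem q_zH : z ∈ H := h.za ▸ pow_mem h.aH _

theorem q_inv (hw : w ∈ zpowers a) (e : w * w = 1) : w = 1 ∨ w = z := h.za ▸ cyc_inv h.ord hw e

theorem q_zc (hg : g ∈ H) : g * z = z * g := by
  rcases q_inv h (nr (h.na hg) (q_za h)) (by rw [conj_mul, q_z2 h]; simp) with e | e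
  · exact absurd (by simpa using e) (q_z1 h)
  · exact mul_inv_eq_iff_eq_mul.1 e

theorem q_ja (hw : w ∈ zpowers a) : j * w * j⁻¹ = w⁻¹ := by
  obtain ⟨m, rfl⟩ := mem_zpowers_iff.1 hw
  rw [← conj_zpow, h.ja, inv_zpow]

theorem q_mem : w ∈ Dl a j ↔ w ∈ zpowers a ∨ j⁻¹ * w ∈ zpowers a :=
  mem_adj (fun _ hb => by rw [q_ja h hb]; exact inv_mem hb) (h.j2 ▸ q_za h)

theorem q_nrm [Finite G] : H ≤ Ns (Dl a j) := fun g hg => ns_of fun w hw => by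
  have e : g * j * g⁻¹ ∈ Dl a j := by
    obtain ⟨m, e⟩ := h.cb g hg
    exact e ▸ mul_mem (mem_sup_left (zpow_mem (mem_zpowers a) m)) (mem_sup_right (mem_zpowers j))
  rcases (q_mem h).1 hw with e1 | e1
  · exact mem_sup_left (nr (h.na hg) e1)
  · have := mul_mem e (mem_sup_left (nr (h.na hg) e1))
    rwa [conj_mul, mul_inv_cancel_left] at this

theorem q_a2 : a * a ≠ 1 := fun e => by
  have := orderOf_dvd_of_pow_eq_one ((sq a).trans e)
  rw [h.ord] at this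
  have := Nat.le_of_dvd two_pos this
  have : 0 < 2 ^ k := by positivity
  rw [pow_add] at *
  omega

theorem q_cen (hw : w ∈ Dl a j) (hc : w ∈ Cs (Dl a j)) : w = 1 ∨ w = z := by
  rcases (q_mem h).1 hw with e | e
  · refine q_inv h e ?_
    have e1 := q_ja h e
    rw [← cs_comm hc (mem_sup_right (mem_zpowers j)), mul_inv_cancel_right] at e1
    exact mul_eq_one_iff_eq_inv.2 e1
  · exfalso
    obtain ⟨m, e1⟩ := mem_zpowers_iff.1 e
    have e2 := cs_comm hc (mem_sup_left (mem_zpowers a))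
    rw [inv_mul_eq_iff_eq_mul.1 e1.symm] at e2
    refine q_a2 h (mul_eq_one_iff_eq_inv.2 ?_)
    rw [← h.ja, eq_mul_inv_iff_mul_eq]
    have e3 : a ^ m * a = a * a ^ m := (Commute.zpow_left (Commute.refl a) m).eq
    refine mul_right_cancel (b := a ^ m) ?_
    rw [mul_assoc, ← e2, mul_assoc, mul_assoc, e3]

end qh

end QGk

end Cfsg.Lib.GHM
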