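import Cfsg.Agent.GHM.Tool
import Cfsg.Agent.GHM.QG0
import Cfsg.Agent.GHM.Phi

/-!
# The homocyclic case: the centraliser of `f` is cyclic and the involutions of `A⟨σ⟩` are fused
-/

set_option autoImplicit false

namespace Cfsg.Lib.GHM

open Subgroup Cfsg.Lib.Trans Cfsg.Lib.Gold Cfsg.Lib.Rank2 Cfsg.Lib.GHB
open scoped commutatorElement

universe u

variable {G : Type u} [Group G] {S : Sylow 2 G} {P R : Subgroup G}
  {a c d f g i j p s x y z σ α : G} {k : ℕ}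

namespace QEk

open QGk

theorem phi_conj {C : Subgroup G} (hg : ∀ x ∈ C, g * x * g⁻¹ ∈ C) (hx : x ∈ Phi C) :
    g * x * g⁻¹ ∈ Phi C :=
  (Phi_le_iff.2 fun y hy => by
    have := sq_mem_Phi (hg y hy)
    rwa [conj_mul] at this : Phi C ≤ (Phi C).comap (MulAut.conj g).toMonoidHom) hx

variable (h0 : QG S P R d s z i j a f σ k)
include h0

theorem ha : HA k a (f * a * f⁻¹) := ⟨h0.qh.ord, ord_conj h0.qh.ord f, h0.com, h0.dis⟩

theorem fb : f * (f * a * f⁻¹) * f⁻¹ = (a * (f * a * f⁻¹))⁻¹ := eq_inv_of_mul_eq_one_right h0.a12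

theorem ez : z = E a (f * a * f⁻¹) (2 ^ (k + 1)) 0 := by rw [← h0.qh.za, En0]

theorem ez1 : f * z * f⁻¹ = E a (f * a * f⁻¹) 0 (2 ^ (k + 1)) := by
  rw [← E0n, conj_pow, h0.qh.za]

theorem ei : i = E a (f * a * f⁻¹) (2 ^ k) 0 := by rw [← h0.ia, En0]

theorem zA : z ∈ Dl a (f * a * f⁻¹) := (ez h0).symm ▸ E_mem

theorem z1A : f * z * f⁻¹ ∈ Dl a (f * a * f⁻¹) := (ez1 h0).symm ▸ E_mem

theorem iA : i ∈ Dl a (f * a * f⁻¹) := (ei h0).symm ▸ E_mem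

theorem AR : Dl a (f * a * f⁻¹) ≤ R :=
  sup_le (zpowers_le.2 h0.aR) (zpowers_le.2 (h0.tri.dP h0.aR))

theorem zc : z ∈ Cs (S : Subgroup G) := cs_of fun _ hx => (q_zc h0.qh hx).symm

theorem z1c : f * z * f⁻¹ ∈ Cs R := cs_ns (cs_mono h0.tri.le (zc h0)) h0.tri.dN

theorem z12 : f * z * f⁻¹ * (f * z * f⁻¹) = 1 := by rw [conj_mul, q_z2 h0.qh]; simp

theorem σz1 : σ * (f * z * f⁻¹) * σ⁻¹ = z * (f * z * f⁻¹) := by
  rw [ez1 h0, (ha h0).actS h0.σa h0.σa1]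
  conv_rhs => rw [ez h0, (ha h0).mul]
  simp

theorem σi : σ * i * σ⁻¹ = i⁻¹ := by rw [← h0.ia, ← conj_pow, h0.σa, inv_pow]

theorem ii : i⁻¹ = z * i := by
  rw [inv_eq_iff_mul_eq_one, ← mul_assoc, q_zc h0.qh (h0.qf.le h0.qf.iP), mul_assoc, h0.qf.i2,
    h0.qf.z2]

theorem acti (hg : g ∈ (S : Subgroup G)) : g * i * g⁻¹ = i ∨ g * i * g⁻¹ = i⁻¹ := by
  have e : i ∈ zpowers a := h0.ia ▸ pow_mem (mem_zpowers a) _
  have e1 := nr (h0.qh.na hg) e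
  have e2 := (ha h0).ab (mem_sup_left e1) (inv_mem (iA h0))
  refine (q_inv h0.qh (mul_mem e1 (inv_mem e)) ?_).imp mul_inv_eq_one.1 fun h => ?_
  · rw [mul_assoc, ← mul_assoc i⁻¹, ← e2, ← mul_assoc, ← mul_assoc, conj_mul, h0.qf.i2,
      q_zc h0.qh hg, mul_inv_cancel_right, ← h0.qf.i2]
    group
  · rw [ii h0, ← h, inv_mul_cancel_right]

theorem sqi (hg : g ∈ (S : Subgroup G)) : g * g * i = i * (g * g) := by
  rw [← mul_inv_eq_iff_eq_mul, show g * g * i * (g * g)⁻¹ = g * (g * i * g⁻¹) * g⁻¹ by group]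
  rcases acti h0 hg with e | e
  · rw [e, e]
  · rw [e, ← conj_inv, e, inv_inv]

theorem memS (hx : x ∈ (S : Subgroup G)) : x ∈ R ∨ x * σ ∈ R := h0.tri.idx x hx (h0.nS hx)

theorem fixA (h1 : α ∈ Dl a (f * a * f⁻¹)) (h2 : f * α = α * f) : α = 1 :=
  (ha h0).fixF rfl (fb h0) h1 h2

theorem decR (hp : p ∈ R) : ∃ α ∈ Dl a (f * a * f⁻¹), ∃ c ∈ R ⊓ C1 f, p = α * c := by
  obtain ⟨α, h1, h2⟩ := h0.dec p hp
  exact ⟨α⁻¹, inv_mem h1, α * p, ⟨mul_mem (AR h0 h1) hp, mem_C1.2 h2.symm⟩, by group⟩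

theorem decS (hx : x ∈ (S : Subgroup G)) :
    ∃ α ∈ Dl a (f * a * f⁻¹), ∃ c ∈ R ⊓ C1 f, x = α * c ∨ x = α * (c * σ) := by
  rcases memS h0 hx with h | h
  · obtain ⟨α, h1, c, h2, e⟩ := decR h0 h
    exact ⟨α, h1, c, h2, Or.inl e⟩
  · obtain ⟨α, h1, c, h2, e⟩ := decR h0 h
    exact ⟨α, h1, c, h2, Or.inr (by rw [← mul_assoc, ← e, mul_assoc, h0.σ2, mul_one])⟩

theorem cσ' (hc : c ∈ R ⊓ C1 f) : σ * c = c * σ := h0.cσ c hc.1 (mem_C1.1 hc.2).symm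

theorem invA (h1 : α ∈ Dl a (f * a * f⁻¹)) (h2 : α * α = 1) :
    α = 1 ∨ α = z ∨ α = f * z * f⁻¹ ∨ α = z * (f * z * f⁻¹) := by
  have := (ha h0).invol h1 h2
  rwa [conj_pow, h0.qh.za] at this

theorem fz1 : f * (f * z * f⁻¹) * f⁻¹ = z * (f * z * f⁻¹) := by
  rw [ez1 h0, (ha h0).actF rfl (fb h0)]
  conv_rhs => rw [ez h0, (ha h0).mul]
  rw [(ha h0).eq]
  exact ⟨Dvd.intro (-1) (by ring), Dvd.intro (-1) (by ring)⟩

variable [Finite G]

theorem σA : σ ∈ Ns (Dl a (f * a * f⁻¹)) :=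
  (ha h0).ns (h0.σa ▸ inv_mem (mem_sup_left (mem_zpowers a)))
    (h0.σa1 ▸ mul_mem (mem_sup_left (mem_zpowers a)) (mem_sup_right (mem_zpowers _)))

theorem nA : (S : Subgroup G) ≤ Ns (Dl a (f * a * f⁻¹)) := by
  have e : R ≤ Ns (Dl a (f * a * f⁻¹)) := fun p hp => by
    obtain ⟨κ, e1, e2⟩ := h0.sc p hp
    exact (ha h0).ns (e1 ▸ zpow_mem (mem_sup_left (mem_zpowers a)) κ)
      (e2 ▸ zpow_mem (mem_sup_right (mem_zpowers _)) κ)
  exact fun x hx => (memS h0 hx).elim (e ·) fun h => (mul_mem_cancel_right (σA h0)).1 (e h)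

theorem memM : y ∈ Dl a (f * a * f⁻¹) ⊔ zpowers σ ↔
    y ∈ Dl a (f * a * f⁻¹) ∨ y * σ ∈ Dl a (f * a * f⁻¹) := by
  rw [mem_adj (fun _ => nr (σA h0)) (h0.σ2 ▸ one_mem _), mem_normalizer_iff.1 (σA h0) (σ⁻¹ * y),
    mul_inv_cancel_left, inv_eq h0.σ2]

end QEk

variable [Finite G]

open QGk QEk in
theorem QG.cyc (h0 : QG S P R d s z i j a f σ k) : ∃ c, R ⊓ C1 f = zpowers c := by
  by_contra h
  push Not at h
  set C := R ⊓ C1 f with hC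
  have CS : C ≤ S := inf_le_left.trans h0.tri.le
  have ex : ∀ c ∈ C, ∃ p ∈ C, ∀ x ∈ zpowers c, x⁻¹ * p ∉ Phi C := fun c hc => by
    by_contra e
    push Not at e
    exact h c (le_antisymm (PhiAux.le_of_Phi (pS CS) e) (zpowers_le.2 hc))
  obtain ⟨c1, h1, e1⟩ := ex 1 (one_mem _)
  obtain ⟨c2, h2, e2⟩ := ex c1 h1
  have e1' : c1 ∉ Phi C := by simpa using e1 1 (one_mem _)
  have e2' : c2 ∉ Phi C := by simpa using e2 1 (one_mem _)
  have e3 : c1 * c2 ∉ Phi C := by simpa using e2 c1⁻¹ (inv_mem (mem_zpowers c1))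
  have zz : ∀ x ∈ (S : Subgroup G), x * z * x⁻¹ = z := fun x hx =>
    mul_inv_eq_iff_eq_mul.2 (q_zc h0.qh hx)
  have mK : ∀ x, x ∈ Phi C ⊔ zpowers z ↔ x ∈ Phi C ∨ z⁻¹ * x ∈ Phi C := fun x =>
    mem_adj (fun b hb => by rwa [cs_conj (zc h0) (CS (Phi_le hb))]) (h0.qf.z2 ▸ one_mem _)
  have nK : ∀ x ∈ (S : Subgroup G), (∀ y ∈ Phi C, x * y * x⁻¹ ∈ Phi C) →
      x ∈ Ns (Phi C ⊔ zpowers z) := fun x hx e => ns_of fun y hy => by
    rw [mK] at hy ⊢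
    refine hy.imp (e y) fun e' => ?_
    have := e _ e'
    rwa [← conj_mul, ← conj_inv, zz x hx] at this
  have nC : ∀ c ∈ C, c ∈ Ns (Phi C ⊔ zpowers z) := fun c hc =>
    nK c (CS hc) fun y => phi_conj fun x hx => mul_mem (mul_mem hc hx) (inv_mem hc)
  have ea : EA (Phi C) C := ⟨Phi_le, fun _ => sq_mem_Phi, fun c hc y =>
    phi_conj fun x hx => mul_mem (mul_mem hc hx) (inv_mem hc)⟩
  have k0 : ∀ {x y : G}, x * y = y * x → ⁅x, y⁆ ∈ Phi C ⊔ zpowers z := fun e => by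
    rw [commutatorElement_eq_one_iff_mul_comm.2 e]; exact one_mem _
  have kz : ∀ {x y : G}, x * y * x⁻¹ = z * y → ⁅x, y⁆ ∈ Phi C ⊔ zpowers z := fun e => by
    rw [commutatorElement_def, e, mul_inv_cancel_right]; exact mem_sup_right (mem_zpowers z)
  have ks : ∀ {x y : G}, ⁅x, y⁆ ∈ Phi C ⊔ zpowers z → ⁅y, x⁆ ∈ Phi C ⊔ zpowers z := fun e => by
    rw [← commutatorElement_inv]; exact inv_mem e
  have kc : ∀ c ∈ C, ⁅c, i⁆ ∈ Phi C ⊔ zpowers z ∧ ⁅c, σ⁆ ∈ Phi C ⊔ zpowers z ∧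
      ⁅c, f * z * f⁻¹⁆ ∈ Phi C ⊔ zpowers z := fun c hc =>
    ⟨(acti h0 (CS hc)).elim (fun e => k0 (mul_inv_eq_iff_eq_mul.1 e)) fun e => kz (e.trans (ii h0)),
      k0 (cσ' h0 hc).symm, k0 (cs_comm (z1c h0) hc.1).symm⟩
  have iσ := kz ((σi h0).trans (ii h0))
  have iz := k0 ((ha h0).ab (iA h0) (z1A h0))
  have σz := kz (σz1 h0)
  obtain ⟨a1, a2, a3⟩ := kc c1 h1
  obtain ⟨b1, b2, b3⟩ := kc c2 h2
  have c12 : ⁅c1, c2⁆ ∈ Phi C ⊔ zpowers z := mem_sup_left (ea.comm h1 h2)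
  refine rank5 h0.cx.r4 (K := Phi C ⊔ zpowers z) (x₁ := i) (x₂ := f * z * f⁻¹) (x₃ := c1) (x₄ := c2)
    (x₅ := σ) ?_ ?_ ?_ ?_
  · simp only [List.forall_mem_cons, List.not_mem_nil, false_imp_iff, implies_true, and_true]
    refine ⟨nK _ (h0.tri.le (AR h0 (iA h0))) fun y hy => ?_,
      nK _ (h0.tri.le (AR h0 (z1A h0))) fun y hy => ?_, nC _ h1, nC _ h2,
      nK _ h0.tri.sS fun y hy => ?_⟩
    · rwa [← mem_C1.1 ((Phi_le_iff.2 fun x hx => mem_C1.2 (sqi h0 (CS hx)) : Phi C ≤ C1 i) hy),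
        mul_inv_cancel_right]
    · rwa [cs_conj (z1c h0) (Phi_le hy).1]
    · rwa [cσ' h0 (Phi_le hy), mul_inv_cancel_right]
  · simp only [List.forall_mem_cons, List.not_mem_nil, false_imp_iff, implies_true, and_true]
    exact ⟨⟨k0 rfl, iz, ks a1, ks b1, ks iσ⟩, ⟨ks iz, k0 rfl, ks a3, ks b3, ks σz⟩,
      ⟨a1, a3, k0 rfl, c12, a2⟩, ⟨b1, b3, ks c12, k0 rfl, b2⟩, iσ, σz, ks a2, ks b2, k0 rfl⟩
  · simp only [List.forall_mem_cons, List.not_mem_nil, false_imp_iff, implies_true, and_true]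
    exact ⟨by rw [h0.qf.i2]; exact mem_sup_right (mem_zpowers z), by rw [z12 h0]; exact one_mem _,
      mem_sup_left (sq_mem_Phi h1), mem_sup_left (sq_mem_Phi h2), by rw [h0.σ2]; exact one_mem _⟩
  · intro e₁ e₂ e₃ e₄ e₅ e
    have hα : cond e₁ i 1 * cond e₂ (f * z * f⁻¹) 1 ∈ Dl a (f * a * f⁻¹) :=
      mul_mem (by cases e₁; exacts [one_mem _, iA h0]) (by cases e₂; exacts [one_mem _, z1A h0])
    have hc : cond e₃ c1 1 * cond e₄ c2 1 ∈ C :=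
      mul_mem (by cases e₃; exacts [one_mem _, h1]) (by cases e₄; exacts [one_mem _, h2])
    rw [mul_assoc _ (cond e₃ c1 1)] at e
    obtain rfl : e₅ = false := by
      cases e₅
      · rfl
      · exact absurd ((mul_mem_cancel_left (mul_mem (AR h0 hα) hc.1)).1
          (sup_le (Phi_le.trans inf_le_left) (zpowers_le.2 (AR h0 (zA h0))) e)) h0.tri.sP
    rw [cond_false, mul_one, mK, ← mul_assoc z⁻¹] at e
    have key : ∀ β ∈ Dl a (f * a * f⁻¹), β * (cond e₃ c1 1 * cond e₄ c2 1) ∈ Phi C →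
        β = 1 ∧ e₃ = false ∧ e₄ = false := fun β hβ e => by
      obtain rfl := fixA h0 hβ (mem_C1.1 ((mul_mem_cancel_right hc).1 (Phi_le e)).2).symm
      refine ⟨rfl, ?_⟩
      cases e₃ <;> cases e₄ <;> simp only [cond_true, cond_false, mul_one, one_mul] at e
      exacts [⟨rfl, rfl⟩, absurd e e2', absurd e e1', absurd e e3]
    have n1 : ¬ (2 ^ (k + 2) : ℤ) ∣ 2 ^ (k + 1) := fun e => by
      have := Int.le_of_dvd (by positivity) e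
      have : (0 : ℤ) < 2 ^ k := by positivity
      rw [pow_add, pow_add] at *
      omega
    have n2 : ¬ (2 ^ (k + 1) : ℤ) ∣ 2 ^ k := fun e => by
      have := Int.le_of_dvd (by positivity) e
      have : (0 : ℤ) < 2 ^ k := by positivity
      rw [pow_add] at *
      omega
    have n3 : (2 ^ (k + 1) : ℤ) ∣ 2 ^ (k + 2) := pow_dvd_pow _ (by omega)
    have fin : cond e₁ i 1 * cond e₂ (f * z * f⁻¹) 1 ∈ zpowers z → e₁ = false ∧ e₂ = false := by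
      intro e
      obtain ⟨m, e⟩ := mem_zpowers_iff.1 e
      have e0 : (1 : G) = E a (f * a * f⁻¹) 0 0 := by simp [E]
      rw [ez1 h0, ei h0, ez h0, (ha h0).zpow, e0] at e
      cases e₁ <;> cases e₂ <;> simp only [cond_true, cond_false, (ha h0).mul, (ha h0).eq] at e
      · exact ⟨rfl, rfl⟩
      · exact absurd (by simpa using e.2) n1
      · exact absurd (by simpa using (dvd_sub_right (dvd_mul_right _ m)).1 (n3.trans e.1)) n2
      · exact absurd (by simpa using e.2) n1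
    rcases e with e | e
    · obtain ⟨e1, e2, e3⟩ := key _ hα e
      obtain ⟨e4, e5⟩ := fin (by rw [e1]; exact one_mem _)
      exact ⟨e4, e5, e2, e3, rfl⟩
    · obtain ⟨e1, e2, e3⟩ := key _ (mul_mem (inv_mem (zA h0)) hα) e
      obtain ⟨e4, e5⟩ := fin (inv_mul_eq_one.1 e1 ▸ mem_zpowers z)
      exact ⟨e4, e5, e2, e3, rfl⟩

open QGk QEk in
theorem QG.cσz (h0 : QG S P R d s z i j a f σ k) (hy : y ∈ Dl a (f * a * f⁻¹) ⊔ zpowers σ)
    (h1 : y * y = 1) (h2 : y ≠ 1) : IsConj z y := by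
  have c1 : IsConj z (f * z * f⁻¹) := isConj_iff.2 ⟨f, rfl⟩
  have A := ha h0
  have cσ : ∀ m : ℤ, IsConj σ (a ^ m * σ) := fun m => isConj_iff.2 ⟨E a (f * a * f⁻¹) 0 (-m), by
    rw [(show ∀ c : G, c * σ * c⁻¹ = c * (σ * c⁻¹ * σ⁻¹) * σ from fun c => by group), A.inv,
      A.actS h0.σa h0.σa1, A.mul, E10 (b := f * a * f⁻¹)]
    congr 2 <;> ring⟩
  obtain ⟨m, hm⟩ := h0.σj
  have ia : i ∈ zpowers a := h0.ia ▸ pow_mem (mem_zpowers a) _
  have z1S := h0.tri.le (AR h0 (z1A h0))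
  have iz : i * (f * z * f⁻¹) = f * z * f⁻¹ * i := A.ab (iA h0) (z1A h0)
  have ej : j = a ^ (-m) * σ * (f * z * f⁻¹) := by
    rw [hm, mul_assoc, mul_assoc _ (f * z * f⁻¹), z12 h0]; simp
  have jz : j * (f * z * f⁻¹) * j⁻¹ = z * (f * z * f⁻¹) := by
    have e := A.ab (mem_sup_left (zpow_mem (mem_zpowers a) (-m))) (mul_mem (zA h0) (z1A h0))
    rw [ej, show a ^ (-m) * σ * (f * z * f⁻¹) * (f * z * f⁻¹) * (a ^ (-m) * σ * (f * z * f⁻¹))⁻¹ =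
      a ^ (-m) * (σ * (f * z * f⁻¹) * σ⁻¹) * (a ^ (-m))⁻¹ by group, σz1 h0, e, mul_inv_cancel_right]
  have z1P : f * z * f⁻¹ ∈ P := (h0.qf.mem _ z1S).2
    ⟨by rw [commutatorElement_eq_one_iff_mul_comm.2 iz.symm]; exact one_mem _, by
      rw [← commutatorElement_inv, commutatorElement_def, jz, mul_inv_cancel_right]
      exact inv_mem (mem_zpowers z)⟩
  have dw := h0.qf.fix _ (mul_mem h0.qf.iP z1P) (by rw [mul_assoc, iz]) (by
    rw [eq_comm, ← mul_inv_eq_iff_eq_mul, ← conj_mul, jz, q_ja h0.qh ia, ii h0, ← mul_assoc,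
      ← q_zc h0.qh (h0.qf.le h0.qf.iP), mul_assoc i, h0.qf.z2, mul_one])
  have c2 : IsConj z σ := by
    obtain ⟨l, hl⟩ := mem_zpowers_iff.1 ia
    refine (c1.trans (isConj_iff.2 ⟨d, ?_⟩)).trans (cσ (l - m)).symm
    have e1 : j⁻¹ * i = i * j := by
      rw [inv_mul_eq_iff_eq_mul, show j * (i * j) = j * i * j⁻¹ * (j * j) by group, q_ja h0.qh ia,
        h0.qf.j2, ii h0, mul_assoc, q_zc h0.qh (h0.qf.le h0.qf.iP), ← mul_assoc, h0.qf.z2, one_mul]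
    calc d * (f * z * f⁻¹) * d⁻¹ = (d * i * d⁻¹)⁻¹ * (d * (i * (f * z * f⁻¹)) * d⁻¹) := by group
      _ = i * j * (f * z * f⁻¹) := by rw [dw, h0.qf.di, mul_inv_cancel_right, ← mul_assoc, e1]
      _ = _ := by
        rw [ej, mul_assoc, mul_assoc _ (f * z * f⁻¹), z12 h0, mul_one, ← hl, ← mul_assoc, ← zpow_add,
          sub_eq_add_neg]
  rcases (memM h0).1 hy with h | h
  · rcases invA h0 h h1 with rfl | rfl | rfl | rfl
    · exact absurd rfl h2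
    · exact IsConj.refl _
    · exact c1
    · exact c1.trans (isConj_iff.2 ⟨f, fz1 h0⟩)
  · obtain ⟨u, v, e⟩ := A.mem.1 h
    have e1 : y = E a (f * a * f⁻¹) u v * σ := by rw [← e, mul_assoc, h0.σ2, mul_one]
    have e2 : E a (f * a * f⁻¹) u v * (σ * E a (f * a * f⁻¹) u v * σ⁻¹) = 1 := by
      rw [inv_eq h0.σ2, ← h1, e1]; group
    rw [A.actS h0.σa h0.σa1, A.mul, A.one, add_sub_cancel] at e2
    rw [e1, E, (zp_one A.ob).2 e2.1, mul_one]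
    exact c2.trans (cσ u)

end Cfsg.Lib.GHM
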