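import Cfsg.Agent.GHM.Fr2
import Cfsg.Agent.GHM.Api
import Cfsg.Agent.GHA.JTB
import Cfsg.Agent.Block.SylowIn

/-!
# Simple groups of sectional 2-rank at most four: good quaternion groups
-/

set_option autoImplicit false
set_option linter.unusedSectionVars false

namespace Cfsg.Lib.GHM

open Subgroup Cfsg.Lib.Trans Cfsg.Lib.Gold Cfsg.Lib.Rank2 Cfsg.Lib.GHB
open scoped commutatorElement

universe u

variable {G : Type u} [Group G] [Finite G] {P Q T : Subgroup G} {d g i j n p q s u v x y z : G}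

/-- The facts about the quaternion group of order eight that are used. -/
structure Q8f (Q : Subgroup G) (z : G) : Prop where
  zQ : z ∈ Q
  z1 : z ≠ 1
  z2 : z * z = 1
  zc : ∀ q ∈ Q, q * z = z * q
  sq : ∀ q ∈ Q, q = 1 ∨ q = z ∨ q * q = z
  tri : ∀ u ∈ Q, ∀ v ∈ Q, u * u = z → v * v = z → v = u ∨ v = u * z ∨ u * v = z * (v * u)
  en : ∀ u ∈ Q, ∀ v ∈ Q, u * u = z → v * v = z → u * v = z * (v * u) → ∀ r ∈ Q, r = 1 ∨ r = z ∨
    r = u ∨ r = u * z ∨ r = v ∨ r = v * z ∨ r = u * v ∨ r = u * v * z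

theorem exists_q8f (e : Q ≃* QuaternionGroup 2) : ∃ z, Q8f Q z := by
  let φ : QuaternionGroup 2 →* G := Q.subtype.comp e.symm.toMonoidHom
  have hφ : Function.Injective φ := Q.subtype_injective.comp e.symm.injective
  have hs : ∀ q ∈ Q, ∃ a, q = φ a := fun q hq => ⟨e ⟨q, hq⟩, by simp [φ]⟩
  refine ⟨φ (.a 2), (e.symm _).2, ?_, ?_, fun q hq => ?_, fun q hq => ?_, fun u hu v hv => ?_,
    fun u hu v hv h1 h2 h3 r hr => ?_⟩
  · rw [← map_one φ, hφ.ne_iff]; decide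
  · rw [← map_mul, ← map_one φ, hφ.eq_iff]; decide
  · obtain ⟨a, rfl⟩ := hs q hq
    simp only [← map_mul, hφ.eq_iff]; clear hq; revert a; decide
  · obtain ⟨a, rfl⟩ := hs q hq
    rw [← map_one φ]
    simp only [← map_mul, hφ.eq_iff]; clear hq; revert a; decide
  · obtain ⟨a, rfl⟩ := hs u hu
    obtain ⟨b, rfl⟩ := hs v hv
    simp only [← map_mul, hφ.eq_iff]; clear hu hv; revert a b; decide
  · obtain ⟨a, rfl⟩ := hs u hu
    obtain ⟨b, rfl⟩ := hs v hv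
    obtain ⟨c, rfl⟩ := hs r hr
    rw [← map_one φ]
    simp only [← map_mul, hφ.eq_iff] at h1 h2 h3 ⊢
    clear hu hv hr
    revert a b c; decide

theorem ns_zp (h : n * z * n⁻¹ = z) : n ∈ Ns (zpowers z) :=
  cj_eq_self_iff.1 (by rw [cj_zpowers, h])

namespace Q8f
variable (h : Q8f Q z)
include h

theorem fix (hn : n ∈ Ns Q) : n * z * n⁻¹ = z := by
  rcases h.sq _ (mem_normalizer_conj hn h.zQ) with e | e | e
  · exact absurd (conj_eq_one_iff.1 e) h.z1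
  · exact e
  · rw [conj_mul, h.z2, mul_one, mul_inv_cancel] at e
    exact absurd e.symm h.z1

theorem ind (hu : u ∈ Q) (hv : v ∈ Q) (u2 : u * u = z) (v2 : v * v = z)
    (uv : u * v = z * (v * u)) (K : G → Prop) (hm : ∀ a ∈ Q, ∀ b, K a → K b → K (a * b))
    (ku : K u) (kv : K v) : ∀ x ∈ Q, K x := fun x hx => by
  have kz : K z := u2 ▸ hm u hu u ku ku
  rcases h.en u hu v hv u2 v2 uv x hx with rfl | rfl | rfl | rfl | rfl | rfl | rfl | rfl
  exacts [h.z2 ▸ hm z h.zQ z kz kz, kz, ku, hm u hu z ku kz, kv, hm v hv z kv kz, hm u hu v ku kv,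
    hm _ (mul_mem hu hv) z (hm u hu v ku kv) kz]

/-- An element of order three that moves one coset. -/
theorem mov (hd : d ∈ Ns Q) (h3 : ∀ x ∈ Q, d * (d * (d * x * d⁻¹) * d⁻¹) * d⁻¹ = x) (hq : q ∈ Q)
    (q2 : q * q = z) (n1 : d * q * d⁻¹ ≠ q) (n2 : d * q * d⁻¹ ≠ q * z) :
    d * q * d⁻¹ * (d * q * d⁻¹) = z ∧ q * (d * q * d⁻¹) = z * (d * q * d⁻¹ * q) ∧
      (d * (d * q * d⁻¹) * d⁻¹ = q * (d * q * d⁻¹) ∨
        d * (d * q * d⁻¹) * d⁻¹ = q * (d * q * d⁻¹) * z) := by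
  have dz := h.fix hd
  have hq1 := mem_normalizer_conj hd hq
  have a : d * q * d⁻¹ * (d * q * d⁻¹) = z := by rw [conj_mul, q2, dz]
  have a2 : d * (d * q * d⁻¹) * d⁻¹ * (d * (d * q * d⁻¹) * d⁻¹) = z := by rw [conj_mul, a, dz]
  have b := ((h.tri q hq _ hq1 q2 a).resolve_left n1).resolve_left n2
  refine ⟨a, b, ?_⟩
  have k := h3 q hq
  rcases h.en q hq _ hq1 q2 a b _ (mem_normalizer_conj hd hq1) with e | e | e | e | e | e | e | e
  · rw [e, one_mul] at a2; exact absurd a2.symm h.z1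
  · rw [e, h.z2] at a2; exact absurd a2.symm h.z1
  · rw [e] at k; exact absurd k n1
  · rw [e, cjm, dz] at k
    exact absurd (by rw [← congrArg (· * z) k, mul_assoc _ z z, h.z2, mul_one]) n2
  · exact absurd (by simpa using e) n1
  · rw [← dz, conj_mul, mul_left_inj, mul_right_inj] at e; exact absurd e n2
  · exact Or.inl e
  · exact Or.inr e

end Q8f

theorem cm_mul_zp (ha : u * z = z * u) (h1 : ⁅x, u⁆ ∈ zpowers z) (h2 : ⁅x, v⁆ ∈ zpowers z) :
    ⁅x, u * v⁆ ∈ zpowers z := by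
  have := mul_mem h1 (mem_normalizer_conj (ns_zp (mul_inv_eq_iff_eq_mul.2 ha)) h2)
  convert this using 1
  simp only [commutatorElement_def]; group

theorem fix_of_cm (z2 : z * z = 1) (i2 : i * i = z) (h : ⁅x, i⁆ ∈ zpowers z) :
    x * z * x⁻¹ = z := by
  have e : x * z * x⁻¹ = ⁅x, i⁆ * i * (⁅x, i⁆ * i) := by rw [← conj_eq_cm, conj_mul, i2]
  rcases (mem_zp z2).1 h with k | k <;> rw [e, k]
  · rw [one_mul, i2]
  · rw [← i2]
    calc i * i * i * (i * i * i) = i * i * (i * i) * (i * i) := by group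
      _ = i * i := by rw [i2, z2, one_mul]

theorem cm_sj (z2 : z * z = 1) (ij : i * j = z * (j * i))
    (sj : s * j * s⁻¹ = i * j ∨ s * j * s⁻¹ = j * i) : ⁅s, j⁆ * i⁻¹ ∈ zpowers z := by
  rw [commutatorElement_def]
  rcases sj with e | e <;> rw [e]
  · simp
  · rw [show j * i = z * (i * j) by rw [ij, ← mul_assoc, z2, one_mul]]
    simp [mul_assoc]

theorem GQ.qf (hT : IsPGroup 2 T) (h0 : GQ T) : ∃ P d s z i j, QF T P d s z i j := by
  obtain ⟨P, Q, d, s, ht, hg, ⟨e⟩⟩ := h0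
  obtain ⟨z, h⟩ := exists_q8f e
  have h3 := fun x (hx : x ∈ Q) => ht.ddd (hg.le hx)
  have dq := fun x (hx : x ∈ Q) => mem_normalizer_conj hg.dQ hx
  have dz := h.fix hg.dQ
  have nb : ∀ x, x ∈ Ns (⊥ : Subgroup G) := fun _ => ns_of (by simp)
  have dZ : ∀ u ∈ zpowers z, ⁅d, u⁆ ∈ (⊥ : Subgroup G) := fun u hu => by
    rcases (mem_zp h.z2).1 hu with rfl | rfl
    · simp
    · rw [commutatorElement_def, dz, mul_inv_cancel]; exact one_mem _
  obtain ⟨q, hq, q2, n1, n2⟩ : ∃ q ∈ Q, q * q = z ∧ d * q * d⁻¹ ≠ q ∧ d * q * d⁻¹ ≠ q * z := by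
    by_contra! k
    refine ht.dC (cs_of fun x hx => commutatorElement_eq_one_iff_mul_comm.1 (mem_bot.1 ?_))
    refine cop ht.pP ht.dN ht.d3 bot_le hg.le (fun _ _ => nb _) (nb _) hg.cm
      (cop (ht.pP.to_le hg.le) hg.dQ (cs_mono hg.le ht.d3) bot_le (zpowers_le.2 h.zQ)
        (fun _ _ => nb _) (nb _) (fun u hu => ?_) dZ) x hx
    rw [commutatorElement_def]
    rcases h.sq u hu with rfl | rfl | e
    · simp
    · rw [dz, mul_inv_cancel]; exact one_mem _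
    · by_cases e1 : d * u * d⁻¹ = u
      · rw [e1, mul_inv_cancel]; exact one_mem _
      · rw [k u hu e e1, h.zc u hu, mul_inv_cancel_right]; exact mem_zpowers z
  have mz : ∀ x, (d * x * d⁻¹ ≠ x ∧ d * x * d⁻¹ ≠ x * z) →
      d * (x * z) * d⁻¹ ≠ x * z ∧ d * (x * z) * d⁻¹ ≠ x * z * z := fun x k => by
    rw [cjm, dz]; simpa using k
  have md : ∀ x, (d * x * d⁻¹ ≠ x ∧ d * x * d⁻¹ ≠ x * z) → d * (d * x * d⁻¹) * d⁻¹ ≠ d * x * d⁻¹ ∧
      d * (d * x * d⁻¹) * d⁻¹ ≠ d * x * d⁻¹ * z := fun x k => by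
    rw [← dz, conj_mul]; simpa using k
  have mv : ∀ x ∈ Q, x * x = z → d * x * d⁻¹ ≠ x ∧ d * x * d⁻¹ ≠ x * z := fun x hx x2 => by
    obtain ⟨a, b, c⟩ := h.mov hg.dQ h3 hq q2 n1 n2
    have k2 := md _ (md q ⟨n1, n2⟩)
    have k3 : d * (q * (d * q * d⁻¹)) * d⁻¹ ≠ q * (d * q * d⁻¹) ∧
        d * (q * (d * q * d⁻¹)) * d⁻¹ ≠ q * (d * q * d⁻¹) * z := by
      rcases c with c | c
      · rwa [c] at k2
      · have := mz _ k2
        rwa [c, mul_assoc _ z z, h.z2, mul_one] at this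
    rcases h.en q hq _ (dq q hq) q2 a b x hx with rfl | rfl | rfl | rfl | rfl | rfl | rfl | rfl
    · exact absurd (x2.symm.trans (one_mul 1)) h.z1
    · exact absurd (x2.symm.trans h.z2) h.z1
    exacts [⟨n1, n2⟩, mz _ ⟨n1, n2⟩, md _ ⟨n1, n2⟩, mz _ (md _ ⟨n1, n2⟩), k3, mz _ k3]
  have mo := fun x (hx : x ∈ Q) x2 => h.mov hg.dQ h3 hx x2 (mv x hx x2).1 (mv x hx x2).2
  have cq : ∀ y ∈ Q, ⁅d, y⁆ ∈ Q := fun y hy => hg.cm y (hg.le hy)
  have u2 : ⁅d, q⁆ * ⁅d, q⁆ = z := by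
    rcases h.sq _ (cq q hq) with e | e | e
    · exact absurd (mul_inv_eq_one.1 e) n1
    · exact absurd ((mul_inv_eq_iff_eq_mul.1 e).trans (h.zc q hq).symm) n2
    · exact e
  have nQ : ∀ n, (∀ y ∈ Q, n * ⁅d, y⁆ * n⁻¹ ∈ Q) → n ∈ Ns Q := fun n hn => ns_of
    (h.ind (cq q hq) (dq _ (cq q hq)) u2 (mo _ (cq q hq) u2).1 (mo _ (cq q hq) u2).2.1
      (fun x => n * x * n⁻¹ ∈ Q) (fun a _ b ha hb => cjm n a b ▸ mul_mem ha hb) (hn q hq) (by
        have := hn _ (dq q hq)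
        convert this using 2
        simp only [commutatorElement_def]; group))
  have nP : P ≤ Ns Q := fun p hp => nQ p fun y hy => by
    have := mul_mem (inv_mem (hg.cm p hp)) (hg.cm _ (mul_mem hp (hg.le hy)))
    convert this using 1
    simp only [commutatorElement_def]; group
  have sQ : s ∈ Ns Q := nQ s fun y hy => by
    have := mem_normalizer_conj (inv_mem hg.dQ)
      (inv_mem (hg.cm _ (mem_normalizer_conj ht.sN (hg.le hy))))
    rw [commutatorElement_def, cjm, ht.sd (hg.le hy)]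
    convert this using 1
    group
  have nZ : Ns Q ≤ Ns (zpowers z) := fun n hn => ns_zp (h.fix hn)
  obtain ⟨w, hw, wZ, -, wc⟩ := GHA.exists_step ht.pP hg.le nP (nP.trans nZ) (fun k => by
    rcases (mem_zp h.z2).1 (k hq) with rfl | rfl
    exacts [h.z1 (q2.symm.trans (one_mul 1)), h.z1 (q2.symm.trans h.z2)])
  have w2 : w * w = z := by
    rcases h.sq w hw with rfl | rfl | e
    exacts [absurd (one_mem _) wZ, absurd (mem_zpowers _) wZ, e]
  have wT : w ∈ Tv (zpowers z) P := ⟨nZ (le_normalizer hw), fun p hp => by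
    rw [← commutatorElement_inv]; exact inv_mem (wc p hp)⟩
  have QT := h.ind hw (dq w hw) w2 (mo w hw w2).1 (mo w hw w2).2.1 (· ∈ Tv (zpowers z) P)
    (fun _ _ _ => mul_mem) wT (Tv_conj wT (nZ hg.dQ) ht.dN)
  have PT : P ≤ T ⊓ Tv (zpowers z) Q := fun p hp => ⟨ht.le hp, nZ (nP hp), fun y hy => by
    rw [← commutatorElement_inv]; exact inv_mem ((QT y hy).2 p hp)⟩
  have sq := fun x (hx : x ∈ Q) => mem_normalizer_conj sQ hx
  have sz := h.fix sQ
  have sd : ∀ x ∈ Q, s * (d * x * d⁻¹) * s⁻¹ = d * (d * (s * x * s⁻¹) * d⁻¹) * d⁻¹ := fun x hx => by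
    rw [ht.sd (hg.le hx), ht.dd (hg.le (sq x hx))]
  have cz : ∀ x, d * (x * z) * d⁻¹ = d * x * d⁻¹ * z := fun x => by rw [cjm, dz]
  obtain ⟨i, hi, i2, si⟩ : ∃ i ∈ Q, i * i = z ∧ (s * i * s⁻¹ = i ∨ s * i * s⁻¹ = i * z) := by
    obtain ⟨a, b, c⟩ := mo w hw w2
    have s2 : s * w * s⁻¹ * (s * w * s⁻¹) = z := by rw [conj_mul, w2, sz]
    have c1 : s * w * s⁻¹ = d * w * d⁻¹ ∨ s * w * s⁻¹ = d * w * d⁻¹ * z →
        ∃ i ∈ Q, i * i = z ∧ (s * i * s⁻¹ = i ∨ s * i * s⁻¹ = i * z) := fun e => by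
      refine ⟨_, dq _ (dq _ hw), (mo _ (dq w hw) a).1, ?_⟩
      rw [sd _ (dq _ hw), sd _ hw]
      rcases e with e | e <;> simp only [e, cz, h3 w hw, true_or, or_true]
    have c2 : s * w * s⁻¹ = d * (d * w * d⁻¹) * d⁻¹ ∨ s * w * s⁻¹ = d * (d * w * d⁻¹) * d⁻¹ * z →
        ∃ i ∈ Q, i * i = z ∧ (s * i * s⁻¹ = i ∨ s * i * s⁻¹ = i * z) := fun e => by
      refine ⟨_, dq _ hw, a, ?_⟩
      rw [sd _ hw]
      rcases e with e | e <;> simp only [e, cz, h3 w hw, true_or, or_true]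
    rcases h.en w hw _ (dq w hw) w2 a b _ (sq w hw) with e | e | e | e | e | e | e | e
    · rw [e, one_mul] at s2; exact absurd s2.symm h.z1
    · rw [e, h.z2] at s2; exact absurd s2.symm h.z1
    · exact ⟨w, hw, w2, Or.inl e⟩
    · exact ⟨w, hw, w2, Or.inr e⟩
    · exact c1 (Or.inl e)
    · exact c1 (Or.inr e)
    · rcases c with c | c
      · exact c2 (Or.inl (e.trans c.symm))
      · exact c2 (Or.inr (by rw [c, e, mul_assoc _ z z, h.z2, mul_one]))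
    · rcases c with c | c
      · exact c2 (Or.inr (by rw [c, e]))
      · exact c2 (Or.inl (e.trans c.symm))
  obtain ⟨j2, ij, dj⟩ := mo i hi i2
  have hj := dq i hi
  have sj := sd i hi
  obtain ⟨j, di⟩ : ∃ j, d * i * d⁻¹ = j := ⟨_, rfl⟩
  rw [di] at j2 ij dj hj sj
  have ji : i * j * z = j * i := by
    rw [h.zc _ (mul_mem hi hj), ij, ← mul_assoc, h.z2, one_mul]
  have ji' : j * i * z = i * j := by rw [← ji, mul_assoc, h.z2, mul_one]
  rw [ji] at dj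
  have sj' : s * j * s⁻¹ = i * j ∨ s * j * s⁻¹ = j * i := by
    rcases si with e | e
    · rwa [sj, e, di]
    · rw [sj, e, cz, di, cz]
      rcases dj with e | e <;> rw [e]
      exacts [Or.inr ji, Or.inl ji']
  have eP : T ⊓ Tv (zpowers z) Q ≤ P := by
    by_contra k
    have : Fact (Nat.Prime 2) := ⟨Nat.prime_two⟩
    obtain ⟨x, ⟨⟨x1, x2⟩, x3⟩, x4⟩ := SetLike.exists_of_lt (Block.lt_inf_normalizer_of_lt
      (hT.to_le inf_le_left) (lt_of_le_not_ge PT k))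
    have x5 := ((Tv _ _).mul_mem_cancel_left x2).1 (PT ((ht.idx x x1 x3).resolve_left x4)).2
    rcases (mem_zp h.z2).1 (inv_mem_iff.1 (((zpowers z).mul_mem_cancel_left (x5.2 j hj)).1
      (cm_sj h.z2 ij sj'))) with rfl | rfl
    exacts [h.z1 (i2.symm.trans (one_mul 1)), h.z1 (i2.symm.trans h.z2)]
  have nc : i * j ≠ j * i := fun e => h.z1 (left_eq_mul.1 (by rw [ji, e] : i * j * z = i * j).symm)
  refine ⟨P, d, s, z, i, j, ht, h.z1, h.z2, i2, j2, ij, hg.le hi, di, dj, si.imp_right fun e => ?_,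
    sj', fun x hx => ⟨fun k => ⟨(PT k).2.2 i hi, (PT k).2.2 j hj⟩, fun k => eP ⟨hx,
      ns_zp (fix_of_cm h.z2 i2 k.1), h.ind hi hj i2 j2 ij (fun y => ⁅x, y⁆ ∈ zpowers z)
        (fun a ha _ => cm_mul_zp (h.zc a ha)) k.1 k.2⟩⟩, fun c hc c1 c2 => ?_⟩
  · rw [e, eq_inv_iff_mul_eq_one, mul_assoc, ← h.zc i hi, ← mul_assoc, i2, h.z2]
  · refine commutatorElement_eq_one_iff_mul_comm.1 (mem_bot.1 (cop (U := P ⊓ Cs Q)
      (ht.pP.to_le inf_le_left) (ns_of fun x hx => ⟨ht.dP hx.1, cs_ns hx.2 hg.dQ⟩)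
      (cs_mono inf_le_left ht.d3) bot_le
      (zpowers_le.2 ⟨hg.le h.zQ, cs_of fun x hx => (h.zc x hx).symm⟩) (fun _ _ => nb _) (nb _)
      (fun u hu => ?_) dZ c ⟨hc, cs_of (h.ind hi hj i2 j2 ij (fun y => c * y = y * c)
        (fun a _ b ha hb => by rw [← mul_assoc, ha, mul_assoc, hb, mul_assoc]) c1 c2)⟩))
    have r1 : ⁅d, u⁆ ∈ Q := hg.cm u hu.1
    have r2 : ⁅d, u⁆ ∈ Cs Q := mul_mem (cs_ns hu.2 hg.dQ) (inv_mem hu.2)
    generalize ⁅d, u⁆ = r at r1 r2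
    rcases h.sq r r1 with rfl | rfl | e
    · exact one_mem _
    · exact mem_zpowers _
    · have a := cs_comm r2 hj
      rcases h.tri i hi r r1 i2 e with rfl | rfl | e
      · exact absurd a nc
      · rw [mul_assoc, ← h.zc j hj, ← mul_assoc, ← mul_assoc, mul_left_inj] at a
        exact absurd a nc
      · rw [cs_comm r2 hi] at e
        exact absurd (right_eq_mul.1 e) h.z1

theorem sq_comm (z2 : z * z = 1) (pz : p * z * p⁻¹ = z) (h : ⁅p, i⁆ ∈ zpowers z) :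
    p * p * i = i * (p * p) := by
  have e : p * (p * i * p⁻¹) * p⁻¹ = i := by
    rcases (mem_zp z2).1 h with k | k
    · rw [conj_eq_cm p i, k, one_mul, conj_eq_cm p i, k, one_mul]
    · rw [conj_eq_cm p i, k, cjm, pz, conj_eq_cm p i, k, ← mul_assoc, z2, one_mul]
  calc p * p * i = p * (p * i * p⁻¹) * p⁻¹ * (p * p) := by group
    _ = _ := by rw [e]

theorem QF.phi (h0 : QF T P d s z i j) (hq : q ∈ Phi P) : q * i = i * q ∧ q * j = j * q := by
  have := (Phi_le_iff (K := C1 i ⊓ C1 j)).2 (fun x hx => by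
    obtain ⟨a, b⟩ := (h0.mem x (h0.le hx)).1 hx
    have e := fix_of_cm h0.z2 h0.i2 a
    exact ⟨mem_centralizer_singleton_iff.2 (sq_comm h0.z2 e a),
      mem_centralizer_singleton_iff.2 (sq_comm h0.z2 e b)⟩) hq
  exact ⟨mem_centralizer_singleton_iff.1 this.1, mem_centralizer_singleton_iff.1 this.2⟩

theorem QF.hN (h0 : QF T P d s z i j) (hx : x ∈ T) (h1 : x ∈ Ns P) :
    x * z = z * x ∧ ⁅x, i⁆ ∈ zpowers z ∧ (⁅x, j⁆ ∈ zpowers z ∨ i * ⁅x, j⁆ ∈ zpowers z) := by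
  rcases h0.idx x hx h1 with h | h
  · obtain ⟨a, b⟩ := (h0.mem x hx).1 h
    exact ⟨mul_inv_eq_iff_eq_mul.1 (fix_of_cm h0.z2 h0.i2 a), a, Or.inl b⟩
  · obtain ⟨a, b⟩ := (h0.mem _ (h0.le h)).1 h
    have si : ⁅s, i⁆ ∈ zpowers z := by
      rw [commutatorElement_def]
      rcases h0.si with e | e <;> rw [e]
      · rw [mul_inv_cancel]; exact one_mem _
      · rw [← mul_inv_rev, h0.i2]; exact inv_mem (mem_zpowers z)
    have xN : x ∈ Ns (zpowers z) := ((Ns _).mul_mem_cancel_right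
      (ns_zp (fix_of_cm h0.z2 h0.i2 si))).1 (ns_zp (fix_of_cm h0.z2 h0.i2 a))
    have xi : ⁅x, i⁆ ∈ zpowers z := by
      have := mul_mem (inv_mem (mem_normalizer_conj xN si)) a
      convert this using 1
      simp only [commutatorElement_def]; group
    refine ⟨mul_inv_eq_iff_eq_mul.1 (fix_of_cm h0.z2 h0.i2 xi), xi, Or.inr ?_⟩
    have := mul_mem (mul_mem (inv_mem xi)
      (inv_mem (mem_normalizer_conj xN (cm_sj h0.z2 h0.ij h0.sj)))) b
    convert this using 1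
    simp only [commutatorElement_def]; group

end Cfsg.Lib.GHM
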