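import Cfsg.Agent.GHM.DhA
import Cfsg.Agent.GHM.Tp
import Cfsg.Agent.Solv.PGroupNormal

/-!
# The shape of a 2-group of sectional rank four in which the involution `z` is not central
-/

set_option autoImplicit false

namespace Cfsg.Lib.GHM

open Subgroup Cfsg.Lib.Trans Cfsg.Lib.Gold Cfsg.Lib.GHB
open scoped commutatorElement

universe u

variable {G : Type u} [Group G] {T M Q Q' K : Subgroup G} {a b g t u u' x y y' z z' : G} {k : ℕ}

namespace Shp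

theorem phi_conj (h : ∀ x ∈ Q, g * x * g⁻¹ ∈ Q') : ∀ x ∈ Phi Q, g * x * g⁻¹ ∈ Phi Q' := fun _ hx =>
  (Phi_le_iff.2 fun x hx => by
    have := sq_mem_Phi (h x hx)
    change g * (x * x) * g⁻¹ ∈ Phi Q'
    rwa [show g * x * g⁻¹ * (g * x * g⁻¹) = g * (x * x) * g⁻¹ by group] at this :
    Phi Q ≤ (Phi Q').comap (MulAut.conj g).toMonoidHom) hx

theorem phi_mono (h : Q ≤ Q') : Phi Q ≤ Phi Q' := Phi_le_iff.2 fun _ hx => sq_mem_Phi (h hx)

theorem ea_phi (Q : Subgroup G) : EA (Phi Q) Q :=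
  ⟨Phi_le, fun _ => sq_mem_Phi, fun _ hx => phi_conj fun _ hy =>
    mul_mem (mul_mem hx hy) (inv_mem hx)⟩

theorem eq_bot_of_le_phi [Finite G] (hK : IsPGroup 2 K) (h : K ≤ Phi K) : K = ⊥ := by
  by_contra hn
  obtain ⟨L, -, h1, -, h2⟩ := Solv.PG.exists_le_card_eq_prime_mul hK (bot_lt_iff_ne_bot.2 hn)
  exact h1.not_ge (h.trans (Phi_le_iff.2 fun _ hx => (C0.idx_of_card h1.le h2).mul_self_mem hx))

theorem mem_C {c : G} : c ∈ M ⊓ C1 y ↔ c ∈ M ∧ c * y = y * c :=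
  mem_inf.trans (and_congr_right' mem_centralizer_singleton_iff)

/-- Two commuting dihedral configurations inside `M`. -/
structure Pr (M : Subgroup G) (z y u z' y' : G) : Prop where
  zM : z ∈ M
  yM : y ∈ M
  uM : u ∈ M
  zc : ∀ x ∈ M, x * z = z * x
  z2 : z * z = 1
  y2 : y * y = 1
  uy : u * y * u⁻¹ = z * y
  uy' : u * y' = y' * u
  yy : y * y' = y' * y
  phi : z ∉ Phi (M ⊓ C1 y)

theorem Pr.cm (h : Pr M z y u z' y') : ⁅u, y⁆ = z := by
  rw [commutatorElement_def, h.uy, mul_inv_cancel_right]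

theorem Pr.z1 (h : Pr M z y u z' y') : z ≠ 1 := fun e => h.phi (e ▸ one_mem _)

theorem Pr.nC (h : Pr M z y u z' y') :
    ∀ x ∈ M ⊓ C1 y ⊓ C1 y', u * x * u⁻¹ ∈ M ⊓ C1 y ⊓ C1 y' := fun x hx => by
  obtain ⟨hx, e2⟩ := mem_C.1 hx
  obtain ⟨hx, e1⟩ := mem_C.1 hx
  have e : u * (z * y) * u⁻¹ = y := by
    rw [← mul_assoc, h.zc u h.uM, mul_assoc z, mul_assoc z, h.uy, ← mul_assoc, h.z2, one_mul]
  refine mem_C.2 ⟨mem_C.2 ⟨mul_mem (mul_mem h.uM hx) (inv_mem h.uM), ?_⟩, ?_⟩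
  · calc _ = u * ((x * z) * y) * u⁻¹ := by conv_lhs => rw [← e]
                                           group
      _ = u * (z * y) * u⁻¹ * (u * x * u⁻¹) := by rw [h.zc x hx, mul_assoc z, e1]; group
      _ = _ := by rw [e]
  · calc _ = u * x * (u⁻¹ * (y' * u)) * u⁻¹ := by group
      _ = u * (x * y') * u⁻¹ := by rw [← h.uy']; group
      _ = _ := by rw [e2, ← mul_assoc, h.uy']; group

theorem cent [Finite G] (h4 : SectionalPRankLE 2 4 G) (hM : IsPGroup 2 M) (h : Pr M z y u z' y')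
    (h' : Pr M z' y' u' z y) : M ⊓ C1 y ⊓ C1 y' ≤ F4 z z' ⊔ zpowers y ⊔ zpowers y' := by
  have nu := phi_conj h.nC
  have nu' := phi_conj h'.nC
  have l1 : M ⊓ C1 y ⊓ C1 y' ≤ M ⊓ C1 y := inf_le_left
  have l2 : M ⊓ C1 y ⊓ C1 y' ≤ M ⊓ C1 y' := inf_le_inf_right _ inf_le_left
  have mC : ∀ x ∈ M, x * y = y * x → x * y' = y' * x → x ∈ M ⊓ C1 y ⊓ C1 y' :=
    fun x h1 h2 h3 => mem_C.2 ⟨mem_C.2 ⟨h1, h2⟩, h3⟩
  have cy : ∀ x ∈ M ⊓ C1 y ⊓ C1 y', x * y = y * x := fun x hx => (mem_C.1 (l1 hx)).2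
  have cy' : ∀ x ∈ M ⊓ C1 y ⊓ C1 y', x * y' = y' * x := fun x hx => (mem_C.1 hx).2
  have cM : M ⊓ C1 y ⊓ C1 y' ≤ M := l1.trans inf_le_left
  rw [inf_right_comm] at nu'
  generalize M ⊓ C1 y ⊓ C1 y' = C at *
  have zC := mC z h.zM (h.zc _ h.yM).symm (h.zc _ h'.yM).symm
  have zC' := mC z' h'.zM (h'.zc _ h.yM).symm (h'.zc _ h'.yM).symm
  have yC := mC y h.yM rfl h.yy
  have yC' := mC y' h'.yM h'.yy rfl
  have ea := ea_phi C
  let E := F4 z z' ⊔ zpowers y ⊔ zpowers y'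
  let p : Subgroup G → Prop := fun B => Phi C ≤ B ∧ B ≤ C ∧
    ∀ c ∈ B, ∃ e ∈ E, e * e = 1 ∧ (∀ x ∈ C, x * e = e * x) ∧ e⁻¹ * c ∈ Phi C
  have nrm : ∀ {B g}, p B → g ∈ C → ∀ b ∈ B, g * b * g⁻¹ ∈ B := fun hB hg =>
    conj_of_comm hB.1 fun b hb => ea.comm hg (hB.2.1 hb)
  have step : ∀ {B g}, p B → g ∈ C → g ∈ E → g * g = 1 → (∀ x ∈ C, x * g = g * x) →
      p (B ⊔ zpowers g) := fun {B g} hB hg hE g2 gc =>
    ⟨hB.1.trans le_sup_left, sup_le hB.2.1 (zpowers_le.2 hg), fun c hc => by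
      rcases (mem_adj (nrm hB hg) (hB.1 (ea.sq g hg))).1 hc with e | e
      · exact hB.2.2 c e
      · obtain ⟨e, h1, h2, h3, h5⟩ := hB.2.2 _ e
        refine ⟨g * e, mul_mem hE h1, ?_, fun x hx => ?_, by simpa [mul_assoc] using h5⟩
        · rw [mul_assoc, ← mul_assoc e, ← h3 g hg, mul_assoc, h2, mul_one, g2]
        · rw [← mul_assoc, gc x hx, mul_assoc, h3 x hx, mul_assoc]⟩
  have cma : ∀ {B g a}, p B → g ∈ C → (∀ b ∈ B, ⁅a, b⁆ ∈ Phi C) → a * g = g * a →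
      ∀ b ∈ B ⊔ zpowers g, ⁅a, b⁆ ∈ Phi C := fun hB hg h1 h2 =>
    (ea.sub hB.1 hB.2.1).comm_adj (fun b hb => ea.comm hg (hB.2.1 hb)) (ea.sq _ hg) h1
      (commutatorElement_eq_one_iff_mul_comm.2 h2 ▸ one_mem _)
  have p0 : p (Phi C) := ⟨le_rfl, ea.le, fun c hc => ⟨1, one_mem _, by simp, by simp, by simpa⟩⟩
  have p1 := step p0 zC (mem_sup_left (mem_sup_left (mem_sup_left (mem_zpowers z)))) h.z2
    fun x hx => h.zc x (cM hx)
  have p2 := step p1 zC' (mem_sup_left (mem_sup_left (mem_sup_right (mem_zpowers z')))) h'.z2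
    fun x hx => h'.zc x (cM hx)
  have p3 := step p2 yC (mem_sup_left (mem_sup_right (mem_zpowers y))) h.y2 cy
  have p4 := step p3 yC' (mem_sup_right (mem_zpowers y')) h'.y2 cy'
  have n1 : z ∉ Phi C := fun e => h.phi (phi_mono l1 e)
  have n1' : z' ∉ Phi C := fun e => h'.phi (phi_mono l2 e)
  have n2 : z' ∉ Phi C ⊔ zpowers z := fun e => by
    rcases (mem_adj (nrm p0 zC) (ea.sq z zC)).1 e with e | e
    · exact n1' e
    · have := (ea_phi (M ⊓ C1 y)).comm (mem_C.2 ⟨h'.uM, h'.uy'⟩) (l1 yC')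
      rw [h'.cm] at this
      exact h.phi (inv_mem_iff.1 ((mul_mem_cancel_right this).1 (phi_mono l1 e)))
  have n3 : y ∉ Phi C ⊔ zpowers z ⊔ zpowers z' := fun e => n1 (h.cm ▸ cma p1 zC' (cma p0 zC
    (fun b hb => mul_mem (nu b hb) (inv_mem hb)) (h.zc u h.uM)) (h'.zc u h.uM) y e)
  have n4 : y' ∉ Phi C ⊔ zpowers z ⊔ zpowers z' ⊔ zpowers y := fun e => n1' (h'.cm ▸ cma p2 yC
    (cma p1 zC' (cma p0 zC (fun b hb => mul_mem (nu' b hb) (inv_mem hb)) (h.zc u' h'.uM))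
      (h'.zc u' h'.uM)) h'.uy' y' e)
  have hC := eq_of_le_of_card_ge p4.2.1 (by
    rw [card_adj (nrm p3 yC') (p3.1 (ea.sq _ yC')) n4, card_adj (nrm p2 yC) (p2.1 (ea.sq _ yC)) n3,
      card_adj (nrm p1 zC') (p1.1 (ea.sq _ zC')) n2, card_adj (nrm p0 zC) (ea.sq _ zC) n1]
    have := ea.card_le h4
    omega)
  have dec := p4.2.2
  rw [hC] at dec
  have hK : Phi C = ⊥ := eq_bot_of_le_phi (hM.to_le (ea.le.trans cM)) (Phi_le_iff.2 fun c hc => by
    obtain ⟨e, -, h2, h3, h5⟩ := dec c hc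
    have := sq_mem_Phi h5
    rwa [inv_eq_of_mul_eq_one_right h2, mul_assoc, ← mul_assoc c, h3 c hc, ← mul_assoc,
      ← mul_assoc, h2, one_mul] at this)
  intro c hc
  obtain ⟨e, h1, -, -, h5⟩ := dec c hc
  rw [hK, mem_bot, inv_mul_eq_one] at h5
  exact h5 ▸ h1

theorem inV (h : Pr M z y u z' y') (h' : Pr M z' y' u' z y)
    (hg : g ∈ F4 z z' ⊔ zpowers y ⊔ zpowers y') (h1 : ⁅u, g⁆ ≠ z) (h2 : ⁅u', g⁆ ≠ z') :
    g ∈ F4 z z' := by
  have cV : ∀ x ∈ M, ∀ e ∈ F4 z z', x * e = e * x := fun x hx e he =>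
    (mem_centralizer_singleton_iff.1 ((sup_le
      (zpowers_le.2 (mem_centralizer_singleton_iff.2 (h.zc x hx).symm))
      (zpowers_le.2 (mem_centralizer_singleton_iff.2 (h'.zc x hx).symm)) : F4 z z' ≤ C1 x) he)).symm
  have n1 : ∀ e ∈ F4 z z', y * e * y⁻¹ ∈ F4 z z' := fun e he => by
    rwa [cV y h.yM e he, mul_inv_cancel_right]
  have n2 : ∀ e ∈ F4 z z' ⊔ zpowers y, y' * e * y'⁻¹ ∈ F4 z z' ⊔ zpowers y :=
    C0.conj_adj (fun e he => by rw [cV y' h'.yM e he, mul_inv_cancel_right]; exact mem_sup_left he)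
      (by rw [h'.yy, mul_inv_cancel_right]; exact mem_sup_right (mem_zpowers y))
  have key : ∀ {x c e : G}, x * e = e * x → ⁅x, c * e⁆ = ⁅x, c⁆ := fun {x c e} he => by
    calc _ = x * c * (e * x⁻¹ * e⁻¹) * c⁻¹ := by rw [commutatorElement_def]; group
      _ = _ := by rw [← (show Commute x e from he).inv_left.eq, commutatorElement_def]; group
  rcases (mem_adj n2 (h'.y2 ▸ one_mem _)).1 hg with e | e <;>
    rcases (mem_adj n1 (h.y2 ▸ one_mem _)).1 e with e | e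
  · exact e
  · exact absurd (by rw [← mul_inv_cancel_left y g, key (cV u h.uM _ e), h.cm]) h1
  · exact absurd (by rw [← mul_inv_cancel_left y' g, key (cV u' h'.uM _ e), h'.cm]) h2
  · exact absurd (by rw [← mul_inv_cancel_left y' g, ← mul_inv_cancel_left y (y'⁻¹ * g),
      ← mul_assoc, key (cV u' h'.uM _ e), key h'.uy', h'.cm]) h2

theorem rf_cj (hy : Rf a b y) : Rf (t * a * t⁻¹) (t * b * t⁻¹) (t * y * t⁻¹) := by
  obtain ⟨j, rfl⟩ := hy
  exact ⟨j, by rw [conj_zpow]; group⟩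

theorem dl_cj : t * y * t⁻¹ ∈ Dl (t * a * t⁻¹) (t * b * t⁻¹) ↔ y ∈ Dl a b := by
  rw [Dl, ← cj_zpowers, ← cj_zpowers, ← cj_sup, conj_mem_cj]

end Shp

open Shp

theorem shape [Finite G] (h4 : SectionalPRankLE 2 4 G) (hT : IsPGroup 2 T)
    (h0 : Dh (T ⊓ C1 z) k a b z) (phi : z ∉ Phi (T ⊓ C1 z ⊓ C1 b))
    (hN : ∀ x ∈ T, x ∈ Ns (T ⊓ C1 z ⊓ C1 b) → x * z = z * x) :
    T ≤ C1 z ∨ ∃ t, Sh T k a b z t := by
  refine or_iff_not_imp_left.2 fun hn => ?_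
  have MT : T ⊓ C1 z ≤ T := inf_le_left
  have mM : ∀ {x}, x ∈ T ⊓ C1 z ↔ x ∈ T ∧ x * z = z * x := mem_C
  generalize T ⊓ C1 z = M at *
  have hM := hT.to_le MT
  obtain ⟨t, tT, tM, tN, t2, -⟩ := Solv.PG.exists_step_elt hM hT le_normalizer
    (MT.trans le_normalizer) (MT.lt_of_ne fun e => hn fun x hx =>
      mem_centralizer_singleton_iff.2 (mM.1 (e ▸ hx)).2)
  rw [pow_two] at t2
  have tz : t * z ≠ z * t := fun e => tM (mM.2 ⟨tT, e⟩)
  have h0' := h0.cj t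
  rw [cj_eq_of_mem_normalizer tN] at h0'
  have zz : z ≠ t * z * t⁻¹ := fun e => tz (by rw [← mul_inv_eq_iff_eq_mul, ← e])
  have ttz : t * (t * z * t⁻¹) * t⁻¹ = z := by
    calc _ = t * t * z * (t * t)⁻¹ := by group
      _ = z := by rw [h0.zc t2, mul_inv_cancel_right]
  have dis : ∀ x ∈ Dl a b, x ∈ Dl (t * a * t⁻¹) (t * b * t⁻¹) → x = 1 := by
    by_contra hc
    obtain ⟨x, hx, h1, -, h2⟩ := Solv.PG.exists_mem_centralizer_orderOf_eq hM
      (hM.to_le (inf_le_left.trans h0.le : Dl a b ⊓ Dl (t * a * t⁻¹) (t * b * t⁻¹) ≤ M))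
      (fun m hm => mem_normalizer_fintype fun x hx =>
        ⟨mem_normalizer_conj (h0.nrm hm) hx.1, mem_normalizer_conj (h0'.nrm hm) hx.2⟩)
      (fun e => hc fun x h1 h2 => mem_bot.1 (e ▸ mem_inf.2 ⟨h1, h2⟩))
    have x1 : x ≠ 1 := fun e => by simp [e] at h2
    exact zz (((h0.cen hx.1 h1).resolve_left x1).symm.trans ((h0'.cen hx.2 h1).resolve_left x1))
  have com : ∀ x ∈ Dl a b, ∀ y ∈ Dl (t * a * t⁻¹) (t * b * t⁻¹), x * y = y * x :=
    fun x hx y hy => commutatorElement_eq_one_iff_mul_comm.1 (dis _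
      (by simpa [commutatorElement_def, mul_assoc] using
        mul_mem hx (mem_normalizer_conj (h0'.le.trans h0.nrm hy) (inv_mem hx)))
      (mul_mem (mem_normalizer_conj (h0.le.trans h0'.nrm hx) hy) (inv_mem hy)))
  have back : ∀ {g y c : G}, g ∈ Ns M → g * c * g⁻¹ ∈ Phi (M ⊓ C1 (g * y * g⁻¹)) →
      c ∈ Phi (M ⊓ C1 y) := fun {g y c} hg e => by
    have := phi_conj (g := g⁻¹) (Q' := M ⊓ C1 y) (fun x hx => mem_C.2
      ⟨mem_normalizer_conj (inv_mem hg) (mem_C.1 hx).1, by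
        calc _ = g⁻¹ * (x * (g * y * g⁻¹)) * g := by group
          _ = _ := by rw [(mem_C.1 hx).2]; group⟩) _ e
    simpa [mul_assoc] using this
  have nphi : ∀ {y}, Rf a b y → z ∉ Phi (M ⊓ C1 y) := fun hy e => by
    obtain ⟨g, hg, rfl⟩ := h0.rft hy
    exact phi (back (le_normalizer hg) (by rwa [h0.zc hg, mul_inv_cancel_right]))
  have s1 : ∀ y y', Rf a b y → Rf (t * a * t⁻¹) (t * b * t⁻¹) y' →
      ∃ u ∈ M, u * y * u⁻¹ = z * y ∧ u * y' = y' * u := by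
    intro y y' hy hy'
    rcases k with _ | k
    · have az : a = z := by simpa using h0.za
      have az' : t * a * t⁻¹ = t * z * t⁻¹ := by rw [az]
      have two : ∀ {a b z y : G}, a = z → z * z = 1 → Rf a b y → y = b ∨ y = z * b :=
        fun {a b z y} e h2 ⟨j, hj⟩ =>
          ((mem_zp h2).1 (show a ^ j ∈ zpowers z from e ▸ zpow_mem_zpowers a j)).imp
          (fun e' => by rw [hj, e', one_mul]) fun e' => by rw [hj, e']
      obtain ⟨u, hu, u1, u2⟩ : ∃ u ∈ M, u * b * u⁻¹ = z * b ∧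
          u * (t * b * t⁻¹) = t * b * t⁻¹ * u := by
        by_contra hc
        push Not at hc
        refine tz (hN t tT (mem_normalizer_fintype fun x hx => ?_))
        have m := mem_normalizer_conj tN (mem_C.1 hx).1
        refine mem_C.2 ⟨m, mul_inv_eq_iff_eq_mul.1 ((two az h0.z2 (h0.rfc ⟨0, by simp⟩ m)).resolve_right
          fun e => hc _ m e ?_)⟩
        calc _ = t * (x * b) * t⁻¹ := by group
          _ = _ := by rw [(mem_C.1 hx).2]; group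
      refine ⟨u, hu, ?_, ?_⟩
      · rcases two az h0.z2 hy with e | e <;> rw [e]
        · exact u1
        · rw [← mul_assoc, h0.zc hu, mul_assoc z, mul_assoc z, u1]
      · rcases two az' h0'.z2 hy' with e | e <;> rw [e]
        · exact u2
        · rw [← mul_assoc, h0'.zc hu, mul_assoc, u2, ← mul_assoc]
    · have m : a ^ 2 ^ k ∈ Dl a b := mem_sup_left (pow_mem (mem_zpowers a) _)
      exact ⟨_, h0.le m, by rw [(h0.x8 hy).uv]; group, com _ m _ (h0'.mem.2 (.inr hy'))⟩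
  have pr : ∀ y y', Rf a b y → Rf a b y' → ∃ u u', Pr M z y u (t * z * t⁻¹) (t * y' * t⁻¹) ∧
      Pr M (t * z * t⁻¹) (t * y' * t⁻¹) u' z y := by
    intro y y' hy hy'
    obtain ⟨u, hu, u1, u2⟩ := s1 y _ hy (rf_cj hy')
    obtain ⟨u', hu', u1', u2'⟩ := s1 y' _ hy' (rf_cj (h0.rfc hy (inv_mem t2)))
    have m := h0.mem.2 (.inr hy)
    have m' := h0'.mem.2 (.inr (rf_cj hy'))
    refine ⟨u, t * u' * t⁻¹, ⟨h0.zH, h0.le m, hu, fun _ => h0.zc, h0.z2, h0.rf2 hy, u1, u2,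
      com _ m _ m', nphi hy⟩, h0'.zH, h0'.le m', mem_normalizer_conj tN hu', fun _ => h0'.zc,
      h0'.z2, h0'.rf2 (rf_cj hy'), ?_, ?_, (com _ m _ m').symm, fun e => nphi hy' (back tN e)⟩
    · calc _ = t * (u' * y' * u'⁻¹) * t⁻¹ := by group
        _ = _ := by rw [u1']; group
    · calc _ = t * (u' * (t * ((t * t)⁻¹ * y * (t * t)⁻¹⁻¹) * t⁻¹)) * t⁻¹ := by group
        _ = _ := by rw [u2']; group
  obtain ⟨u, u', p, p'⟩ := pr b b ⟨0, by simp⟩ ⟨0, by simp⟩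
  have zc' := h0'.zc h0.zH
  have m4 : ∀ {x}, x ∈ F4 z (t * z * t⁻¹) ↔ _ := mem_F4 h0.z2 h0'.z2 zc'
  have ζ2 : z * (t * z * t⁻¹) * (z * (t * z * t⁻¹)) = 1 := by
    rw [mul_assoc, ← mul_assoc _ z, ← zc', mul_assoc, h0'.z2, mul_one, h0.z2]
  have ζc : ∀ x ∈ T, x * (z * (t * z * t⁻¹)) = z * (t * z * t⁻¹) * x := by
    obtain ⟨c, hc, h1, -, h2⟩ := Solv.PG.exists_mem_centralizer_orderOf_eq hT hT le_normalizer
      (fun e => h0.z1 (mem_bot.1 (e ▸ MT h0.zH)))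
    have cc := mem_Cs.1 h1
    have := inV p p' (cent h4 hM p p' (mem_C.2 ⟨mem_C.2 ⟨mM.2 ⟨hc, (cc z (MT h0.zH)).symm⟩,
      (cc b (MT p.yM)).symm⟩, (cc _ (MT p'.yM)).symm⟩))
      (by rw [commutatorElement_eq_one_iff_mul_comm.2 (cc u (MT p.uM))]; exact h0.z1.symm)
      (by rw [commutatorElement_eq_one_iff_mul_comm.2 (cc u' (MT p'.uM))]; exact h0'.z1.symm)
    rcases m4.1 this with e | e | e | e
    · simp [e] at h2
    · exact absurd (e ▸ cc t tT) tz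
    · exact absurd (ttz.symm.trans (by rw [← e, cc t tT, mul_inv_cancel_right])) zz
    · exact e ▸ cc
  have zD : z ∈ Dl a b := mem_sup_left h0.za'
  have zD' : t * z * t⁻¹ ∈ Dl (t * a * t⁻¹) (t * b * t⁻¹) := dl_cj.2 zD
  have hzz : ∀ y ∈ T, (∀ x ∈ T, ⁅x, y⁆ ∈ zpowers (z * (t * z * t⁻¹))) → y ∈ F4 z (t * z * t⁻¹) := by
    intro y hy hc
    have cc : ∀ x ∈ T, ∀ x' ∈ T, x' * ⁅y, x⁆ = ⁅y, x⁆ * x' := fun x hx x' hx' => by
      rcases (mem_zp ζ2).1 (inv_mem (hc x hx)) with e | e <;> rw [commutatorElement_inv] at e <;>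
        rw [e]
      · simp
      · exact ζc x' hx'
    have yM : y ∈ M := by
      refine mM.2 ⟨hy, mul_inv_eq_iff_eq_mul.1 ?_⟩
      have uT := MT p.uM
      have bT := MT p.yM
      have c1 := cc u uT
      have c2 := cc b bT
      have e : y * z * y⁻¹ = ⁅⁅y, u⁆ * u, ⁅y, b⁆ * b⁆ := by
        rw [← p.cm]; simp only [commutatorElement_def]; group
      have dT : ⁅y, b⁆ * b ∈ T := mul_mem (mul_mem (mul_mem (mul_mem hy bT) (inv_mem hy)) (inv_mem bT)) bT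
      rw [e]
      generalize ⁅y, u⁆ = d at *
      generalize ⁅y, b⁆ = d' at *
      calc _ = d * (u * (d' * b) * u⁻¹) * d⁻¹ * (d' * b)⁻¹ := by rw [commutatorElement_def]; group
        _ = (u * d') * b * u⁻¹ * b⁻¹ * d'⁻¹ := by
          rw [← c1 _ (mul_mem (mul_mem uT dT) (inv_mem uT))]; group
        _ = d' * z * d'⁻¹ := by rw [c2 u uT, ← p.cm, commutatorElement_def]; group
        _ = z := by rw [← c2 z (MT p.zM), mul_inv_cancel_right]
    have cb : ∀ {D : Subgroup G} {c}, c ∈ D → c ∈ T → M ≤ Ns D → z * (t * z * t⁻¹) ∉ D →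
        y * c = c * y := fun {D c} h1 h2 h3 h5 => by
      refine (commutatorElement_eq_one_iff_mul_comm.1 (((mem_zp ζ2).1 (hc c h2)).resolve_right
        fun e => h5 (e ▸ ?_))).symm
      simpa [commutatorElement_def, mul_assoc] using
        mul_mem h1 (mem_normalizer_conj (h3 yM) (inv_mem h1))
    refine inV p p' (cent h4 hM p p' (mem_C.2 ⟨mem_C.2 ⟨yM, cb (mem_sup_right (mem_zpowers b))
      (MT p.yM) h0.nrm fun e => h0'.z1 (dis _ ((mul_mem_cancel_left zD).1 e) zD')⟩,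
      cb (mem_sup_right (mem_zpowers _)) (MT p'.yM) h0'.nrm
        fun e => h0.z1 (dis _ zD ((mul_mem_cancel_right zD').1 e))⟩)) (fun e => ?_) fun e => ?_
    · rcases (mem_zp ζ2).1 (e ▸ hc u (MT p.uM)) with e | e
      · exact h0.z1 e
      · exact h0'.z1 (left_eq_mul.1 e)
    · rcases (mem_zp ζ2).1 (e ▸ hc u' (MT p'.uM)) with e | e
      · exact h0'.z1 e
      · exact h0.z1 (right_eq_mul.1 e)
  have swap : ∀ x ∈ T, x * z * x⁻¹ = z ∨ x * z * x⁻¹ = t * z * t⁻¹ := by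
    have zn : z ∉ zpowers (z * (t * z * t⁻¹)) := fun e =>
      ((mem_zp ζ2).1 e).elim h0.z1 fun e => h0'.z1 (left_eq_mul.1 e)
    obtain ⟨y, hy, y1, -, -, y2⟩ := Solv.PG.exists_step_elt hT hT
      (M := zpowers (z * (t * z * t⁻¹))) (fun x hx => mem_normalizer_fintype fun c hc => by
        rcases (mem_zp ζ2).1 hc with e | e <;> simp [e, ζc x hx]) le_normalizer
      ((zpowers_le.2 (MT (mul_mem h0.zH h0'.zH))).lt_of_ne fun e => zn (e ▸ MT h0.zH))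
    have y3 : ∀ x ∈ T, ⁅x, y⁆ ∈ zpowers (z * (t * z * t⁻¹)) := fun x hx => by
      simpa using inv_mem (y2 x (mem_sup_left hx))
    have y4 : ∀ x ∈ T, ⁅x, z⁆ ∈ zpowers (z * (t * z * t⁻¹)) := fun x hx => by
      rcases m4.1 (hzz y hy y3) with e | e | e | e
      · exact absurd (e ▸ one_mem _) y1
      · exact e ▸ y3 x hx
      · have := y3 x hx
        have e' : z = y * (z * (t * z * t⁻¹)) := by
          rw [e, ← mul_assoc, ← zc', mul_assoc, h0'.z2, mul_one]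
        rwa [show ⁅x, z⁆ = ⁅x, y⁆ by
          conv_lhs => rw [e']
          calc _ = x * y * ((z * (t * z * t⁻¹)) * x⁻¹) * (z * (t * z * t⁻¹))⁻¹ * y⁻¹ := by
                rw [commutatorElement_def]; group
            _ = _ := by rw [← ζc _ (inv_mem hx), commutatorElement_def]; group]
      · exact absurd (e ▸ mem_zpowers _) y1
    intro x hx
    refine ((mem_zp ζ2).1 (y4 x hx)).imp (fun e => ?_) fun e => ?_
    · rw [commutatorElement_eq_one_iff_mul_comm.1 e, mul_inv_cancel_right]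
    · rw [conj_eq_cm, e, zc', mul_assoc, h0.z2, mul_one]
  have eM : T ⊓ C1 z = M := by ext x; rw [mM, mem_C]
  refine ⟨t, eM ▸ h0, tT, tz, fun x hx x' hx' n n' => ?_, fun x hx y hy => com x hx _ (dl_cj.2 hy),
    fun x hx y hy e => dis x hx (e ▸ dl_cj.2 hy), fun y y' hy hy' => ?_,
    fun y y' hy hy' x hx e1 e2 e3 => ?_, hzz⟩
  · have f : ∀ x ∈ T, x ∉ T ⊓ C1 z → x * z * x⁻¹ = t * z * t⁻¹ := fun x hx n =>
      (swap x hx).resolve_left fun e => n (mem_C.2 ⟨hx, mul_inv_eq_iff_eq_mul.1 e⟩)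
    refine mem_C.2 ⟨mul_mem hx hx', ?_⟩
    have := (f _ (inv_mem hx) (by rwa [inv_mem_iff])).trans (f _ hx' n').symm
    calc _ = x * (x' * z * x'⁻¹) * x' := by group
      _ = _ := by rw [← this]; group
  · obtain ⟨u, hu, u1, u2⟩ := s1 y _ hy (rf_cj hy')
    exact ⟨u, MT hu, h0.zc hu, u1, u2⟩
  · obtain ⟨u, u', p, p'⟩ := pr y y' hy hy'
    exact (sup_le (sup_le (sup_le_sup le_sup_left le_sup_left) (le_sup_right.trans le_sup_left))
      (le_sup_right.trans le_sup_right) : _ ≤ F4 z y ⊔ F4 (t * z * t⁻¹) (t * y' * t⁻¹))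
      (cent h4 hM p p' (mem_C.2 ⟨mem_C.2 ⟨mM.2 ⟨hx, e1⟩, e2⟩, e3⟩))

end Cfsg.Lib.GHM
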