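import Cfsg.Agent.GHM.QF
import Cfsg.Agent.GHM.LemD
import Cfsg.Agent.GHM.Shape
import Cfsg.Agent.GHM.ShA
import Cfsg.Agent.Solv.SecRank

/-!
# Simple groups of sectional 2-rank at most four: the tower over a good quaternion group
-/

set_option autoImplicit false
set_option linter.unusedSectionVars false

namespace Cfsg.Lib.GHM

open Subgroup Cfsg.Lib.Trans Cfsg.Lib.Gold Cfsg.Lib.Rank2 Cfsg.Lib.GHB
open scoped commutatorElement

universe u

namespace QT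

variable {M X : Type u} [Group M] [Finite M] [Group X] [Finite X] {f : M →* X} {P K : Subgroup M}
  {a i j s w x y z : M} {k : ℕ}

/-- `f` is the quotient by the central involution `z = i ^ 2 = j ^ 2 = [i, j]`. -/
structure Br (f : M →* X) (z i j : M) : Prop where
  sur : Function.Surjective f
  ker : ∀ x, f x = 1 ↔ x ∈ zpowers z
  zc : ∀ x, x * z = z * x
  z1 : z ≠ 1
  z2 : z * z = 1
  i2 : i * i = z
  j2 : j * j = z
  ij : i * j = z * (j * i)

namespace Br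
variable (h : Br f z i j)
include h

theorem fz : f z = 1 := (h.ker z).2 (mem_zpowers z)

theorem cm : f x * f y = f y * f x ↔ ⁅x, y⁆ ∈ zpowers z := by
  rw [← h.ker, map_commutatorElement, commutatorElement_eq_one_iff_mul_comm]

theorem eq (e : f x = f y) : x = y ∨ x = z * y := by
  have := (mem_zp h.z2).1 ((h.ker (x * y⁻¹)).1 (by rw [map_mul, map_inv, e, mul_inv_cancel]))
  rwa [mul_inv_eq_one, mul_inv_eq_iff_eq_mul] at this

theorem pre (hz : z ∈ K) (hw : w ∈ K) (e : f y = f w) : y ∈ K := by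
  rcases h.eq e with rfl | rfl
  exacts [hw, mul_mem hz hw]

theorem nc : i * j ≠ j * i := fun e => h.z1 (by
  have := h.ij
  rwa [e, right_eq_mul] at this)

theorem qh {H : Subgroup X} (hH : ∀ x, x ∈ H) (hd : Dh H k (f a) (f j) (f i))
    (e : a ^ 2 ^ k = i) : Qh ⊤ k a j z := by
  have za : a ^ 2 ^ (k + 1) = z := by rw [pow_succ, pow_mul, e, sq, h.i2]
  have p : ∀ x, f x ∈ zpowers (f a) → x ∈ zpowers a := by
    rintro x ⟨m, hm⟩
    exact h.pre (za ▸ pow_mem (mem_zpowers a) _) (zpow_mem (mem_zpowers a) m)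
      (by rw [map_zpow]; exact hm.symm)
  have tr : ∀ m : ℤ, ∃ g : M, g * j * g⁻¹ = a ^ m * j := fun m => by
    obtain ⟨g, -, hg⟩ := hd.tr m
    obtain ⟨g, rfl⟩ := h.sur g
    rcases h.eq (x := a ^ m * j) (y := g * j * g⁻¹) (by simp [hg]) with e | e
    · exact ⟨g, e.symm⟩
    · refine ⟨g * i, ?_⟩
      calc g * i * j * (g * i)⁻¹ = g * (i * j) * i⁻¹ * g⁻¹ := by group
        _ = g * z * j * g⁻¹ := by rw [h.ij]; group
        _ = _ := by rw [e, h.zc g]; group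
  have : Fact (Nat.Prime 2) := ⟨Nat.prime_two⟩
  refine ⟨trivial, trivial, orderOf_eq_prime_pow (by rw [za]; exact h.z1)
    (by rw [pow_succ, pow_mul, za, sq, h.z2]), za, h.j2, ?_, fun hj => hd.bn ?_,
    fun g _ => ns_of fun x hx => p _ ?_, fun g _ => ?_, fun m => ?_⟩
  · obtain ⟨g, hg⟩ := tr 1
    rw [zpow_one] at hg
    have e1 : a * j * (a * j) = j * j := by
      rw [← hg, conj_mul, h.j2, h.zc g, mul_inv_cancel_right]
    calc j * a * j⁻¹ = a⁻¹ * (a * j * (a * j)) * j⁻¹ * j⁻¹ := by group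
      _ = _ := by rw [e1]; group
  · rw [← MonoidHom.map_zpowers]; exact mem_map_of_mem f hj
  · rw [map_mul, map_mul, map_inv]
    exact hd.ca (hH _) (by rw [← MonoidHom.map_zpowers]; exact mem_map_of_mem f hx)
  · obtain ⟨m, hm⟩ := p (g * j * g⁻¹ * j⁻¹) (by
      obtain ⟨m, hm⟩ := hd.cb (f g) (hH _)
      exact ⟨m, by simp [hm]⟩)
    exact ⟨m, by rw [show a ^ m = _ from hm]; group⟩
  · obtain ⟨g, hg⟩ := tr m
    exact ⟨g, trivial, hg⟩

theorem core (h4 : SectionalPRankLE 2 4 X) (h2 : IsPGroup 2 X) (si : ⁅s, i⁆ ∈ zpowers z)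
    (sj : s * j * s⁻¹ = i * j ∨ s * j * s⁻¹ = j * i)
    (mem : ∀ x, x ∈ P ↔ ⁅x, i⁆ ∈ zpowers z ∧ ⁅x, j⁆ ∈ zpowers z)
    (phi : ∀ q ∈ Phi P, q * i = i * q ∧ q * j = j * q)
    (hN : ∀ x ∈ Ns P, ⁅x, i⁆ ∈ zpowers z ∧ (⁅x, j⁆ ∈ zpowers z ∨ i * ⁅x, j⁆ ∈ zpowers z)) :
    (∃ k a, Qh ⊤ k a j z ∧ a ^ 2 ^ k = i) ∨
    ∃ i', i' * i' = z ∧ i * i' = i' * i ∧ i' * j = j * i' ∧
      (∀ y, (∀ x : M, ⁅x, y⁆ ∈ zpowers z) → y ∈ F4 z (i * i')) ∧
      ∀ y, (∀ x : M, ⁅x, y⁆ ∈ F4 z (i * i')) → y ∈ F8 z i i' := by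
  have mC : ∀ {x y : X}, x ∈ ⊤ ⊓ C1 y ↔ x * y = y * x := by
    intro x y; rw [top_inf_eq]; exact mem_centralizer_singleton_iff
  have mP : ∀ x, f x ∈ ⊤ ⊓ C1 (f i) ⊓ C1 (f j) ↔ x ∈ P := fun x => by
    rw [mem_inf, mC, mem_centralizer_singleton_iff, h.cm, h.cm, mem]
  have eP : ⊤ ⊓ C1 (f i) ⊓ C1 (f j) = P.map f := by
    ext x
    obtain ⟨x, rfl⟩ := h.sur x
    exact ⟨fun hx => mem_map_of_mem f ((mP x).1 hx), by
      rintro ⟨y, hy, e⟩; exact e ▸ (mP y).2 hy⟩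
  have pq : ∀ q, f q ∈ Phi (⊤ ⊓ C1 (f i) ⊓ C1 (f j)) → q * i = i * q ∧ q * j = j * q := by
    rw [eP, ← map_Phi]
    rintro q ⟨q', hq, e⟩
    obtain ⟨e1, e2⟩ := phi q' hq
    rcases h.eq e.symm with rfl | rfl
    · exact ⟨e1, e2⟩
    · exact ⟨by rw [mul_assoc, e1, ← mul_assoc, ← h.zc i, mul_assoc],
        by rw [mul_assoc, e2, ← mul_assoc, ← h.zc j, mul_assoc]⟩
  have p1 : f i ∉ Phi (⊤ ⊓ C1 (f i) ⊓ C1 (f j)) := fun e => h.nc (pq i e).2
  have nN : ∀ x, f x ∈ Ns (⊤ ⊓ C1 (f i) ⊓ C1 (f j)) → x ∈ Ns P := fun x hx =>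
    ns_of fun p hp => (mP _).1 (by
      rw [map_mul, map_mul, map_inv]; exact mem_normalizer_conj hx ((mP p).2 hp))
  have i2 : f i * f i = 1 := by rw [← map_mul, h.i2, h.fz]
  have ij : f i * f j = f j * f i := by rw [← map_mul, h.ij, map_mul, h.fz, one_mul, map_mul]
  obtain ⟨k, a, hd⟩ := lemD (H := ⊤ ⊓ C1 (f i)) (z := f i) (b := f j) (w := f s)
    (h2.to_subgroup _) (mC.2 rfl) (mC.2 ij.symm) i2 (fun e => p1 (e ▸ one_mem _))
    (by rw [← map_mul, h.j2, h.fz]) (fun x hx => mC.1 hx) p1 (fun x _ hx => by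
      obtain ⟨x, rfl⟩ := h.sur x
      rw [conj_eq_cm, ← map_commutatorElement]
      rcases (hN x (nN x hx)).2 with e | e
      · rw [(h.ker _).2 e, one_mul]; exact Or.inl rfl
      · have := (h.ker _).2 e
        rw [map_mul, ← i2, mul_right_inj] at this
        rw [this]; exact Or.inr rfl) (mC.2 (h.cm.2 si)) (by
      rw [← map_inv, ← map_mul, ← map_mul]
      rcases sj with e | e <;> rw [e, map_mul, ij])
  obtain ⟨a, rfl⟩ := h.sur a
  rcases shape h4 (h2.to_subgroup ⊤) hd p1 (fun x _ hx => by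
      obtain ⟨x, rfl⟩ := h.sur x
      exact h.cm.2 (hN x (nN x hx)).1) with hc | ⟨t, ht⟩
  · have hH : ∀ x, x ∈ ⊤ ⊓ C1 (f i) := fun x => ⟨trivial, hc trivial⟩
    rcases h.eq (x := a ^ 2 ^ k) (y := i) (by rw [map_pow, hd.za]) with e | e
    · exact Or.inl ⟨k, a, h.qh hH hd e, e⟩
    · have e' : a⁻¹ ^ 2 ^ k = i := by
        rw [inv_pow, e, inv_eq_iff_mul_eq_one, mul_assoc, h.i2, h.z2]
      refine Or.inl ⟨k, a⁻¹, h.qh hH ?_ e', e'⟩
      have := (hd.repow (l := -1) (by decide)).1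
      rwa [zpow_neg_one, ← map_inv] at this
  obtain ⟨t, rfl⟩ := h.sur t
  have fi : f (t * i * t⁻¹) = f t * f i * (f t)⁻¹ := by simp
  obtain ⟨u, -, u1, u2, u3⟩ := ht.symm.1.s1 _ _ rf_self
    (ht.dh'.rfc rf_self (inv_mem (ht.idx _ trivial _ trivial ht.tM ht.tM)))
  rw [show f t * ((f t * f t)⁻¹ * (f t * f j * (f t)⁻¹) * (f t * f t)⁻¹⁻¹) * (f t)⁻¹ = f j by
    group] at u3
  have jD : f j ∈ Dl (f a) (f j) := mem_sup_right (mem_zpowers _)
  obtain ⟨c1, c2⟩ := pq (t * i * t⁻¹) (by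
    have := LemD.comm_phi (P := ⊤ ⊓ C1 (f i) ⊓ C1 (f j)) (x := u) (y := f t * f j * (f t)⁻¹)
      ⟨mC.2 ((ht.cz' trivial).2 u1), mem_centralizer_singleton_iff.2 u3⟩
      ⟨mC.2 (ht.com _ (mem_sup_left hd.za') _ jD).symm,
        mem_centralizer_singleton_iff.2 (ht.com _ jD _ jD).symm⟩
    rwa [commutatorElement_def, u2, mul_inv_cancel_right, ← fi] at this)
  refine Or.inr ⟨t * i * t⁻¹, by rw [conj_mul, h.i2, h.zc t, mul_inv_cancel_right], c1.symm, c2,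
    fun y hy => ?_, fun y hy => ?_⟩
  · rcases ht.cenT (x := f y) trivial (cs_of fun x _ => by
      obtain ⟨x, rfl⟩ := h.sur x
      exact (h.cm.2 (hy x)).symm) with e | e
    · exact mem_sup_left ((h.ker y).1 e)
    · exact h.pre (mem_sup_left (mem_zpowers z)) (mem_sup_right (mem_zpowers _))
        (by rw [e, map_mul, fi])
  · have := ht.zz (f y) trivial fun x _ => by
      obtain ⟨x, rfl⟩ := h.sur x
      rw [← map_commutatorElement]
      exact (sup_le (zpowers_le.2 (by rw [mem_comap, h.fz]; exact one_mem _))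
        (zpowers_le.2 (by rw [mem_comap, map_mul, fi]; exact mem_zpowers _)) :
          F4 z (i * (t * i * t⁻¹)) ≤ (zpowers (f i * (f t * f i * (f t)⁻¹))).comap f) (hy x)
    rw [← fi, F4, ← MonoidHom.map_zpowers, ← MonoidHom.map_zpowers, ← Subgroup.map_sup] at this
    obtain ⟨w, hw, e⟩ := this
    exact h.pre (mem_sup_left (mem_sup_left (mem_zpowers z)))
      ((sup_le_sup_right le_sup_right _ : zpowers i ⊔ zpowers (t * i * t⁻¹) ≤
        F8 z i (t * i * t⁻¹)) hw) e.symm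

end Br

end QT

variable {G : Type u} [Group G] [Finite G] {P T : Subgroup G} {d s z i j : G}

theorem QF.tower (h4 : SectionalPRankLE 2 4 G) (hT : IsPGroup 2 T) (h0 : QF T P d s z i j) :
    (∃ k a, Qh (T ⊓ C1 z) k a j z ∧ a ^ 2 ^ k = i) ∨
    ∃ i' ∈ T, i' * i' = z ∧ i * i' = i' * i ∧ i' * j = j * i' ∧
      (∀ y ∈ T ⊓ C1 z, (∀ x ∈ T ⊓ C1 z, ⁅x, y⁆ ∈ zpowers z) → y ∈ F4 z (i * i')) ∧
      ∀ y ∈ T ⊓ C1 z, (∀ x ∈ T ⊓ C1 z, ⁅x, y⁆ ∈ F4 z (i * i')) → y ∈ F8 z i i' := by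
  have nM : ∀ x ∈ T, x ∈ Ns P → x ∈ T ⊓ C1 z := fun x hx h1 =>
    ⟨hx, mem_centralizer_singleton_iff.2 (h0.hN hx h1).1⟩
  have PM : P ≤ T ⊓ C1 z := fun x hx => nM x (h0.le hx) (le_normalizer hx)
  have jP : j ∈ P := h0.di ▸ mem_normalizer_conj h0.dN h0.iP
  have zP : z ∈ P := h0.i2 ▸ mul_mem h0.iP h0.iP
  generalize hM : T ⊓ C1 z = M at nM PM ⊢
  have MT : M ≤ T := hM ▸ inf_le_left
  have Mz : ∀ x ∈ M, x * z = z * x := fun x hx =>
    mem_centralizer_singleton_iff.1 (hM ▸ hx : x ∈ T ⊓ C1 z).2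
  have tr : ∀ (K : Subgroup M) (x : M), x ∈ K ↔ (x : G) ∈ K.map M.subtype := fun K x =>
    (mem_map_iff_mem M.subtype_injective).symm
  have zp : ∀ a x : M, x ∈ zpowers a ↔ (x : G) ∈ zpowers (a : G) := fun a x => by
    rw [tr, MonoidHom.map_zpowers]; rfl
  have : (zpowers (⟨z, PM zP⟩ : M)).Normal := ⟨fun n hn g => by
    rw [zp] at hn ⊢
    exact mem_normalizer_conj (ns_zp (mul_inv_eq_iff_eq_mul.2 (Mz g g.2))) hn⟩
  have h : QT.Br (QuotientGroup.mk' (zpowers (⟨z, PM zP⟩ : M))) ⟨z, PM zP⟩ ⟨i, PM h0.iP⟩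
      ⟨j, PM jP⟩ := ⟨QuotientGroup.mk'_surjective _, fun x => QuotientGroup.eq_one_iff x,
    fun x => Subtype.ext (Mz x x.2), fun e => h0.z1 (congrArg Subtype.val e), Subtype.ext h0.z2,
    Subtype.ext h0.i2, Subtype.ext h0.j2, Subtype.ext h0.ij⟩
  rcases h.core (P := P.subgroupOf M) (s := ⟨s, nM s h0.sS h0.sN⟩)
    (Solv.PG.secRank_quotient (Solv.PG.secRank_subgroup h4 M) _)
    ((hT.to_le MT).to_quotient _) ((zp _ _).2 (h0.hN h0.sS h0.sN).2.1)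
    (h0.sj.imp Subtype.ext Subtype.ext) (fun x => by
      rw [zp, zp]; exact h0.mem x (MT x.2)) (fun q hq => by
      rw [tr, map_Phi, subgroupOf_map_subtype, inf_eq_left.2 PM] at hq
      exact (h0.phi hq).imp Subtype.ext Subtype.ext) (fun x hx => by
      rw [zp, zp, zp]
      exact (h0.hN (MT x.2) (ns_of fun p hp => mem_subgroupOf.1
        (mem_normalizer_conj hx (show (⟨p, PM hp⟩ : M) ∈ P.subgroupOf M from hp)))).2) with
    ⟨k, a, hq, e⟩ | ⟨i', e1, e2, e3, e4, e5⟩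
  · refine Or.inl ⟨k, a, ⟨a.2, PM jP, by rw [← hq.ord, orderOf_coe], congrArg Subtype.val hq.za,
      h0.j2, congrArg Subtype.val hq.ja, fun hj => hq.jn ((zp _ _).2 hj),
      fun g hg => ns_of fun x hx => ?_, fun g hg => ?_, fun m => ?_⟩, congrArg Subtype.val e⟩
    · exact (zp a _).1 (mem_normalizer_conj (hq.na (mem_top (⟨g, hg⟩ : M)))
        ((zp a ⟨x, zpowers_le.2 a.2 hx⟩).2 hx))
    · exact (hq.cb ⟨g, hg⟩ trivial).imp fun m e => congrArg Subtype.val e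
    · obtain ⟨g, -, e⟩ := hq.tr m
      exact ⟨g, g.2, congrArg Subtype.val e⟩
  · refine Or.inr ⟨i', MT i'.2, congrArg Subtype.val e1, congrArg Subtype.val e2,
      congrArg Subtype.val e3, fun y hy hx => ?_, fun y hy hx => ?_⟩
    · have := e4 ⟨y, hy⟩ fun x => (zp _ _).2 (hx x x.2)
      simp only [tr, Subgroup.map_sup, MonoidHom.map_zpowers] at this
      exact this
    · have := e5 ⟨y, hy⟩ fun x => by
        simp only [tr, Subgroup.map_sup, MonoidHom.map_zpowers]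
        exact hx x x.2
      simp only [tr, Subgroup.map_sup, MonoidHom.map_zpowers] at this
      exact this

end Cfsg.Lib.GHM
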