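import Cfsg.Agent.GHM.Wbb
import Cfsg.Agent.GHM.C0W
import Cfsg.Agent.GHM.PB

/-!
# In the frame `W8` the involution `w` commutes with its conjugate under `d₁`
-/

set_option autoImplicit false

namespace Cfsg.Lib.GHM

universe u

variable {G : Type u} [Group G] [Finite G] {S : Sylow 2 G} {P₁ P₂ : Subgroup G}
  {z v w d₁ s₁ d₂ s₂ : G}

theorem W8.caseB (h : Six S) (h1 : W8 (S : Subgroup G) P₁ P₂ d₁ s₁ d₂ s₂ z v w) :
    w * (d₁ * w * d₁⁻¹) = d₁ * w * d₁⁻¹ * w := by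
  by_contra hne
  rcases C0.caseB_core h.toCtx h1 hne with e | ⟨Y, e⟩
  · exact h1.c0w h e
  · exact e.false h

end Cfsg.Lib.GHM
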