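import Cfsg.Agent.GHM.TSy
import Cfsg.Agent.GHM.TT
import Cfsg.Agent.GHM.Ulem

/-!
# Simple groups of sectional 2-rank at most four: the twisted tensor case
-/

set_option autoImplicit false

namespace Cfsg.Lib.GHM

open Subgroup Cfsg.Lib.Trans Cfsg.Lib.Gold Cfsg.Lib.Rank2 Cfsg.Lib.GHB TSy
open scoped commutatorElement

universe u

variable {G : Type u} [Group G] {S : Sylow 2 G} {H P T : Subgroup G} {d g p s x y : G}
  {co : G → V4} {φ : V4 → V4}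

namespace TD

/-- The action of `d x d x d d`. -/
def mr (v : V4) : V4 := md (mx 1 (md (mx 1 (md (md v)))))

/-- The fixed space of the four-group. -/
def Wv (v : V4) : Prop := v.1 = 0 ∧ v.2.1 = v.2.2.1

instance (v : V4) : Decidable (Wv v) := inferInstanceAs (Decidable (_ ∧ _))

theorem k_mul : ∀ a b c e : Bool, ∃ a' b' : Bool, ∀ v,
    mm 1 a a b (mm 1 c c e v) = mm 1 a' a' b' v := by decide +kernel

theorem k_sq : ∀ (a b : Bool) (v : V4), mm 1 a a b (mm 1 a a b v) = v := by decide +kernel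

theorem k_N : ∀ a b c e f : Bool, ∃ e' f' : Bool, ∀ v,
    mm 1 a b c (mm 1 e e f v) = mm 1 e' e' f' (mm 1 a b c v) := by decide +kernel

theorem k_r : ∀ e f : Bool, ∃ e' f' : Bool, ∀ v, mr (mm 1 e e f v) = mm 1 e' e' f' (mr v) := by
  decide +kernel

theorem k_p : ∀ a b c : Bool, ∃ e f : Bool, (∀ v, mm 1 a b c v = mm 1 e e f v) ∨
    ∀ v, mp (mm 1 a b c v) = mm 1 e e f v := by decide +kernel

theorem k_np : ∀ e f : Bool, mp (0, 1, 1, 0) ≠ mm 1 e e f (0, 1, 1, 0) := by decide +kernel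

theorem k_W : ∀ v, Wv v ↔ v = 0 ∨ v = (0, 1, 1, 0) ∨ v = (0, 0, 0, 1) ∨
    v = (0, 1, 1, 0) + (0, 0, 0, 1) := by decide +kernel

theorem k_fix : ∀ (e f : Bool) (v : V4), (Wv v → mm 1 e e f v = v) ∧ Wv (mm 1 e e f v + v) ∧
    (Wv (mr (mm 1 e e f v) + v) → Wv v) := by decide +kernel

theorem k_fix' : ∀ e f : Bool, (∀ v, mm 1 e e f v = id v) ∨ ∀ v, mm 1 e e f v = v → Wv v := by
  decide +kernel

theorem k_fus : ∀ v, Wv v → v = 0 ∨ v = (0, 0, 0, 1) ∨ v = mr (0, 0, 0, 1) ∨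
    v = mr (mr (0, 0, 0, 1)) := by decide +kernel

/-- The elements acting through the four-group. -/
def KK (T : Subgroup G) (co : G → V4) : Subgroup G where
  carrier := {g | ∃ e f : Bool, Ac T co g (mm 1 e e f)}
  one_mem' := ⟨false, false, ac_one⟩
  mul_mem' := by
    rintro g h ⟨a, b, h1⟩ ⟨c, e, h2⟩
    obtain ⟨a', b', k⟩ := k_mul a b c e
    exact ⟨a', b', (h1.mul h2).of_eq k⟩
  inv_mem' := fun ⟨a, b, h1⟩ => ⟨a, b, h1.inv (k_sq a b)⟩

theorem KK_le : KK T co ≤ Ns T := fun _ ⟨_, _, h⟩ => h.1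

theorem mem_Ns_KK [Finite G] (h1 : Ac T co y φ)
    (h2 : ∀ e f : Bool, ∃ e' f' : Bool, ∀ v, φ (mm 1 e e f v) = mm 1 e' e' f' (φ v)) :
    y ∈ Ns (KK T co) := ns_of (by
  rintro g ⟨e, f, hg⟩
  obtain ⟨e', f', k⟩ := h2 e f
  refine ⟨e', f', mul_mem (mul_mem h1.1 hg.1) (inv_mem h1.1), fun a ha => ?_⟩
  have h3 := mem_normalizer_conj' h1.1 ha
  have h4 := (h1.mul hg).2 _ h3
  beta_reduce at h4
  rw [k, ← h1.2 _ h3] at h4
  convert h4 using 2 <;> group)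

end TD

open TD

variable [Finite G]

theorem TC.caseD (hc : Cx S) (h0 : TC (S : Subgroup G) P T d s x p co 1) (h1 : Phi T = ⊥) :
    False := by
  have inj : ∀ {a b}, a ∈ T → b ∈ T → co a = co b → a = b := fun ha hb e =>
    mul_inv_eq_one.1 (mem_bot.1 (h1 ▸ (h0.co_eq ha hb).1 e))
  have sq : ∀ b ∈ T, b * b = 1 := fun b hb => mem_bot.1 (h1 ▸ sq_mem_Phi hb)
  have cT : Nat.card T = 16 := by rw [h0.card, h1, card_bot]
  obtain ⟨a, ha, ea⟩ := h0.surj (0, 1, 1, 0)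
  obtain ⟨b, hb, eb⟩ := h0.surj (0, 0, 0, 1)
  have ab := comm_of_sq sq ha hb
  have VT : F4 a b ≤ T := F4_le ha hb
  have mV : ∀ {t}, t ∈ T → (t ∈ F4 a b ↔ Wv (co t)) := fun {t} ht => by
    rw [mem_F4 (sq a ha) (sq b hb) ab, k_W, ← ea, ← eb, ← h0.mul a ha b hb, ← h0.co_one]
    refine or_congr ?_ (or_congr ?_ (or_congr ?_ ?_))
    exacts [⟨congrArg co, inj ht (one_mem _)⟩, ⟨congrArg co, inj ht ha⟩, ⟨congrArg co, inj ht hb⟩,
      ⟨congrArg co, inj ht (mul_mem ha hb)⟩]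
  have cV : Nat.card (F4 a b) = 4 := by
    rw [card_adj (fun y hy => by
      rwa [← comm_of_sq sq (zpowers_le.2 ha hy) hb, mul_inv_cancel_right]) (sq b hb ▸ one_mem _)
      (fun e => by
        rcases (mem_zp (sq a ha)).1 e with e | e <;> rw [e] at eb
        · exact absurd (h0.co_one.symm.trans eb) (by decide)
        · exact absurd (ea.symm.trans eb) (by decide)),
      card_zpowers_two (sq a ha) fun e => absurd (h0.co_one.symm.trans (e ▸ ea)) (by decide)]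
  have cm : ∀ {g φ t}, Ac T co g φ → t ∈ T → (⁅g, t⁆ ∈ F4 a b ↔ Wv (φ (co t) + co t)) :=
    fun {g φ t} hg ht => by
      have h2 := mem_normalizer_conj hg.1 ht
      rw [commutatorElement_def, mV (mul_mem h2 (inv_mem ht)), h0.mul _ h2 _ (inv_mem ht),
        h0.co_inv ht, hg.2 t ht]
  have hr : Ac T co (d * (x * (d * (x * (d * d))))) mr :=
    h0.ac_d.mul (h0.ac_x.mul (h0.ac_d.mul (h0.ac_x.mul (h0.ac_d.mul h0.ac_d))))
  generalize d * (x * (d * (x * (d * d)))) = r at hr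
  have nK : N1 (S : Subgroup G) P x ≤ Ns (KK T co) := fun g hg => by
    obtain ⟨e₁, e₂, e₃, h2, -⟩ := h0.ac_N hg
    exact mem_Ns_KK h2 (k_N e₁ e₂ e₃)
  have TN : T ≤ N1 (S : Subgroup G) P x := fun t ht =>
    mem_sup_left ⟨h0.le (h0.toT2.TP ht), le_normalizer (h0.toT2.TP ht)⟩
  have TU : T ≤ N1 (S : Subgroup G) P x ⊓ KK T co := fun t ht => ⟨TN ht, false, false, h0.ac_T ht⟩
  have cU : Nat.card (N1 (S : Subgroup G) P x ⊓ KK T co : Subgroup G) = 64 := by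
    have n1 : ∀ g ∈ N1 (S : Subgroup G) P x ⊓ KK T co,
        p⁻¹ * g * p⁻¹⁻¹ ∈ N1 (S : Subgroup G) P x ⊓ KK T co := fun g hg =>
      mem_normalizer_conj (le_Ns_inf le_normalizer nK (inv_mem h0.pN)) hg
    have n2 : p⁻¹ * p⁻¹ ∈ N1 (S : Subgroup G) P x ⊓ KK T co := TU (by
      rw [← mul_inv_rev]; exact inv_mem (h0.toT2.sqN ⟨h0.le h0.pP, le_normalizer h0.pP⟩))
    have h2 := card_adj n1 n2 fun e => by
      obtain ⟨e, f, h3⟩ := (KK T co).inv_mem_iff.1 e.2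
      exact k_np e f (h0.ac_eq h0.ac_p h3 _)
    suffices h3 : N1 (S : Subgroup G) P x ≤ N1 (S : Subgroup G) P x ⊓ KK T co ⊔ zpowers p⁻¹ by
      rw [le_antisymm (sup_le inf_le_left (zpowers_le.2 (inv_mem h0.pN))) h3, h0.toT2.cardN1,
        cT] at h2
      omega
    intro g hg
    obtain ⟨e₁, e₂, e₃, h3, -⟩ := h0.ac_N hg
    obtain ⟨e, f, k | k⟩ := k_p e₁ e₂ e₃
    · exact mem_sup_left ⟨hg, e, f, h3.of_eq k⟩
    · rw [mem_adj n1 n2, inv_inv]
      exact .inr ⟨mul_mem h0.pN hg, e, f, (h0.ac_p.mul h3).of_eq k⟩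
  rcases tt_or VT TU cV cT cU sq
    (fun v hv => cs_of fun g ⟨_, e, f, hg⟩ => (mul_inv_eq_iff_eq_mul.1 (inj
      (mem_normalizer_conj hg.1 (VT hv)) (VT hv)
      ((hg.2 v (VT hv)).trans ((k_fix e f _).1 ((mV (VT hv)).1 hv))))).symm)
    (fun g ⟨_, e, f, hg⟩ t ht => (cm hg ht).2 (k_fix e f _).2.1)
    (fun g ⟨g1, e, f, hg⟩ t ht h2 => (k_fix' e f).imp (fun k => h0.mem_T g1 (hg.of_eq k)) fun k =>
      (mV ht).2 (k _ (by rw [← hg.2 t ht, h2, mul_inv_cancel_right]))) with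
    ⟨A, h2⟩ | ⟨w, hw, h2, h3, -⟩
  · have k : ∀ t ∈ F4 a b, t ≠ 1 → IsConj b t := fun t ht t1 => by
      have r1 := mem_normalizer_conj hr.1 hb
      rcases k_fus _ ((mV (VT ht)).1 ht) with e | e | e | e
      · exact (t1 (inj (VT ht) (one_mem _) (e.trans h0.co_one.symm))).elim
      · rw [inj (VT ht) hb (e.trans eb.symm)]
      · exact isConj_iff.2 ⟨r, inj r1 (VT ht) (by rw [hr.2 b hb, eb, e])⟩
      · exact (isConj_iff.2 ⟨r, rfl⟩).trans (isConj_iff.2 ⟨r, inj (mem_normalizer_conj hr.1 r1)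
          (VT ht) (by rw [hr.2 _ r1, hr.2 b hb, eb, e])⟩)
    exact hc.out (hc.toCtx.ulem h2 (inf_le_left.trans h0.toT2.N1_le) fun u hu v hv u1 v1 =>
      (k u hu u1).symm.trans (k v hv v1))
  · have h4 := (h0.syl1.mono (le_sup_left (b := KK T co)) (sup_le h0.toT2.nT KK_le)).inf_normal_of_le
      (sup_le nK le_normalizer) le_sup_right
    obtain ⟨n, hn, k, hk, rfl⟩ := h4.frattini' (mem_Ns_KK hr k_r)
    obtain ⟨e, f, h5⟩ := inv_mem hk
    have h6 := hr.mul h5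
    rw [mul_inv_cancel_right] at h6
    exact h2 ((mV hw).2 ((k_fix e f _).2.2 ((cm h6 hw).1 (h3 n hn h6.1))))

end Cfsg.Lib.GHM
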