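import Cfsg.Agent.GHM.Fr2

/-!
# Sectional 2-rank at most four: the tensor case with non-trivial Frattini subgroup
-/

set_option autoImplicit false

namespace Cfsg.Lib.GHM

open Subgroup Cfsg.Lib.Trans Cfsg.Lib.Gold Cfsg.Lib.Rank2 Cfsg.Lib.GHB
open scoped commutatorElement

universe u

variable {G : Type u} [Group G] {H P T K E : Subgroup G} {a b d e g p s t x : G}
  {co : G → V4} {γ : ZMod 2}

namespace TNo

/-- Words in `d` and its conjugate under `x`. -/
def ev (γ : ZMod 2) : List Bool → V4 → V4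
  | [], v => v
  | c :: w, v => ev γ w (cond c (mx γ (md (mx γ v))) (md v))

theorem ev_eq_1 : type_of% @ev.eq_1 := @ev.eq_1

theorem ev_eq_2 : type_of% @ev.eq_2 := @ev.eq_2

theorem ev_eq_def : type_of% @ev.eq_def := @ev.eq_def

/-- The first component is non-zero. -/
def Q1 (v : V4) : Bool := !(v == 0 || v == (0, 1, 1, 1) || v == (1, 1, 1, 0) || v == (1, 0, 0, 1))

theorem Q1_eq_1 : type_of% @Q1.eq_1 := @Q1.eq_1

/-- The second component is non-zero. -/
def Q2 (v : V4) : Bool := !(v == 0 || v == (0, 1, 1, 0) || v == (1, 0, 1, 1) || v == (1, 1, 0, 1))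

theorem Q2_eq_1 : type_of% @Q2.eq_1 := @Q2.eq_1

/-- Enough words. -/
def W : List (List Bool) := [[], [false], [true], [false, false], [false, true], [true, false],
  [true, true], [false, false, true], [false, true, false], [false, true, true],
  [true, false, false], [true, false, true], [true, true, false], [false, false, true, false],
  [false, true, false, false], [false, false, true, true]]

theorem W_eq_1 : type_of% @W.eq_1 := @W.eq_1

theorem orb1 : ∀ v : V4, v = 0 ∨ ∃ w ∈ W, ev 1 w (0, 1, 1, 0) = v := by decide +kernel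

theorem orb0 : ∀ v : V4, (Q1 v = false ∧ Q2 v = false ∧ v = 0) ∨
    (Q1 v = true ∧ Q2 v = false ∧ ∃ w ∈ W, ev 0 w (0, 1, 1, 0) = v) ∨
    (Q1 v = false ∧ Q2 v = true ∧ ∃ w ∈ W, ev 0 w (0, 1, 1, 1) = v) ∨
    (Q1 v = true ∧ Q2 v = true ∧ ∃ w ∈ W, ev 0 w (0, 0, 0, 1) = v) := by decide +kernel

theorem surj : ∀ v : V4, ∃ u, md u + u = v := by decide +kernel

theorem two : ∀ v : V4, v + v = 0 := by decide +kernel

theorem mxx : ∀ (γ : ZMod 2) (v : V4), mx γ (mx γ v) = v := by decide +kernel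

theorem rad : ∀ v : V4, v = 0 ∨ ∃ u, (Q1 (v + u) ^^ (Q1 v ^^ Q1 u)) ≠ (Q2 (v + u) ^^ (Q2 v ^^ Q2 u)) := by
  decide +kernel

set_option synthInstance.maxSize 2000 in
theorem zer : ∀ v : V4, Q1 v = Q2 v → Q1 (v + mx 0 v) = Q2 (v + mx 0 v) →
    Q1 (v + ms (mp v)) = Q2 (v + ms (mp v)) → v = 0 ∨ v = (0, 0, 0, 1) := by decide +kernel

/-- The two vectors have the same value under the quadratic form. -/
abbrev A (a b : V4) : Prop := (Q1 a ^^ Q1 b) = (Q2 a ^^ Q2 b)

set_option synthInstance.maxSize 2000 in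
theorem shift : ∀ v v' u' : V4, (v' + v = 0 ∨ v' + v = (0, 0, 0, 1)) →
    (u' + (1, 0, 0, 0) = 0 ∨ u' + (1, 0, 0, 0) = (0, 0, 0, 1)) → A v' v → A u' (1, 0, 0, 0) →
    A (v' + u') (v + (1, 0, 0, 0)) → v' + v = 0 := by decide +kernel

/-- A word in two commuting involutions. -/
def F (c1 c2 : G) (i j : Bool) : G := cond i c1 1 * cond j c2 1

theorem F_eq_1 : type_of% @F.eq_1 := @F.eq_1

theorem F_mul {c1 c2 : G} (h1 : c1 * c1 = 1) (h2 : c2 * c2 = 1) (h : c1 * c2 = c2 * c1)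
    (i j i' j' : Bool) : F c1 c2 i j * F c1 c2 i' j' = F c1 c2 (i ^^ i') (j ^^ j') := by
  have a : ∀ y, c1 * (c1 * y) = y := fun y => by rw [← mul_assoc, h1, one_mul]
  have b : ∀ y, c2 * (c1 * y) = c1 * (c2 * y) := fun y => by rw [← mul_assoc, ← h, mul_assoc]
  cases i <;> cases j <;> cases i' <;> cases j' <;> simp [F, mul_assoc, h1, h2, ← h, a, b]

theorem F_one {c1 c2 : G} (h1 : c1 ≠ 1) (h2 : c2 ≠ 1) {i j : Bool} (h : F c1 c2 i j = 1) : i = j := by
  cases i <;> cases j <;> simp_all [F]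

theorem F_inj {c1 c2 : G} (h1 : c1 * c1 = 1) (h2 : c2 * c2 = 1) (h : c1 * c2 = c2 * c1)
    (n1 : c1 ≠ 1) (n2 : c2 ≠ 1) {i j i' j' : Bool} (e : F c1 c2 i j = F c1 c2 i' j') :
    (i ^^ i') = (j ^^ j') :=
  F_one n1 n2 (by rw [← F_mul h1 h2 h, e, F_mul h1 h2 h]; simp [F])

theorem card_le_four {c1 c2 c3 : G} (h : ∀ e ∈ E, e = 1 ∨ e = c1 ∨ e = c2 ∨ e = c3) :
    Nat.card E ≤ 4 :=
  (Set.ncard_le_ncard (t := {1, c1, c2, c3}) h).trans ((Set.ncard_insert_le _ _).trans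
    (Nat.succ_le_succ ((Set.ncard_insert_le _ _).trans (Nat.succ_le_succ
      ((Set.ncard_insert_le _ _).trans (by simp))))))

section

variable [Finite G] (h0 : TC H P T d s x p co γ)
include h0

omit [Finite G] in
theorem TP : T ≤ P := h0.eqT.le.trans inf_le_left

theorem nN (h1 : g ∈ H) (h2 : g ∈ Ns P) : g ∈ Ns T := by
  rw [h0.eqT]
  refine ns_of fun t ht => ⟨mem_normalizer_conj h2 ht.1, mem_cj.2 ?_⟩
  have := mem_normalizer_conj (mem_normalizer_conj' h0.xN ⟨h1, h2⟩).2 (mem_cj.1 ht.2)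
  convert this using 1; group

theorem nx : x ∈ Ns T := by
  have h2 := TP h0 h0.x2
  rw [h0.eqT]
  refine ns_of fun t ht => ⟨?_, mem_cj.2 (by simpa [mul_assoc] using ht.1)⟩
  rw [show x * t * x⁻¹ = x * x * (x⁻¹ * t * x) * (x * x)⁻¹ by group]
  exact P.mul_mem (P.mul_mem h2 (mem_cj.1 ht.2)) (P.inv_mem h2)

omit [Finite G] in
theorem co_inv (ha : a ∈ T) : co a⁻¹ = co a := by
  have := h0.mul a ha _ (inv_mem ha)
  rw [mul_inv_cancel, (h0.ker 1 (one_mem T)).2 (one_mem _)] at this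
  rw [← add_left_inj (co a), two, add_comm, ← this]

omit [Finite G] in
theorem co_eq (ha : a ∈ T) (hb : b ∈ T) (h : co a = co b) : a⁻¹ * b ∈ Phi T :=
  (h0.ker _ (mul_mem (inv_mem ha) hb)).1 (by rw [h0.mul _ (inv_mem ha) _ hb, co_inv h0 ha, h, two])

theorem nPhi (hg : g ∈ Ns T) : g ∈ Ns (Phi T) :=
  mem_normalizer_of_cj_le (cj_le_iff_le_cj_inv.2 (Phi_le_iff.2 fun t ht => mem_cj_inv.2 (by
    rw [← conj_mul]; exact sq_mem_Phi (mem_normalizer_conj hg ht))))

theorem gen (h : ∀ t ∈ T, d * t * d⁻¹ * t⁻¹ ∈ K) : T ≤ K := by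
  rw [← subgroupOf_eq_top]
  refine frattini_nongenerating (eq_top_iff.2 fun t _ => ?_)
  obtain ⟨u, hu⟩ := surj (co t)
  obtain ⟨y, hy, rfl⟩ := h0.surj u
  have m := mul_mem (mem_normalizer_conj h0.dT hy) (inv_mem hy)
  obtain ⟨f, hf, e⟩ := Phi_le_frattini (h0.p2.to_le ((TP h0).trans h0.le)) (co_eq h0 m t.2 (by
    rw [h0.mul _ (mem_normalizer_conj h0.dT hy) _ (inv_mem hy), h0.cd y hy, co_inv h0 hy, hu]))
  rw [show t = ⟨_, m⟩ * f from Subtype.ext (eq_inv_mul_iff_mul_eq.1 e).symm]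
  exact mul_mem_sup (h y hy) hf

variable (h1 : d ∈ Cs (Phi T))
include h1

theorem cen : T ≤ Cs (Phi T) := gen h0 fun t ht => by
  rw [mul_assoc, mul_assoc, ← mul_assoc t]
  exact mul_mem h1 (cs_ns (inv_mem h1) (nPhi h0 (le_normalizer ht)))

theorem cm (ha : a ∈ T) (hb : b ∈ Phi T) : a * b = b * a := cs_comm (cen h0 h1 ha) hb

omit h1 in
theorem ea : EA (Phi T) T := EA.mk Phi_le (fun _ => sq_mem_Phi) fun _ hx _ hk =>
  mem_normalizer_conj (nPhi h0 (le_normalizer hx)) hk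

theorem sq_mul (ha : a ∈ T) (hb : b ∈ T) : a * b * (a * b) = a * a * (b * b) * ⁅a, b⁆ ∧
    ⁅a, b⁆ * ⁅a, b⁆ = 1 := by
  have m := (ea h0).comm ha hb
  have e : a * b = ⁅a, b⁆ * (b * a) := by rw [commutatorElement_def]; group
  generalize ⁅a, b⁆ = k at m e
  have k2 : k * k = 1 := by
    refine mul_right_cancel (b := b * (a * a)) (Eq.symm ?_)
    calc _ = a * k * (b * a) := by
          rw [one_mul, cm h0 h1 hb (sq_mem_Phi ha), mul_assoc a, e, mul_assoc a]
      _ = k * (a * b) * a := by rw [cm h0 h1 ha m]; simp only [mul_assoc]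
      _ = _ := by rw [e]; simp only [mul_assoc]
  refine ⟨?_, k2⟩
  have : b * a = k * (a * b) := by rw [e, ← mul_assoc, k2, one_mul]
  rw [cm h0 h1 (mul_mem (mul_mem ha ha) (mul_mem hb hb)) m, mul_assoc a b, ← mul_assoc b, this,
    ← mul_assoc a, ← mul_assoc a, cm h0 h1 ha m]
  simp only [mul_assoc]

theorem sq4 (ha : a ∈ T) : a * a * (a * a) = 1 := by
  have key : ∀ a ∈ T, ∀ b ∈ T, a * b * (a * b) * (a * b * (a * b)) =
      a * a * (b * b) * (a * a * (b * b)) := fun a ha b hb => by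
    obtain ⟨e, k⟩ := sq_mul h0 h1 ha hb
    rw [e, mul_assoc _ ⁅a, b⁆, cm h0 h1 (mul_mem (mul_mem ha ha) (mul_mem hb hb))
      ((ea h0).comm ha hb), ← mul_assoc ⁅a, b⁆, k, one_mul]
  let K : Subgroup G :=
    { carrier := {a | a ∈ T ∧ a * a * (a * a) = 1}
      mul_mem' := fun {a b} ha hb => ⟨mul_mem ha.1 hb.1, by
        rw [key a ha.1 b hb.1, mul_assoc (a * a), ← mul_assoc (b * b),
          cm h0 h1 (mul_mem hb.1 hb.1) (sq_mem_Phi ha.1), mul_assoc (a * a), hb.2, mul_one, ha.2]⟩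
      one_mem' := ⟨one_mem T, by simp⟩
      inv_mem' := fun {a} ha => ⟨inv_mem ha.1, by
        rw [← mul_inv_rev, ← mul_inv_rev, ha.2, inv_one]⟩ }
  refine (gen (K := K) h0 (fun t ht => ?_) ha).2
  have m := mem_normalizer_conj h0.dT ht
  refine ⟨mul_mem m (inv_mem ht), ?_⟩
  rw [key _ m _ (inv_mem ht), conj_mul, cs_conj h1 (sq_mem_Phi ht)]
  group

theorem exp2 (ha : a ∈ Phi T) : a * a = 1 := by
  let K : Subgroup G :=
    { carrier := {a | a ∈ Phi T ∧ a * a = 1}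
      mul_mem' := fun {a b} ha hb => ⟨mul_mem ha.1 hb.1, by
        rw [mul_assoc a, ← mul_assoc b, cm h0 h1 (Phi_le hb.1) ha.1, mul_assoc a, hb.2, mul_one,
          ha.2]⟩
      one_mem' := ⟨one_mem _, by simp⟩
      inv_mem' := fun {a} ha => ⟨inv_mem ha.1, by rw [← mul_inv_rev, ha.2, inv_one]⟩ }
  exact ((Phi_le_iff (K := K)).2 (fun t ht => ⟨sq_mem_Phi ht, sq4 h0 h1 ht⟩) ha).2

theorem sq_eq (ha : a ∈ T) (hb : b ∈ T) (h : co a = co b) : a * a = b * b := by
  have m := co_eq h0 ha hb h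
  rw [show b = a * (a⁻¹ * b) by group, mul_assoc a _ (a * _), ← mul_assoc _ a, ← cm h0 h1 ha m,
    mul_assoc a, exp2 h0 h1 m, mul_one]

theorem sq_ev (w : List Bool) : ∀ a ∈ T, ∀ b ∈ T, co b = ev γ w (co a) → b * b = a * a := by
  induction w with
  | nil => exact fun a ha b hb h => sq_eq h0 h1 hb ha h
  | cons c w ih =>
    intro a ha b hb h
    cases c
    · rw [ih _ (mem_normalizer_conj h0.dT ha) b hb (by rw [h, h0.cd a ha]; rfl), conj_mul,
        cs_conj h1 (sq_mem_Phi ha)]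
    · have m := mem_normalizer_conj' (nx h0) ha
      have e := h0.cx _ m
      rw [show x * (x⁻¹ * a * x) * x⁻¹ = a by group] at e
      have m' := mem_normalizer_conj h0.dT m
      rw [ih _ (mem_normalizer_conj (nx h0) m') b hb (by
        rw [h, h0.cx _ m', h0.cd _ m, e]; simp only [ev, cond, mxx]), conj_mul, conj_mul,
        cs_conj h1 (sq_mem_Phi m)]
      group

theorem tri {c : G} (ha : a ∈ T) (hb : b ∈ T) (hc : c ∈ T) (e1 : b * b = c * c)
    (e2 : a * b * (a * b) = a * c * (a * c)) :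
    a * (b * c) * (a * (b * c)) = a * a * (b * c * (b * c)) := by
  obtain ⟨f1, k⟩ := sq_mul h0 h1 ha hb
  rw [f1, (sq_mul h0 h1 ha hc).1, e1, mul_right_inj] at e2
  rw [(sq_mul h0 h1 ha (mul_mem hb hc)).1, show ⁅a, b * c⁆ = ⁅a, b⁆ * (b * ⁅a, c⁆ * b⁻¹) by
    simp only [commutatorElement_def]; group, cm h0 h1 hb ((ea h0).comm ha hc),
    mul_inv_cancel_right, ← e2, k, mul_one]

theorem sq0 (ha : a ∈ T) (h : co a = 0) : a * a = 1 := exp2 h0 h1 ((h0.ker a ha).1 h)

variable (h2 : Phi T ≠ ⊥)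
include h2

theorem form : γ = 0 ∧ ∃ c1 ∈ Phi T, ∃ c2 ∈ Phi T, c1 ≠ 1 ∧ c2 ≠ 1 ∧
    ∀ t ∈ T, t * t = F c1 c2 (Q1 (co t)) (Q2 (co t)) := by
  have nb : ¬ ∀ t ∈ T, t * t = 1 := fun h => h2 (le_bot_iff.1 (Phi_le_iff.2 h))
  obtain ⟨a, ha, ea⟩ := h0.surj (0, 1, 1, 0)
  obtain ⟨b, hb, eb⟩ := h0.surj (0, 1, 1, 1)
  obtain ⟨c, hc, ec⟩ := h0.surj (1, 1, 1, 0)
  have ab := h0.mul a ha b hb
  have ac := h0.mul a ha c hc
  have bc := h0.mul b hb c hc
  have abc := h0.mul a ha _ (mul_mem hb hc)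
  rw [bc] at abc
  rw [ea, eb] at ab
  rw [ea, ec] at ac
  rw [ea, eb, ec] at abc
  rw [eb, ec] at bc
  rcases (by decide : ∀ γ : ZMod 2, γ = 0 ∨ γ = 1) γ with rfl | rfl
  · obtain ⟨w, hw, ew⟩ := h0.surj (0, 0, 0, 1)
    have q : ∀ t ∈ T, t * t = cond (Q1 (co t)) (cond (Q2 (co t)) (w * w) (a * a))
        (cond (Q2 (co t)) (b * b) 1) := fun t ht => by
      rcases orb0 (co t) with ⟨i, j, k⟩ | ⟨i, j, l, -, k⟩ | ⟨i, j, l, -, k⟩ | ⟨i, j, l, -, k⟩ <;>
        rw [i, j]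
      · exact sq0 h0 h1 ht k
      · exact sq_ev h0 h1 l a ha t ht (by rw [ea, k])
      · exact sq_ev h0 h1 l b hb t ht (by rw [eb, k])
      · exact sq_ev h0 h1 l w hw t ht (by rw [ew, k])
    have e := tri h0 h1 ha hb hc (by rw [q c hc, ec]; rfl)
      (by rw [q _ (mul_mem ha hb), q _ (mul_mem ha hc), ab, ac]; rfl)
    rw [q _ (mul_mem ha (mul_mem hb hc)), q _ (mul_mem hb hc), abc, bc] at e
    replace e : w * w = a * a * (b * b) := e
    have q' : ∀ t ∈ T, t * t = F (a * a) (b * b) (Q1 (co t)) (Q2 (co t)) := fun t ht => by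
      rw [q t ht, e]; cases Q1 (co t) <;> cases Q2 (co t) <;> simp [F]
    have m := nN h0 (h0.le h0.pP) (le_normalizer h0.pP)
    have f : p * (a * a) * p⁻¹ = b * b := by
      rw [← conj_mul]
      exact sq_eq h0 h1 (mem_normalizer_conj m ha) hb (by rw [h0.cp a ha, ea, eb]; rfl)
    have n : a * a ≠ 1 := fun h => nb fun t ht => by
      rw [q' t ht, ← f, h]; cases Q1 (co t) <;> cases Q2 (co t) <;> simp [F]
    exact ⟨rfl, _, sq_mem_Phi ha, _, sq_mem_Phi hb, n, fun h => n (by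
      rwa [h, conj_eq_one_iff] at f), q'⟩
  · have q : ∀ t ∈ T, co t ≠ 0 → t * t = a * a := fun t ht h => by
      obtain ⟨l, -, k⟩ := (orb1 (co t)).resolve_left h
      exact sq_ev h0 h1 l a ha t ht (by rw [ea, k])
    have e := tri h0 h1 ha hb hc (by rw [q c hc (by rw [ec]; decide), q b hb (by rw [eb]; decide)])
      (by rw [q _ (mul_mem ha hb) (by rw [ab]; decide), q _ (mul_mem ha hc) (by rw [ac]; decide)])
    rw [q _ (mul_mem ha (mul_mem hb hc)) (by rw [abc]; decide), q _ (mul_mem hb hc)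
      (by rw [bc]; decide), left_eq_mul] at e
    exact (nb fun t ht => by
      by_cases h : co t = 0
      · exact sq0 h0 h1 ht h
      · rw [q t ht h, e]).elim

end

theorem _root_.Cfsg.Lib.GHM.TC.noE8 [Finite G] (h4 : SectionalPRankLE 2 4 G) (h0 : TC H P T d s x p co γ)
    (h1 : d ∈ Cs (Phi T)) (h2 : Phi T ≠ ⊥) :
    GHA.NoE8 H ∧ ∀ z ∈ P, z ∈ Cs P → d * z = z * d := by
  obtain ⟨rfl, c1, m1, c2, m2, n1, n2, q⟩ := form h0 h1 h2
  have s1 := exp2 h0 h1 m1
  have s2 := exp2 h0 h1 m2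
  have s3 := cm h0 h1 (Phi_le m1) m2
  have TH := (TP h0).trans h0.le
  refine ⟨fun E EH HE sq => ?_, fun z hz hc => ?_⟩
  · replace sq : ∀ e ∈ E, e * e = 1 := fun e he => by rw [← pow_two, sq e he]
    have Q : ∀ e ∈ E, e ∈ T → Q1 (co e) = Q2 (co e) := fun e he ht =>
      F_one n1 n2 (by rw [← q e ht, sq e he])
    have Z : ∀ e ∈ E, e ∈ T → co e = 0 ∨ (co e = (0, 0, 0, 1) ∧ c1 = c2) := fun e he ht => by
      have np := nN h0 (h0.le h0.pP) (le_normalizer h0.pP)
      have a1 := mem_normalizer_conj (nx h0) ht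
      have a2 := mem_normalizer_conj np ht
      have a3 := mem_normalizer_conj (nN h0 h0.sS h0.sN) a2
      have b1 := Q _ (mul_mem he (mem_normalizer_conj (HE h0.xS) he)) (mul_mem ht a1)
      have b2 := Q _ (mul_mem he (mem_normalizer_conj (HE h0.sS) (mem_normalizer_conj
        (HE (h0.le h0.pP)) he))) (mul_mem ht a3)
      rw [h0.mul _ ht _ a1, h0.cx e ht] at b1
      rw [h0.mul _ ht _ a3, h0.cs _ a2, h0.cp e ht] at b2
      refine (zer _ (Q e he ht) b1 b2).imp_right fun h => ⟨h, ?_⟩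
      have := q e ht
      rw [sq e he, h] at this
      exact mul_right_cancel (this.symm.trans s2.symm)
    have N : ∀ e ∈ E, e ∈ Ns T → e ∈ T := fun e he hn => by
      by_contra ne
      have D : ∀ t ∈ T, co (e * t * e⁻¹) + co t = 0 ∨
          (co (e * t * e⁻¹) + co t = (0, 0, 0, 1) ∧ c1 = c2) := fun t ht => by
        have m := mem_normalizer_conj hn ht
        rw [← co_inv h0 ht, ← h0.mul _ m _ (inv_mem ht)]
        refine Z _ ?_ (mul_mem m (inv_mem ht))
        rw [mul_assoc, mul_assoc, ← mul_assoc t]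
        exact mul_mem he (mem_normalizer_conj (HE (TH ht)) (inv_mem he))
      have D0 : ∀ t ∈ T, co (e * t * e⁻¹) + co t = 0 := fun t ht => by
        refine (D t ht).elim id fun ⟨_, hc⟩ => ?_
        subst hc
        have fx : e * c1 * e⁻¹ = c1 := by
          obtain ⟨a, ha, ea⟩ := h0.surj (0, 1, 1, 0)
          have e1 : a * a = c1 := by rw [q a ha, ea]; exact mul_one _
          have e2 := q _ (mem_normalizer_conj hn ha)
          rw [conj_mul, e1] at e2
          generalize Q1 _ = i, Q2 _ = j at e2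
          cases i <;> cases j <;> simp_all [F, conj_eq_one_iff]
        have I : ∀ t ∈ T, A (co (e * t * e⁻¹)) (co t) := fun t ht => F_inj s1 s1 rfl n1 n1 (by
          rw [← q _ (mem_normalizer_conj hn ht), conj_mul, q t ht, F, ← conj_mul]
          cases Q1 (co t) <;> cases Q2 (co t) <;> simp [fx])
        obtain ⟨a, ha, ea⟩ := h0.surj (1, 0, 0, 0)
        have i := I _ (mul_mem ht ha)
        rw [← conj_mul, h0.mul _ (mem_normalizer_conj hn ht) _ (mem_normalizer_conj hn ha),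
          h0.mul t ht a ha, ea] at i
        exact shift _ _ _ ((D t ht).imp_right And.left) (ea ▸ (D a ha).imp_right And.left) (I t ht)
          (ea ▸ I a ha) i
      have := (ea h0).card_le1 h4 (g := e) (fun t ht => by
        have m := mem_normalizer_conj hn ht
        refine (h0.ker _ (mul_mem m (inv_mem ht))).1 ?_
        rw [h0.mul _ m _ (inv_mem ht), co_inv h0 ht, D0 t ht]) (sq e he ▸ one_mem _) ne
      have := h0.card
      have := Nat.card_pos (α := Phi T)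
      omega
    have ET : E ≤ T := by
      by_contra ne
      obtain ⟨g, ⟨g1, g2⟩, g3⟩ := SetLike.exists_of_lt (lt_inf_normalizer (h0.p2.to_le
        (sup_le TH EH)) (left_lt_sup.2 ne))
      have : g ∈ ((T ⊔ E : Subgroup G) : Set G) := g1
      replace g2 : g ∈ Ns T := g2
      rw [coe_mul_of_left_le_normalizer_right T E (TH.trans HE)] at this
      obtain ⟨t, ht, e, he, rfl⟩ := this
      exact g3 (mul_mem ht (N e he ((mul_mem_cancel_left (le_normalizer ht)).1 g2)))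
    let K : Subgroup G :=
      { carrier := {a | ∃ i j, a = F c1 c2 i j}
        mul_mem' := by rintro _ _ ⟨i, j, rfl⟩ ⟨i', j', rfl⟩; exact ⟨_, _, F_mul s1 s2 s3 ..⟩
        one_mem' := ⟨false, false, (mul_one _).symm⟩
        inv_mem' := by
          rintro _ ⟨i, j, rfl⟩
          exact ⟨i, j, inv_eq_of_mul_eq_one_left (by rw [F_mul s1 s2 s3]; simp [F])⟩ }
    have PK : ∀ f ∈ Phi T, f = 1 ∨ f = c1 ∨ f = c2 ∨ f = c1 * c2 := fun f hf => by
      obtain ⟨i, j, rfl⟩ := (Phi_le_iff (K := K)).2 (fun t ht => ⟨_, _, q t ht⟩) hf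
      cases i <;> cases j <;> simp [F]
    by_cases hc : c1 = c2
    · subst hc
      obtain ⟨w, hw, ew⟩ := h0.surj (0, 0, 0, 1)
      refine card_le_four (c1 := c1) (c2 := w) (c3 := w * c1) fun e he => ?_
      rcases Z e he (ET he) with h | ⟨h, -⟩
      · have := PK e ((h0.ker e (ET he)).1 h)
        rw [s1] at this
        tauto
      · have := PK _ (co_eq h0 hw (ET he) (ew.trans h.symm))
        simp only [s1, inv_mul_eq_iff_eq_mul, mul_one] at this
        tauto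
    · exact card_le_four fun e he =>
        PK e ((h0.ker e (ET he)).1 ((Z e he (ET he)).resolve_right fun h => hc h.2))
  · have c : ∀ t ∈ T, ⁅z, t⁆ = 1 := fun t ht =>
      commutatorElement_eq_one_iff_mul_comm.2 (cs_comm hc (TP h0 ht))
    have zT := h0.faith z (mem_sup_left ⟨h0.le hz, le_normalizer hz⟩) fun t ht =>
      c t ht ▸ one_mem _
    rcases rad (co z) with h | ⟨u, h⟩
    · exact cs_comm h1 ((h0.ker z zT).1 h)
    · obtain ⟨t, ht, rfl⟩ := h0.surj u
      have := (sq_mul h0 h1 zT ht).1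
      rw [c t ht, mul_one, q _ (mul_mem zT ht), q z zT, q t ht, h0.mul z zT t ht,
        F_mul s1 s2 s3] at this
      exact (h (F_inj s1 s2 s3 n1 n2 this)).elim

end TNo

end Cfsg.Lib.GHM
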