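import Cfsg.Agent.GHM.K3e
import Cfsg.Agent.GHM.K1
import Cfsg.Agent.GHM.K2
import Cfsg.Agent.GHM.K4
import Cfsg.Agent.GHM.NfV
import Cfsg.Agent.GHM.NfX
import Cfsg.Agent.GHM.ModW
import Cfsg.Agent.GHM.ModP
import Cfsg.Agent.GHM.LemD
import Cfsg.Agent.GHM.Shape
import Cfsg.Agent.GHM.D1e
import Cfsg.Agent.GHM.D1f
import Cfsg.Agent.GHM.D1g
import Cfsg.Agent.GHM.FN
import Cfsg.Agent.GHM.QF
import Cfsg.Agent.GHM.QT
import Cfsg.Agent.GHM.QN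
import Cfsg.Agent.GHM.QG
import Cfsg.Agent.GHM.QE
import Cfsg.Agent.GHM.T2
import Cfsg.Agent.GHM.TB1
import Cfsg.Agent.GHM.TB2
import Cfsg.Agent.GHM.TA
import Cfsg.Agent.GHM.TA1
import Cfsg.Agent.GHM.TC
import Cfsg.Agent.GHM.TPhi
import Cfsg.Agent.GHM.TNo
import Cfsg.Agent.GHM.TD
import Cfsg.Agent.GHM.TBv
import Cfsg.Agent.GHM.BW
import Cfsg.Agent.GHM.BN
import Cfsg.Agent.GHM.Six

/-!
# Simple groups of sectional 2-rank at most four: the type of the Sylow 2-subgroup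
-/

set_option autoImplicit false

namespace Cfsg.Lib.GHM

open Subgroup Cfsg.Lib.Trans Cfsg.Lib.Gold Cfsg.Lib.GHB
open scoped commutatorElement

universe u

variable {G : Type u} [Group G] [Finite G] {S : Sylow 2 G} {P : Subgroup G}
  {a b d s t z : G} {k : ℕ}

theorem D1.false (h0 : D1 S P d s z b a k) : False := by
  have main : ∀ {P d s b a k}, D1 S P d s z b a (k + 1) → False := fun h =>
    h.exists_sp.elim fun _ hr => (h.fn hr).false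
  cases k with
  | succ k => exact main h0
  | zero =>
    obtain ⟨P', d', s', y, hv, hy⟩ := h0.second
    have zc : ∀ x ∈ (S : Subgroup G), x * z = z * x := fun x hx => h0.dh.zc hx
    have eP : P' = (S : Subgroup G) ⊓ C1 y := by
      rw [hv.eqP, (inf_eq_left (b := C1 z)).2 fun x hx => mem_centralizer_singleton_iff.2 (zc x hx)]
    obtain ⟨k', a', hd⟩ := lemD S.isPGroup' (hv.le hv.zP) (hv.le hv.bP) hv.z2 hv.z1 hv.b2 zc
      (eP ▸ hv.nphi) (fun x hx hn => (hv.hN hx (eP ▸ hn)).2) hv.sS hv.sb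
    cases k' with
    | zero => exact (h0.fn0 ⟨h0.cx, hv, hd⟩ hy).false
    | succ k' => exact main ⟨h0.cx, hv, hd⟩

theorem D2.false (h0 : D2 S P d s z b a t k) : False := by
  by_cases h : ∃ r ∈ (S : Subgroup G), r * z = z * r ∧ ∃ l l' : ℤ, r * b * r⁻¹ = a ^ l * b ∧
      r * (t * b * t⁻¹) * r⁻¹ = t * (a ^ l' * b) * t⁻¹ ∧ Odd l ∧ Even l'
  · obtain ⟨r, hr, h1, l, l', e1, e2, o, ev⟩ := h
    obtain ⟨a', t', r', hv⟩ := h0.nfV hr h1 ⟨l, o, e1⟩ ⟨l', ev, e2⟩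
    rcases hv.rr with e | ⟨hk, e⟩
    · exact hv.out e
    · obtain ⟨k, rfl⟩ := Nat.exists_eq_add_of_le' hk
      rcases hv.br with e' | ⟨-, e'⟩
      exacts [hv.k1 e' e, hv.k2 e' e]
  · obtain ⟨k', rfl, a', t', x, hx | hx⟩ := h0.nfX fun r hr h1 l l' e1 e2 o =>
      Int.not_even_iff_odd.1 fun ev => h ⟨r, hr, h1, l, l', e1, e2, o, ev⟩
    · rcases hx.x2 with e | e
      exacts [hx.out e, hx.false1 rfl rfl rfl e]
    · exact hx.false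

/-- No `Tri` has a commutator group of order four. -/
theorem Cx.t4 (h0 : Cx S) : ¬ GV (S : Subgroup G) := fun h => by
  obtain ⟨P, d, s, z, b, hv⟩ := h.vf S.isPGroup'
  obtain ⟨k, a, hd⟩ := lemD (H := (S : Subgroup G) ⊓ C1 z) (S.isPGroup'.to_le inf_le_left)
    ⟨hv.le hv.zP, mem_centralizer_singleton_iff.2 rfl⟩
    ⟨hv.le hv.bP, mem_centralizer_singleton_iff.2 hv.zb.symm⟩ hv.z2 hv.z1 hv.b2
    (fun x hx => mem_centralizer_singleton_iff.1 hx.2) (hv.eqP ▸ hv.nphi)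
    (fun x hx hn => (hv.hN hx.1 (hv.eqP ▸ hn)).2)
    ⟨hv.sS, mem_centralizer_singleton_iff.2 hv.sz⟩ hv.sb
  rcases shape h0.r4 S.isPGroup' hd (hv.eqP ▸ hv.nphi)
    (fun x hx hn => (hv.hN hx (hv.eqP ▸ hn)).1) with e | ⟨t, ht⟩
  · exact D1.false ⟨h0, hv, by rwa [inf_eq_left.2 e] at hd⟩
  · exact D2.false ⟨h0, hv, ht⟩

theorem Cx.t3' (h0 : Cx S) (h1 : Tri (S : Subgroup G) P d s) (h2 : ¬ (S : Subgroup G) ≤ Ns P) :
    GV (S : Subgroup G) ∨ ((GQ (S : Subgroup G) ∨ GHA.NoE8 (S : Subgroup G)) ∧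
      ∀ z ∈ P, z ∈ Cs P → d * z = z * d) := by
  have gd : GD P d → GV (S : Subgroup G) ∨ ((GQ (S : Subgroup G) ∨ GHA.NoE8 (S : Subgroup G)) ∧
      ∀ z ∈ P, z ∈ Cs P → d * z = z * d) := by
    rintro (⟨Q, k1, k2⟩ | ⟨⟨Q, k1, k2⟩, k3⟩)
    exacts [.inl ⟨P, Q, d, s, h1, k1, k2⟩, .inr ⟨.inl ⟨P, Q, d, s, h1, k1, k2⟩, k3⟩]
  obtain ⟨T, x, h3⟩ := h1.t2 S.isPGroup' h2
  by_cases hd : d ∈ Ns T
  · obtain ⟨s', p, h4⟩ := h3.ta h0.r4 hd
    by_cases hf : ∀ t ∈ T, ⁅d, t⁆ ∈ Phi T → t ∈ Phi T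
    · obtain ⟨d', x', co, γ, e, h5⟩ := h4.tc hf
      by_cases hΦ : Phi T = ⊥
      · rcases (by decide : ∀ γ : ZMod 2, γ = 0 ∨ γ = 1) γ with rfl | rfl
        · obtain ⟨δ, σ, τ, z₁, b₁, z₂, b₂, h6⟩ := h5.bv hΦ
          obtain ⟨Y, δ', h7⟩ := h6.bw
          exact .inl (h7.gv (h7.norm h0.r4))
        · exact (h5.caseD h0 hΦ).elim
      · obtain ⟨k1, k2⟩ := h5.noE8 h0.r4 (h5.phi h0.r4) hΦ
        refine .inr ⟨.inr k1, fun z hz hc => ?_⟩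
        rcases e with rfl | rfl
        exacts [k2 z hz hc, (Commute.inv_left_iff.1 (k2 z hz hc)).eq]
    · push Not at hf
      obtain ⟨t, ht, k1, k2⟩ := hf
      exact gd (h4.a1 h0.r4 ht k2 k1)
  · obtain ⟨K, h4⟩ := h3.tb hd
    exact gd (h4.gd h0.r4)

/-- A `Tri` that is not normal in `S`. -/
theorem Cx.t3 (h0 : Cx S) (h1 : Tri (S : Subgroup G) P d s) (h2 : ¬ (S : Subgroup G) ≤ Ns P) :
    (GV (S : Subgroup G) ∨ GQ (S : Subgroup G) ∨ GHA.NoE8 (S : Subgroup G)) ∧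
      ∀ z ∈ (S : Subgroup G), z ∈ Cs (S : Subgroup G) → z * z = 1 → d * z ≠ z * d →
        GV (S : Subgroup G) :=
  ⟨(h0.t3' h1 h2).imp_right And.left, fun z hz hc _ k => (h0.t3' h1 h2).resolve_right fun h =>
    k (h.2 z (h1.cenP hz hc) (cs_mono h1.le hc))⟩

/-- A `Tri` with quaternion commutator group forces the absence of normal eight-groups. -/
theorem Cx.t5 (h0 : Cx S) (h1 : GQ (S : Subgroup G)) : GHA.NoE8 (S : Subgroup G) := by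
  obtain ⟨P, d, s, z, i, j, hq⟩ := h1.qf S.isPGroup'
  rcases hq.tower h0.r4 S.isPGroup' with ⟨k, a, ha, e⟩ | ⟨i', k1, k2, k3, k4, k5, k6⟩
  · by_cases hz : (S : Subgroup G) ≤ C1 z
    · rw [inf_eq_left.2 hz] at ha
      by_contra hn
      obtain ⟨R, f, σ, hg⟩ := Q1.qg ⟨h0, hq, ha, e⟩ fun R f σ hT hf => by_contra fun k =>
        h0.t4 ((h0.t3 hT k).2 z (hq.i2 ▸ hq.le (mul_mem hq.iP hq.iP))
          (cs_of fun x hx => (mem_centralizer_singleton_iff.1 (hz hx)).symm) hq.z2 hf)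
      exact hg.false hn
    · exact ha.q1b h0.r4 S.isPGroup' hz
  · exact hq.q2 S.isPGroup' k1 k2 k3 k4 k5 k6

/-- The Sylow 2-subgroup is of one of the listed types. -/
theorem Ctx.out (h : Ctx S) : Out S :=
  h.out_of (fun c _ _ _ => c.t3) Cx.t4 Cx.t5

end Cfsg.Lib.GHM
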