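import Cfsg.Agent.GHM.T2

/-!
# Simple groups of sectional 2-rank at most four: a Sylow subgroup of `N(T)` in the tensor case
-/

set_option autoImplicit false

namespace Cfsg.Lib.GHM

open Subgroup Cfsg.Lib.Trans Cfsg.Lib.Gold Cfsg.Lib.Rank2 Cfsg.Lib.GHB
open scoped commutatorElement

universe u

variable {G : Type u} [Group G] {H P T : Subgroup G} {a b d g h p s x y : G} {co : G → V4}
  {γ : ZMod 2} {φ ψ : V4 → V4}

namespace TSy

/-- `g` normalises `T` and acts as `φ` on the coordinates. -/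
def Ac (T : Subgroup G) (co : G → V4) (g : G) (φ : V4 → V4) : Prop :=
  g ∈ Ns T ∧ ∀ a ∈ T, co (g * a * g⁻¹) = φ (co a)

/-- The eight actions. -/
def mm (γ : ZMod 2) (e₁ e₂ e₃ : Bool) (v : V4) : V4 :=
  cond e₁ mp id (cond e₂ ms id (cond e₃ (mx γ) id v))

theorem Ac.mul (h1 : Ac T co g φ) (h2 : Ac T co h ψ) : Ac T co (g * h) fun v => φ (ψ v) :=
  ⟨mul_mem h1.1 h2.1, fun a ha => by
    beta_reduce
    rw [← h2.2 a ha, ← h1.2 _ (mem_normalizer_conj h2.1 ha)]; congr 1; group⟩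

theorem Ac.of_eq (h1 : Ac T co g φ) (e : ∀ v, φ v = ψ v) : Ac T co g ψ := funext e ▸ h1

theorem Ac.inv (h1 : Ac T co g φ) (e : ∀ v, ψ (φ v) = v) : Ac T co g⁻¹ ψ :=
  ⟨inv_mem h1.1, fun a ha => by
    rw [← e (co (g⁻¹ * a * g⁻¹⁻¹)), ← h1.2 _ (mem_normalizer_conj (inv_mem h1.1) ha)]
    congr 2; group⟩

theorem ac_one : Ac T co 1 id := ⟨one_mem _, fun a _ => by simp⟩

theorem Ac.cond (h1 : Ac T co g φ) (e : Bool) : Ac T co (cond e g 1) (cond e φ id) := by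
  cases e
  exacts [ac_one, h1]

theorem add_self (v : V4) : v + v = 0 := by revert v; decide

set_option synthInstance.maxSize 2000 in
theorem pick : ∀ (γ : ZMod 2) (a b c a' b' c' : Bool), (∀ v, mm γ a b c (mm γ a b c v) = v) →
    (∀ v, mm γ a' b' c' (mm γ a' b' c' v) = v) →
    (∀ v, mm γ a b c (mm γ a' b' c' v) = mm γ a' b' c' (mm γ a b c v)) →
    (∀ v w, mm γ a b c v = v → mm γ a' b' c' v = v → mm γ a b c w = w → mm γ a' b' c' w = w →
      v = 0 ∨ w = 0 ∨ v = w) → c = false := by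
  decide +kernel

set_option synthInstance.maxSize 2000 in
theorem fix2 : ∀ v w : V4, mp v = v → ms v = v → mp w = w → ms w = w → v = 0 ∨ w = 0 ∨ v = w := by
  decide +kernel

theorem cen : ∀ (γ : ZMod 2) (a a' b' c' : Bool) (v : V4),
    mm γ a a false (mm γ a' b' c' v) = mm γ a' b' c' (mm γ a a false v) := by decide +kernel

end TSy

open TSy

variable [Finite G]

namespace TC

variable (h0 : TC H P T d s x p co γ)
include h0

omit [Finite G] in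
theorem co_one : co 1 = 0 := (h0.ker 1 (one_mem _)).2 (one_mem _)

omit [Finite G] in
theorem co_inv (ha : a ∈ T) : co a⁻¹ = co a := by
  have := h0.mul a ha a⁻¹ (inv_mem ha)
  rw [mul_inv_cancel, h0.co_one, ← add_self (co a)] at this
  exact (add_left_cancel this).symm

omit [Finite G] in
theorem co_eq (ha : a ∈ T) (hb : b ∈ T) : co a = co b ↔ a * b⁻¹ ∈ Phi T := by
  rw [← h0.ker _ (mul_mem ha (inv_mem hb)), h0.mul a ha _ (inv_mem hb), h0.co_inv hb,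
    ← add_self (co b), add_left_inj]

omit [Finite G] in
theorem ac_T (ha : a ∈ T) : Ac T co a id := ⟨le_normalizer ha, fun b hb => by
  rw [h0.mul _ (mul_mem ha hb) _ (inv_mem ha), h0.mul a ha b hb, h0.co_inv ha, add_right_comm,
    add_self, zero_add, id]⟩

omit [Finite G] in
theorem pN : p ∈ N1 H P x := mem_sup_left ⟨h0.le h0.pP, le_normalizer h0.pP⟩

omit [Finite G] in
theorem sN1 : s ∈ N1 H P x := mem_sup_left ⟨h0.sS, h0.sN⟩

omit [Finite G] in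
theorem xN1 : x ∈ N1 H P x := mem_sup_right (mem_zpowers x)

theorem ac_p : Ac T co p mp := ⟨h0.toT2.nT h0.pN, h0.cp⟩

theorem ac_s : Ac T co s ms := ⟨h0.toT2.nT h0.sN1, h0.cs⟩

theorem ac_x : Ac T co x (mx γ) := ⟨h0.toT2.nT h0.xN1, h0.cx⟩

omit [Finite G] in
theorem ac_d : Ac T co d md := ⟨h0.dT, h0.cd⟩

theorem ac_N (hg : g ∈ N1 H P x) : ∃ e₁ e₂ e₃ : Bool, Ac T co g (mm γ e₁ e₂ e₃) ∧
    ∃ t ∈ T, g = cond e₁ p 1 * cond e₂ s 1 * cond e₃ x 1 * t := by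
  obtain ⟨e₁, e₂, e₃, t, ht, rfl⟩ := h0.toT2.cos h0.pP h0.pT h0.sx
    (fun e => h0.sP (h0.toT2.TP e)) hg
  exact ⟨e₁, e₂, e₃, (((h0.ac_p.cond e₁).mul (h0.ac_s.cond e₂)).mul (h0.ac_x.cond e₃)).mul
    (h0.ac_T ht), t, ht, rfl⟩

omit [Finite G] in
theorem ac_eq (h1 : Ac T co g φ) (h2 : Ac T co g ψ) (v : V4) : φ v = ψ v := by
  obtain ⟨a, ha, rfl⟩ := h0.surj v
  rw [← h1.2 a ha, h2.2 a ha]

omit [Finite G] in
theorem mem_T (hg : g ∈ N1 H P x) (h1 : Ac T co g id) : g ∈ T := h0.faith g hg fun t ht =>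
  (h0.co_eq (mem_normalizer_conj h1.1 ht) ht).1 (h1.2 t ht)

/-- Every element of `N(T)` acts on the coordinates. -/
theorem exists_ac (hy : y ∈ Ns T) : ∃ F : V4 ≃ V4, F 0 = 0 ∧ Ac T co y F := by
  have k : ∀ y ∈ Ns T, ∀ a ∈ T, ∀ b ∈ T, co a = co b → co (y * a * y⁻¹) = co (y * b * y⁻¹) :=
    fun y hy a ha b hb e => by
      rw [h0.co_eq (mem_normalizer_conj hy ha) (mem_normalizer_conj hy hb), conj_inv, conj_mul]
      have h1 : cj y (Phi T) = Phi T := by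
        rw [← cj_def, map_Phi, cj_def, mem_Ns_iff.1 hy]
      exact h1 ▸ conj_mem_cj.2 ((h0.co_eq ha hb).1 e)
  choose f f1 f2 using h0.surj
  refine ⟨Equiv.ofBijective (fun v => co (y * f v * y⁻¹)) (Finite.injective_iff_bijective.1
    fun v w e => ?_), ?_, hy, fun a ha => k y hy _ ha _ (f1 _) (f2 _).symm⟩
  · have := k _ (inv_mem hy) _ (mem_normalizer_conj hy (f1 v)) _ (mem_normalizer_conj hy (f1 w)) e
    simpa [mul_assoc, f2] using this
  · have := k y hy _ (f1 0) _ (one_mem _) ((f2 0).trans h0.co_one.symm)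
    simpa [h0.co_one] using this

theorem mem_Ns (hy : y ∈ Ns T) (h1 : y * p * y⁻¹ ∈ P) : y ∈ Ns P := ns_of fun a ha => by
  by_cases e : a ∈ T
  · exact h0.toT2.TP (mem_normalizer_conj hy e)
  have := h0.toT2.TP (mem_normalizer_conj hy (h0.toT2.idxP a ha p h0.pP e h0.pT))
  rwa [← conj_mul, mul_mem_cancel_right h1] at this

theorem syl1 : IsSylowIn 2 (N1 H P x) (Ns T) := by
  refine isSylowIn_of_maximal h0.toT2.nT (h0.p2.to_le h0.toT2.N1_le) fun Q hQ h1 h2 => ?_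
  by_contra h3
  obtain ⟨y, hy, h4⟩ := SetLike.not_le_iff_exists.1
    (lt_inf_normalizer hQ (lt_of_le_not_ge h1 h3)).not_ge
  have hT := h2 hy.1
  obtain ⟨F, F0, hF⟩ := h0.exists_ac hT
  have k : ∀ g ∈ N1 H P x, ∀ φ, Ac T co g φ → ∃ e₁ e₂ e₃ : Bool,
      (∀ v, mm γ e₁ e₂ e₃ v = F (φ (F.symm v))) ∧
      ∃ t ∈ T, y * g * y⁻¹ = cond e₁ p 1 * cond e₂ s 1 * cond e₃ x 1 * t := fun g hg φ hφ => by
    obtain ⟨e₁, e₂, e₃, h5, h6⟩ := h0.ac_N (mem_normalizer_conj hy.2 hg)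
    exact ⟨e₁, e₂, e₃, h0.ac_eq h5 ((hF.mul hφ).mul (hF.inv F.symm_apply_apply)), h6⟩
  obtain ⟨a₁, a₂, a₃, ha, t, ht, e⟩ := k p h0.pN _ h0.ac_p
  obtain ⟨b₁, b₂, b₃, hb, -⟩ := k s h0.sN1 _ h0.ac_s
  obtain ⟨c₁, c₂, c₃, hc, -⟩ := k x h0.xN1 _ h0.ac_x
  obtain rfl := pick γ a₁ a₂ a₃ b₁ b₂ b₃
    (fun v => by rw [ha, ha, F.symm_apply_apply, (by decide : ∀ v, mp (mp v) = v), F.apply_symm_apply])
    (fun v => by rw [hb, hb, F.symm_apply_apply, (by decide : ∀ v, ms (ms v) = v), F.apply_symm_apply])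
    (fun v => by
      rw [ha, hb, hb, ha, F.symm_apply_apply, F.symm_apply_apply,
        (by decide : ∀ v, mp (ms v) = ms (mp v))])
    (fun v w => by
      obtain ⟨v, rfl⟩ := F.surjective v
      obtain ⟨w, rfl⟩ := F.surjective w
      have h5 : ∀ v, F v = 0 ↔ v = 0 := fun v => (F0 ▸ F.apply_eq_iff_eq (x := v) (y := 0) :)
      simp only [ha, hb, F.symm_apply_apply, F.apply_eq_iff_eq, h5]
      exact fix2 v w)
  have k2 : ∀ g ∈ Q, g ∈ Ns T → g * p * g⁻¹ ∈ P → g ∈ H ⊓ Ns P := fun g h5 h6 h7 =>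
    (h0.toTri.syl.eq_inf hQ (le_sup_left.trans h1)).le ⟨h5, h0.mem_Ns h6 h7⟩
  have ne : a₁ ≠ a₂ := by
    rintro rfl
    have := cen γ a₁ c₁ c₂ c₃ (F (1, 0, 0, 0))
    simp only [ha, hc, F.symm_apply_apply, F.apply_eq_iff_eq] at this
    revert this
    generalize γ = c
    revert c
    decide
  refine h4 (h0.toT2.memN1.2 ?_)
  cases a₁ <;> cases a₂
  · exact (ne rfl).elim
  · refine .inr (k2 _ (mul_mem (h1 h0.xN1) hy.1) (mul_mem h0.ac_x.1 hT) ?_)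
    have h5 : x * y * p * (x * y)⁻¹ = x * s * x⁻¹ * (x * t * x⁻¹) := by
      rw [conj_mul, ← (by simpa using e : y * p * y⁻¹ = s * t)]; group
    rw [h5]
    exact mul_mem (h0.toT2.xxP ▸ conj_mem_cj.2 h0.sx)
      (h0.toT2.TP (mem_normalizer_conj h0.ac_x.1 ht))
  · exact .inl (k2 _ hy.1 hT (by simpa [e] using mul_mem h0.pP (h0.toT2.TP ht)))
  · exact (ne rfl).elim

end TC

end Cfsg.Lib.GHM
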